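import Cfsg.Agent.H492.TwoSub_m3
import Cfsg.Agent.HN.DistinctC
import Cfsg.Agent.S1701
import Cfsg.Agent.H678.DG.Basic
import Cfsg.Agent.Prune
set_option linter.all false

section
prune_inst 0x7f00000000000000000000000000000000000000000000000000000000000000000000000000000000000000000000000000000000000000000000000000000000000000000000000000000000000000003fffffffffffffffffffffffffffbeffbdffffffff

-- part: H492/IMHN
section
set_option linter.all false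
open scoped Cfsg.Agent.FastGrp

/-!
# The Itô-Michler property of the Harada-Norton group (helper492)

Two irreducible constituents of the permutation character of degree 1539000 (on the cosets of the
centralizer of an involution), of degrees `8910 = 2 * 3 ^ 4 * 5 * 11` and
`365750 = 2 * 5 ^ 3 * 7 * 11 * 19`, from the table of local counts of `Cfsg.Agent.HN.Index`.
-/

set_option autoImplicit false
set_option linter.style.longLine false

namespace Cfsg.Agent.H492.IMHN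

open Cfsg Cfsg.Agent.HN Cfsg.Agent.HN.Pres Cfsg.Agent.HN.DCover Cfsg.Agent.HN.NormalH Cfsg.Agent.HN.DSem
open Cfsg.Agent.HN.Index Cfsg.Agent.H492.IMSph Cfsg.Agent.H33

universe u

/-! ### the sizes of the double cosets -/

/-- the sizes -/
def ss : Fin 9 → ℕ := ![1, 1408, 2200, 35200, 123200, 354816, 739200, 5775, 277200]

theorem sizes_aux {a0 a1 a2 a3 a4 a5 a6 a7 a8 : ℕ} (s0 : a0 = 1) (s1 : a0 * 1408 = a1 * 1)
    (s2 : a1 * 50 = a2 * 32) (s3 : a1 * 450 = a3 * 18) (s4 : a1 * 350 = a4 * 4)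
    (s5 : a1 * 504 = a5 * 2) (s6 : a2 * 672 = a6 * 2) (s7 : a6 * 10 = a7 * 1280)
    (s8 : a6 * 240 = a8 * 640) :
    a0 = 1 ∧ a1 = 1408 ∧ a2 = 2200 ∧ a3 = 35200 ∧ a4 = 123200 ∧ a5 = 354816 ∧ a6 = 739200 ∧
      a7 = 5775 ∧ a8 = 277200 := by
  omega

theorem sizes (i : Fin 9) : Count.sz H (w9 i) = ss i := by
  have hdis := DistinctC.hdis
  have s0 : Count.sz H (w9 0) = 1 := by rw [w9_zero]; exact Count.sz_one H
  have s1 : Count.sz H (w9 0) * 1408 = Count.sz H (w9 1) * 1 := balance hdis 0 1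
  have s2 : Count.sz H (w9 1) * 50 = Count.sz H (w9 2) * 32 := balance hdis 1 2
  have s3 : Count.sz H (w9 1) * 450 = Count.sz H (w9 3) * 18 := balance hdis 1 3
  have s4 : Count.sz H (w9 1) * 350 = Count.sz H (w9 4) * 4 := balance hdis 1 4
  have s5 : Count.sz H (w9 1) * 504 = Count.sz H (w9 5) * 2 := balance hdis 1 5
  have s6 : Count.sz H (w9 2) * 672 = Count.sz H (w9 6) * 2 := balance hdis 2 6
  have s7 : Count.sz H (w9 6) * 10 = Count.sz H (w9 7) * 1280 := balance hdis 6 7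
  have s8 : Count.sz H (w9 6) * 240 = Count.sz H (w9 8) * 640 := balance hdis 6 8
  obtain ⟨e0, e1, e2, e3, e4, e5, e6, e7, e8⟩ := sizes_aux s0 s1 s2 s3 s4 s5 s6 s7 s8
  fin_cases i
  exacts [e0, e1, e2, e3, e4, e5, e6, e7, e8]

theorem ss_inj : ∀ i j : Fin 9, ss i = ss j → i = j := by decide

theorem card_hn : Nat.card Cfsg.Spor.HN = 273030912000000 := Cfsg.Agent.S1701.result.2

instance finite_hn : Finite Cfsg.Spor.HN := Nat.finite_of_card_ne_zero (by rw [card_hn]; norm_num)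

theorem hinv (i : Fin 9) :
    (w9 i)⁻¹ ∈ DoubleCoset.doubleCoset (w9 i) (H : Set Cfsg.Spor.HN) (H : Set Cfsg.Spor.HN) :=
  inv_mem_of_sz H w9 covers (fun i j h => ss_inj i j (by rw [← sizes, ← sizes, h])) i

/-! ### the table -/

theorem rows (x : Fin 9 → ℂ) (μ : ℤ) (h : ∀ i, ∑ j, (kk i j : ℂ) * x j = ((μ : ℚ) : ℂ) * x i) :
    (1408 * x 1 = (μ : ℂ) * x 0) ∧
    (1 * x 0 + 53 * x 1 + 50 * x 2 + 450 * x 3 + 350 * x 4 + 504 * x 5 = (μ : ℂ) * x 1) ∧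
    (32 * x 1 + 32 * x 3 + 672 * x 4 + 672 * x 6 = (μ : ℂ) * x 2) ∧
    (18 * x 1 + 2 * x 2 + 100 * x 3 + 112 * x 4 + 504 * x 5 + 672 * x 6 = (μ : ℂ) * x 3) ∧
    (4 * x 1 + 12 * x 2 + 32 * x 3 + 160 * x 4 + 288 * x 5 + 552 * x 6 + 360 * x 8 = (μ : ℂ) * x 4) ∧
    (2 * x 1 + 50 * x 3 + 100 * x 4 + 356 * x 5 + 650 * x 6 + 250 * x 8 = (μ : ℂ) * x 5) ∧
    (2 * x 2 + 32 * x 3 + 92 * x 4 + 312 * x 5 + 720 * x 6 + 10 * x 7 + 240 * x 8 = (μ : ℂ) * x 6) ∧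
    (1280 * x 6 + 128 * x 7 = (μ : ℂ) * x 7) ∧
    (160 * x 4 + 320 * x 5 + 640 * x 6 + 288 * x 8 = (μ : ℂ) * x 8) := by
  have e : ∀ i, kk i 0 * x 0 + (kk i 1 * x 1 + (kk i 2 * x 2 + (kk i 3 * x 3 + (kk i 4 * x 4 +
      (kk i 5 * x 5 + (kk i 6 * x 6 + (kk i 7 * x 7 + (kk i 8 * x 8 + 0)))))))) = (μ : ℂ) * x i := by
    intro i
    have h1 := h i
    simp only [Fin.sum_univ_succ, Fin.sum_univ_zero] at h1
    rw [Rat.cast_intCast] at h1
    exact h1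
  refine ⟨?_, ?_, ?_, ?_, ?_, ?_, ?_, ?_, ?_⟩
  · have h0 : ((0 : ℕ) : ℂ) * x 0 + (((1408 : ℕ) : ℂ) * x 1 + (((0 : ℕ) : ℂ) * x 2 + (((0 : ℕ) : ℂ) * x 3 + (((0 : ℕ) : ℂ) * x 4 + (((0 : ℕ) : ℂ) * x 5 + (((0 : ℕ) : ℂ) * x 6 + (((0 : ℕ) : ℂ) * x 7 + (((0 : ℕ) : ℂ) * x 8 + 0)))))))) = (μ : ℂ) * x 0 := e 0
    push_cast at h0
    linear_combination h0
  · have h1 : ((1 : ℕ) : ℂ) * x 0 + (((53 : ℕ) : ℂ) * x 1 + (((50 : ℕ) : ℂ) * x 2 + (((450 : ℕ) : ℂ) * x 3 + (((350 : ℕ) : ℂ) * x 4 + (((504 : ℕ) : ℂ) * x 5 + (((0 : ℕ) : ℂ) * x 6 + (((0 : ℕ) : ℂ) * x 7 + (((0 : ℕ) : ℂ) * x 8 + 0)))))))) = (μ : ℂ) * x 1 := e 1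
    push_cast at h1
    linear_combination h1
  · have h2 : ((0 : ℕ) : ℂ) * x 0 + (((32 : ℕ) : ℂ) * x 1 + (((0 : ℕ) : ℂ) * x 2 + (((32 : ℕ) : ℂ) * x 3 + (((672 : ℕ) : ℂ) * x 4 + (((0 : ℕ) : ℂ) * x 5 + (((672 : ℕ) : ℂ) * x 6 + (((0 : ℕ) : ℂ) * x 7 + (((0 : ℕ) : ℂ) * x 8 + 0)))))))) = (μ : ℂ) * x 2 := e 2
    push_cast at h2
    linear_combination h2
  · have h3 : ((0 : ℕ) : ℂ) * x 0 + (((18 : ℕ) : ℂ) * x 1 + (((2 : ℕ) : ℂ) * x 2 + (((100 : ℕ) : ℂ) * x 3 + (((112 : ℕ) : ℂ) * x 4 + (((504 : ℕ) : ℂ) * x 5 + (((672 : ℕ) : ℂ) * x 6 + (((0 : ℕ) : ℂ) * x 7 + (((0 : ℕ) : ℂ) * x 8 + 0)))))))) = (μ : ℂ) * x 3 := e 3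
    push_cast at h3
    linear_combination h3
  · have h4 : ((0 : ℕ) : ℂ) * x 0 + (((4 : ℕ) : ℂ) * x 1 + (((12 : ℕ) : ℂ) * x 2 + (((32 : ℕ) : ℂ) * x 3 + (((160 : ℕ) : ℂ) * x 4 + (((288 : ℕ) : ℂ) * x 5 + (((552 : ℕ) : ℂ) * x 6 + (((0 : ℕ) : ℂ) * x 7 + (((360 : ℕ) : ℂ) * x 8 + 0)))))))) = (μ : ℂ) * x 4 := e 4
    push_cast at h4
    linear_combination h4
  · have h5 : ((0 : ℕ) : ℂ) * x 0 + (((2 : ℕ) : ℂ) * x 1 + (((0 : ℕ) : ℂ) * x 2 + (((50 : ℕ) : ℂ) * x 3 + (((100 : ℕ) : ℂ) * x 4 + (((356 : ℕ) : ℂ) * x 5 + (((650 : ℕ) : ℂ) * x 6 + (((0 : ℕ) : ℂ) * x 7 + (((250 : ℕ) : ℂ) * x 8 + 0)))))))) = (μ : ℂ) * x 5 := e 5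
    push_cast at h5
    linear_combination h5
  · have h6 : ((0 : ℕ) : ℂ) * x 0 + (((0 : ℕ) : ℂ) * x 1 + (((2 : ℕ) : ℂ) * x 2 + (((32 : ℕ) : ℂ) * x 3 + (((92 : ℕ) : ℂ) * x 4 + (((312 : ℕ) : ℂ) * x 5 + (((720 : ℕ) : ℂ) * x 6 + (((10 : ℕ) : ℂ) * x 7 + (((240 : ℕ) : ℂ) * x 8 + 0)))))))) = (μ : ℂ) * x 6 := e 6
    push_cast at h6
    linear_combination h6
  · have h7 : ((0 : ℕ) : ℂ) * x 0 + (((0 : ℕ) : ℂ) * x 1 + (((0 : ℕ) : ℂ) * x 2 + (((0 : ℕ) : ℂ) * x 3 + (((0 : ℕ) : ℂ) * x 4 + (((0 : ℕ) : ℂ) * x 5 + (((1280 : ℕ) : ℂ) * x 6 + (((128 : ℕ) : ℂ) * x 7 + (((0 : ℕ) : ℂ) * x 8 + 0)))))))) = (μ : ℂ) * x 7 := e 7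
    push_cast at h7
    linear_combination h7
  · have h8 : ((0 : ℕ) : ℂ) * x 0 + (((0 : ℕ) : ℂ) * x 1 + (((0 : ℕ) : ℂ) * x 2 + (((0 : ℕ) : ℂ) * x 3 + (((160 : ℕ) : ℂ) * x 4 + (((320 : ℕ) : ℂ) * x 5 + (((640 : ℕ) : ℂ) * x 6 + (((0 : ℕ) : ℂ) * x 7 + (((288 : ℕ) : ℂ) * x 8 + 0)))))))) = (μ : ℂ) * x 8 := e 8
    push_cast at h8
    linear_combination h8

/-- the eigenvector for the eigenvalue `-112` -/
def vA : Fin 9 → ℚ := ![1, -7/88, 3/22, 5/176, -1/56, -3/1232, -3/1232, 1/77, 1/77]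

theorem uA (x : Fin 9 → ℂ) (h : ∀ i, ∑ j, (kk i j : ℂ) * x j = ((-112 : ℚ) : ℂ) * x i) (i : Fin 9) :
    x i = x 0 * ((vA i : ℚ) : ℂ) := by
  have e := rows x (-112) (by push_cast at h ⊢; exact h)
  obtain ⟨h0, h1, h2, h3, h4, h5, h6, h7, h8⟩ := e
  unfold vA
  fin_cases i
  · show x 0 = x 0 * (((1 : ℚ)) : ℂ)
    simp
  · show x 1 = x 0 * (((-7/88 : ℚ)) : ℂ)
    push_cast
    linear_combination (1/1408) * h0
  · show x 2 = x 0 * (((3/22 : ℚ)) : ℂ)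
    push_cast
    linear_combination (-74257/54912000) * h0 + (4709/312000) * h1 + (341/49920) * h2 + (-321/8320) * h3 + (-1057/24960) * h4 + (1533/52000) * h5 + (21/640) * h6 + (-7/5120) * h7
  · show x 3 = x 0 * (((5/176 : ℚ)) : ℂ)
    push_cast
    linear_combination (-61153/219648000) * h0 + (3461/1248000) * h1 + (-283/199680) * h2 + (-9/33280) * h3 + (7/19968) * h4 + (-1743/208000) * h5 + (21/2560) * h6 + (-7/20480) * h7
  · show x 4 = x 0 * (((-1/56 : ℚ)) : ℂ)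
    push_cast
    linear_combination (25253/139776000) * h0 + (-20771/8736000) * h1 + (89/279552) * h2 + (1343/232960) * h3 + (733/99840) * h4 + (-561/208000) * h5 + (-21/2560) * h6 + (7/20480) * h7
  · show x 5 = x 0 * (((-3/1232 : ℚ)) : ℂ)
    push_cast
    linear_combination (9137/369008640) * h0 + (-709/2096640) * h1 + (205/559104) * h2 + (55/838656) * h3 + (-145/119808) * h4 + (107/16640) * h5 + (-5/1024) * h6 + (5/24576) * h7
  · show x 6 = x 0 * (((-3/1232 : ℚ)) : ℂ)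
    push_cast
    linear_combination (6189/256256000) * h0 + (-393/1456000) * h1 + (23/232960) * h2 + (79/116480) * h3 + (-1/3328) * h4 + (-189/104000) * h5 + (3/1280) * h6 + (-1/10240) * h7
  · show x 7 = x 0 * (((1/77 : ℚ)) : ℂ)
    push_cast
    linear_combination (-2063/16016000) * h0 + (131/91000) * h1 + (-23/43680) * h2 + (-79/21840) * h3 + (1/624) * h4 + (63/6500) * h5 + (-1/80) * h6 + (3/640) * h7
  · show x 8 = x 0 * (((1/77 : ℚ)) : ℂ)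
    push_cast
    linear_combination (-50513/384384000) * h0 + (3781/2184000) * h1 + (-55/69888) * h2 + (-241/58240) * h3 + (1/24960) * h4 + (-29/52000) * h5 + (3/640) * h6 + (-1/5120) * h7

/-- the eigenvector for the eigenvalue `-32` -/
def vB : Fin 9 → ℚ := ![1, -1/44, 1/55, -1/440, 1/1540, 1/616, -1/3080, 1/385, -1/770]

theorem uB (x : Fin 9 → ℂ) (h : ∀ i, ∑ j, (kk i j : ℂ) * x j = ((-32 : ℚ) : ℂ) * x i) (i : Fin 9) :
    x i = x 0 * ((vB i : ℚ) : ℂ) := by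
  have e := rows x (-32) (by push_cast at h ⊢; exact h)
  obtain ⟨h0, h1, h2, h3, h4, h5, h6, h7, h8⟩ := e
  unfold vB
  fin_cases i
  · show x 0 = x 0 * (((1 : ℚ)) : ℂ)
    simp
  · show x 1 = x 0 * (((-1/44 : ℚ)) : ℂ)
    push_cast
    linear_combination (1/1408) * h0
  · show x 2 = x 0 * (((1/55 : ℚ)) : ℂ)
    push_cast
    linear_combination (-301/2640000) * h0 + (-109/7500) * h1 + (-29/1200) * h2 + (71/600) * h3 + (7/40) * h4 + (-413/1250) * h5 + (49/600) * h6 + (-49/9600) * h7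
  · show x 3 = x 0 * (((-1/440 : ℚ)) : ℂ)
    push_cast
    linear_combination (-571/5280000) * h0 + (43/7500) * h1 + (1/400) * h2 + (-1/50) * h3 + (-7/240) * h4 + (77/2500) * h5 + (7/600) * h6 + (-7/9600) * h7
  · show x 4 = x 0 * (((1/1540 : ℚ)) : ℂ)
    push_cast
    linear_combination (-79/3080000) * h0 + (3/17500) * h1 + (19/8400) * h2 + (-2/525) * h3 + (-1/240) * h4 + (43/2500) * h5 + (-7/600) * h6 + (7/9600) * h7
  · show x 5 = x 0 * (((1/616 : ℚ)) : ℂ)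
    push_cast
    linear_combination (157/26611200) * h0 + (-137/75600) * h1 + (-17/12096) * h2 + (53/6048) * h3 + (5/432) * h4 + (-1/150) * h5 + (-1/96) * h6 + (1/1536) * h7
  · show x 6 = x 0 * (((-1/3080 : ℚ)) : ℂ)
    push_cast
    linear_combination (89/36960000) * h0 + (13/52500) * h1 + (13/50400) * h2 + (-11/12600) * h3 + (-1/360) * h4 + (-11/3750) * h5 + (13/1800) * h6 + (-13/28800) * h7
  · show x 7 = x 0 * (((1/385 : ℚ)) : ℂ)
    push_cast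
    linear_combination (-89/4620000) * h0 + (-26/13125) * h1 + (-13/6300) * h2 + (11/1575) * h3 + (1/45) * h4 + (44/1875) * h5 + (-13/225) * h6 + (71/7200) * h7
  · show x 8 = x 0 * (((-1/770 : ℚ)) : ℂ)
    push_cast
    linear_combination (3589/332640000) * h0 + (901/945000) * h1 + (1/9450) * h2 + (-439/75600) * h3 + (-7/2160) * h4 + (67/7500) * h5 + (-1/3600) * h6 + (1/57600) * h7


theorem main (v : Fin 9 → ℚ) (μ : ℚ) (hv0 : v 0 = 1) (hv : ∀ i, ∑ j, (kk i j : ℚ) * v j = μ * v i)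
    (hu : ∀ x : Fin 9 → ℂ, (∀ i, ∑ j, (kk i j : ℂ) * x j = (μ : ℂ) * x i) → ∀ i, x i = x 0 * v i) :
    ∃ χ : IrrCharacter Cfsg.Spor.HN, (χ : Cfsg.Spor.HN → ℂ) 1 *
      ((∑ i, (ss i : ℚ) * v i ^ 2 : ℚ) : ℂ) = 1539000 := by
  obtain ⟨χ, hχ⟩ := exists_irr_of_table H w9 ht DistinctC.hdis covers hinv ptH _
    (Count.card_stab_pos _ _) card_ptH τ mul_mem_doubleCoset kk card_τ 0 w9_zero v μ hv0 hv hu
  refine ⟨χ, ?_⟩
  simp only [sizes] at hχ
  rw [hχ, index_H DistinctC.hdis]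
  norm_num

theorem eigA (i : Fin 9) : ∑ j, (kk i j : ℚ) * vA j = -112 * vA i := by
  revert i; decide +kernel

theorem eigB (i : Fin 9) : ∑ j, (kk i j : ℚ) * vB j = -32 * vB i := by
  revert i; decide +kernel

theorem normA : (∑ i, (ss i : ℚ) * vA i ^ 2 : ℚ) = 1539000 / 8910 := by decide +kernel

theorem normB : (∑ i, (ss i : ℚ) * vB i ^ 2 : ℚ) = 1539000 / 365750 := by decide +kernel

/-- an irreducible character of degree 8910 -/
theorem exists_8910 : ∃ χ : IrrCharacter Cfsg.Spor.HN, (χ : Cfsg.Spor.HN → ℂ) 1 = (8910 : ℕ) := by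
  obtain ⟨χ, hχ⟩ := main vA (-112) rfl eigA uA
  refine ⟨χ, ?_⟩
  rw [normA] at hχ
  push_cast at hχ ⊢
  linear_combination (8910 / 1539000 : ℂ) * hχ

/-- an irreducible character of degree 365750 -/
theorem exists_365750 :
    ∃ χ : IrrCharacter Cfsg.Spor.HN, (χ : Cfsg.Spor.HN → ℂ) 1 = (365750 : ℕ) := by
  obtain ⟨χ, hχ⟩ := main vB (-32) rfl eigB uB
  refine ⟨χ, ?_⟩
  rw [normB] at hχ
  push_cast at hχ ⊢
  linear_combination (365750 / 1539000 : ℂ) * hχ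

theorem im_of_dvd {p : ℕ} (h : p ∣ 8910 ∨ p ∣ 365750) : IM p Cfsg.Spor.HN := by
  rcases h with h | h
  · obtain ⟨χ, hχ⟩ := exists_8910
    exact IM.of_apply_one χ.2 hχ h
  · obtain ⟨χ, hχ⟩ := exists_365750
    exact IM.of_apply_one χ.2 hχ h

/-- **The Harada-Norton group has, for each prime divisor `p` of its order, an irreducible character of
degree divisible by `p`.** -/
theorem im_hn {S : Type u} [Group S] (h : Cfsg.Spor.IsoHN S) {p : ℕ} [hp : Fact p.Prime]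
    (hd : p ∣ Nat.card S) : IM p S := by
  obtain ⟨e⟩ := h
  rw [Nat.card_congr e.toEquiv, card_hn] at hd
  refine IM.of_equiv e (im_of_dvd ?_)
  have h1 : (273030912000000 : ℕ) ∣ (8910 * 365750) ^ 14 := by norm_num
  have h2 : p ∣ 8910 * 365750 := hp.out.dvd_of_dvd_pow (hd.trans h1)
  exact (Nat.Prime.dvd_mul hp.out).1 h2

end Cfsg.Agent.H492.IMHN
end

-- part: H492/FactsHN
section
set_option linter.all false
open scoped Cfsg.Agent.FastGrp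

/-!
# Degree graph facts for the Harada-Norton group (helper492)

From the irreducible characters of degrees `8910 = 2 * 3 ^ 4 * 5 * 11` and
`365750 = 2 * 5 ^ 3 * 7 * 11 * 19`.
-/

set_option autoImplicit false

namespace Cfsg.Agent.H492.FactsHN

open Cfsg Cfsg.Agent.H678.DG

universe u

/-- The degree graph of the Harada-Norton group. -/
theorem facts_hn {S : Type u} [Group S] (h : Cfsg.Spor.IsoHN S) : Facts S := by
  obtain ⟨e⟩ := h
  have hc := Cfsg.Agent.H492.IMHN.card_hn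
  have : Finite Cfsg.Spor.HN := Nat.finite_of_card_ne_zero (by rw [hc]; norm_num)
  refine Facts.of_equiv e ?_
  refine Facts.of_list (P := [2, 3, 5, 7, 11, 19]) (D := [8910, 365750]) ?_ (by decide)
    (mem_of_card (f := fun _ => 14) ?_ ?_) ?_ (by decide +kernel)
  · intro p hp; fin_cases hp <;> norm_num
  · rw [hc]; decide +kernel
  · intro p hp; fin_cases hp <;> norm_num
  · intro m hm
    simp only [List.mem_cons, List.not_mem_nil, or_false] at hm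
    rcases hm with rfl | rfl
    · obtain ⟨χ, hχ⟩ := Cfsg.Agent.H492.IMHN.exists_8910
      exact ⟨χ, by rw [Cfsg.Agent.H670.PSing.charDegree_eq_of hχ]⟩
    · obtain ⟨χ, hχ⟩ := Cfsg.Agent.H492.IMHN.exists_365750
      exact ⟨χ, by rw [Cfsg.Agent.H670.PSing.charDegree_eq_of hχ]⟩

end Cfsg.Agent.H492.FactsHN
end
end
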