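import Cfsg.Agent.H606.PQR.Pieces_m3
import Cfsg.Agent.S0145
import Cfsg.Agent.H627.PrincipalCount
import Cfsg.Agent.OddOrderCharacters.PF13.SumBound
import Cfsg.Agent.FastGrp
import Cfsg.Agent.Prune
set_option linter.all false
prune_inst 0x7f00000000000000000000000000000000000000000000000000000000000000000000000000000000000000000000000000000000000000000000000000000000000000000000000000000000000000003ffffffffffffffffffff7ffffffbeffbdf3feffff
open scoped Cfsg.Agent.FastGrp

/-!
# S4979, layer (A), tool A-T5 (task 4865): the class number bound over `φ`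

`Sit.kbound`, `good_card`, `Sit.card_centralizer`: the orthogonality relations for the irreducible characters over a linear
character `φ` of a central subgroup `N`.
-/

set_option autoImplicit false

open Cfsg

namespace Cfsg.Agent.H492.QA5

open Cfsg.Agent.H80.Fpf Cfsg.Agent.H152.QA Cfsg.Agent.Characters.Core
open scoped commutatorElement ComplexConjugate Classical

section Central

variable {L : Type} [Group L]

/-- a central element acts as a scalar -/
theorem apply_mul_central {χ : L → ℂ} (hχ : IsIrrCharacter L χ) {z : L} (hz : z ∈ Subgroup.center L) (y : L) :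
    χ (y * z) = χ z / χ 1 * χ y := by
  obtain ⟨n, ρ, hρ, rfl⟩ := hχ
  have := hρ
  have h1 := Cfsg.Agent.Blocks.CliffordCentral.eq_scalar_of_commute ρ (ρ z) (by
    intro g
    have h2 : z * g = g * z := (Subgroup.mem_center_iff.1 hz g).symm
    have h3 : ρ z * ρ g = ρ g * ρ z := by rw [← map_mul, h2, map_mul]
    exact h3)
  have h4 : ρ.character (y * z) = LinearMap.trace ℂ _ (ρ y * ρ z) := by
    rw [← map_mul]; rfl
  have h5 : ρ y * ρ z = (LinearMap.trace ℂ _ (ρ z) / ρ.character 1) • ρ y := by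
    conv_lhs => rw [h1]
    ext v
    simp only [_root_.Representation.char_one, _root_.Module.finrank_fintype_fun_eq_card, _root_.Fintype.card_fin, _root_.Algebra.mul_smul_comm, _root_.LinearMap.coe_comp, _root_.LinearMap.coe_smul, _root_.LinearMap.coe_single, _root_.Function.comp_apply, _root_.Pi.smul_apply, _root_.Module.End.mul_apply, _root_.LinearMap.id_coe, _root_.id_eq, _root_.smul_eq_mul]
  rw [h4, h5, map_smul]
  rfl

/-- the irreducible characters over `φ` -/
def Over {N : Subgroup L} (φ : N →* ℂˣ) (χ : IrrCharacter L) : Prop :=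
  ∀ n : N, (χ : L → ℂ) n = (χ : L → ℂ) 1 * φ n

variable {N : Subgroup L} (hN : N ≤ Subgroup.center L) (φ : N →* ℂˣ)

include hN in
/-- orthogonality of `φ` and the central character of `χ` -/
theorem sum_phi_mul [Fintype N] (χ : IrrCharacter L) (a : L) :
    ∑ n : N, ((φ n⁻¹ : ℂˣ) : ℂ) * (χ : L → ℂ) (a * n) =
      if Over φ χ then (Nat.card N : ℂ) * (χ : L → ℂ) a else 0 := by
  obtain ⟨χ, hχ⟩ := χ
  change ∑ n : N, ((φ n⁻¹ : ℂˣ) : ℂ) * χ (a * n) = if Over φ ⟨χ, hχ⟩ then (Nat.card N : ℂ) * χ a else 0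
  have h1 : χ 1 ≠ 0 := isIrr_apply_one_ne_zero hχ
  have hterm : ∀ n : N, χ (a * n) = χ n / χ 1 * χ a := fun n => apply_mul_central hχ (hN n.2) a
  split_ifs with h
  · have h' : ∀ n : N, χ n = χ 1 * φ n := h
    have h2 : ∀ n : N, ((φ n⁻¹ : ℂˣ) : ℂ) * χ (a * n) = χ a := by
      intro n
      rw [hterm, h' n, mul_div_cancel_left₀ _ h1, map_inv, ← mul_assoc, Units.inv_mul, one_mul]
    rw [Finset.sum_congr rfl fun n _ => h2 n, Finset.sum_const, Finset.card_univ, nsmul_eq_mul,
      ← Nat.card_eq_fintype_card]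
  · have h' : ¬ ∀ n : N, χ n = χ 1 * φ n := h
    push Not at h'
    obtain ⟨m, hm⟩ := h'
    set T : ℂ := ∑ n : N, ((φ n⁻¹ : ℂˣ) : ℂ) * χ (a * n) with hT
    have h3 : T = (((φ m⁻¹ : ℂˣ) : ℂ) * (χ m / χ 1)) * T := by
      have h4 : T = ∑ n : N, ((φ (n * m)⁻¹ : ℂˣ) : ℂ) * χ (a * (n * m : N)) :=
        (Fintype.sum_equiv (Equiv.mulRight m) _ _ fun n => rfl).symm
      rw [Finset.mul_sum]
      refine h4.trans (Finset.sum_congr rfl fun n _ => ?_)
      have h5 : χ (a * (n * m : N)) = χ m / χ 1 * χ (a * n) := by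
        rw [Subgroup.coe_mul, ← mul_assoc]
        exact apply_mul_central hχ (hN m.2) _
      rw [h5, mul_inv_rev, map_mul, Units.val_mul]
      ring
    have h6 : ((φ m⁻¹ : ℂˣ) : ℂ) * (χ m / χ 1) ≠ 1 := by
      intro h7
      apply hm
      have h8 : (χ m / χ 1) = φ m := by
        rw [map_inv] at h7
        have h9 := (Units.inv_mul_eq_iff_eq_mul (φ m)).1 h7
        rwa [mul_one] at h9
      rw [← h8, mul_div_cancel₀ _ h1]
    have h7 : (1 - ((φ m⁻¹ : ℂˣ) : ℂ) * (χ m / χ 1)) * T = 0 := by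
      rw [sub_mul, one_mul, ← h3, sub_self]
    rcases mul_eq_zero.1 h7 with h8 | h8
    · exact absurd (sub_eq_zero.1 h8).symm h6
    · exact h8

include hN in
/-- second orthogonality over `φ` -/
theorem card_mul_sum [Finite L] [Fintype (IrrCharacter L)] (a b : L)
    (hab : ∀ n ∈ N, IsConj (a * n) b → n = 1) :
    (Nat.card N : ℂ) * ∑ χ ∈ Finset.univ.filter (Over φ), (χ : L → ℂ) a * conj ((χ : L → ℂ) b) =
      if IsConj a b then (Nat.card (Subgroup.centralizer ({b} : Set L)) : ℂ) else 0 := by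
  have := Fintype.ofFinite L
  have h1 : (Nat.card N : ℂ) * ∑ χ ∈ Finset.univ.filter (Over φ), (χ : L → ℂ) a * conj ((χ : L → ℂ) b) =
      ∑ χ : IrrCharacter L, (∑ n : N, ((φ n⁻¹ : ℂˣ) : ℂ) * (χ : L → ℂ) (a * n)) * conj ((χ : L → ℂ) b) := by
    rw [Finset.sum_filter, Finset.mul_sum]
    refine Finset.sum_congr rfl fun χ _ => ?_
    rw [sum_phi_mul hN φ χ a]
    split_ifs
    · ring
    · ring
  rw [h1]
  have h2 : ∑ χ : IrrCharacter L, (∑ n : N, ((φ n⁻¹ : ℂˣ) : ℂ) * (χ : L → ℂ) (a * n)) * conj ((χ : L → ℂ) b) =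
      ∑ n : N, ((φ n⁻¹ : ℂˣ) : ℂ) * ∑ χ : IrrCharacter L, (χ : L → ℂ) (a * n) * conj ((χ : L → ℂ) b) := by
    simp_rw [Finset.sum_mul, Finset.mul_sum]
    rw [Finset.sum_comm]
    refine Finset.sum_congr rfl fun n _ => Finset.sum_congr rfl fun χ _ => ?_
    ring
  rw [h2]
  have h3 : ∀ n : N, ((φ n⁻¹ : ℂˣ) : ℂ) * ∑ χ : IrrCharacter L, (χ : L → ℂ) (a * n) * conj ((χ : L → ℂ) b) =
      if n = 1 then (if IsConj a b then (Nat.card (Subgroup.centralizer ({b} : Set L)) : ℂ) else 0) else 0 := by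
    intro n
    rw [Cfsg.Agent.S0145.sum_irr_mul_conj (a * n) b]
    by_cases hn : n = 1
    · subst hn
      simp only [_root_.inv_one, _root_.map_one, _root_.Units.val_one, _root_.OneMemClass.coe_one, _root_.mul_one, _root_.isConj_iff, _root_.Nat.card_eq_fintype_card, _root_.mul_ite, _root_.one_mul, _root_.MulZeroClass.mul_zero, ↓ _root_.reduceIte]
    · rw [if_neg hn, if_neg, mul_zero]
      intro hc
      exact hn (Subtype.ext (hab n n.2 hc))
  rw [Finset.sum_congr rfl fun n _ => h3 n, Finset.sum_ite_eq' Finset.univ (1 : N), if_pos (Finset.mem_univ _)]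
  congr

/-- `y` of order prime to `|N|`: no `y n`, `n ≠ 1`, is conjugate to `y` -/
theorem eq_one_of_isConj {z : L} (hz : z ∈ Subgroup.center L) {y w : L} (hw : orderOf w = orderOf y)
    (hcop : (orderOf z).Coprime (orderOf y)) (h : IsConj (y * z) w) : z = 1 := by
  have h1 : orderOf (y * z) = orderOf w := by
    obtain ⟨g, hg⟩ := isConj_iff.1 h
    rw [← hg]
    exact ((MulAut.conj g).orderOf_eq (y * z)).symm
  have hc : Commute y z := Subgroup.mem_center_iff.1 hz y
  have h2 : (y * z) ^ orderOf y = 1 := by rw [← hw, ← h1, pow_orderOf_eq_one]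
  rw [hc.mul_pow, pow_orderOf_eq_one, one_mul] at h2
  have h3 : orderOf z ∣ orderOf y := orderOf_dvd_of_pow_eq_one h2
  have h4 : orderOf z = 1 := Nat.Coprime.eq_one_of_dvd hcop h3
  exact orderOf_eq_one_iff.1 h4

end Central

section

variable {p q : ℕ} {L V S : Type} [Group L] [Finite L] [AddCommGroup V] [Finite V] [DistribMulAction L V]
  [Group S] [Finite S] [IsSimpleGroup S] {π : L →* S} {N : Subgroup L} {φ : N →* ℂˣ}

omit [Finite L] in
theorem card_over [Fintype (IrrCharacter L)] (φ : N →* ℂˣ) :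
    Nat.card {χ : IrrCharacter L // ∀ n : N, (χ : L → ℂ) n = (χ : L → ℂ) 1 * φ n} =
      (Finset.univ.filter (Over φ)).card := by
  change Nat.card {χ : IrrCharacter L // Over φ χ} = _
  rw [Nat.card_eq_fintype_card, Fintype.card_subtype]

/-- lower bound for the number of characters over `φ` by good classes -/
theorem good_card {N : Subgroup L} (hN : N ≤ Subgroup.center L) (φ : N →* ℂˣ) (_hφ : Function.Injective φ) {m : ℕ}
    (g : Fin m → L) (hgood : ∀ i, ∀ y : L, ⁅g i, y⁆ ∈ N → ⁅g i, y⁆ = 1)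
    (hcl : ∀ i j, (∃ y : L, ∃ n ∈ N, y * g i * y⁻¹ = g j * n) → i = j) :
    m ≤ Nat.card {χ : IrrCharacter L // ∀ n : N, (χ : L → ℂ) n = (χ : L → ℂ) 1 * φ n} := by
  have hfin : Finite (IrrCharacter L) := finite_irr
  have := Fintype.ofFinite (IrrCharacter L)
  rw [card_over]
  have hz : ∀ n ∈ N, ∀ y : L, y * n = n * y := fun n hn y => Subgroup.mem_center_iff.1 (hN hn) y
  have hconj : ∀ i j, ∀ n ∈ N, IsConj (g i * n) (g j) → i = j ∧ n = 1 := by
    intro i j n hn hc
    obtain ⟨y, hy⟩ := isConj_iff.1 hc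
    have h1 : y * g i * y⁻¹ = g j * n⁻¹ := by
      rw [← hy]
      calc y * g i * y⁻¹ = y * g i * (n * n⁻¹) * y⁻¹ := by rw [mul_inv_cancel, mul_one]
        _ = y * (g i * n) * (n⁻¹ * y⁻¹) := by group
        _ = y * (g i * n) * (y⁻¹ * n⁻¹) := by rw [hz n⁻¹ (N.inv_mem hn) y⁻¹]
        _ = y * (g i * n) * y⁻¹ * n⁻¹ := by group
    have h2 : i = j := hcl i j ⟨y, n⁻¹, N.inv_mem hn, h1⟩
    refine ⟨h2, ?_⟩
    subst h2
    have h3 : ⁅g i, y⁆ = n := by
      rw [commutatorElement_def]
      calc g i * y * (g i)⁻¹ * y⁻¹ = g i * (y * g i * y⁻¹)⁻¹ := by group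
        _ = g i * (g i * n⁻¹)⁻¹ := by rw [h1]
        _ = g i * (n * (g i)⁻¹) := by rw [mul_inv_rev, inv_inv]
        _ = g i * ((g i)⁻¹ * n) := by rw [hz n hn (g i)⁻¹]
        _ = n := by group
    rw [← h3]
    exact hgood i y (by rw [h3]; exact hn)
  have hgram : ∀ i j, ∑ χ ∈ Finset.univ.filter (Over φ), ((χ : IrrCharacter L) : L → ℂ) (g i) *
      conj ((χ : L → ℂ) (g j)) =
      if i = j then ((Nat.card (Subgroup.centralizer ({g j} : Set L)) : ℂ) / Nat.card N) else 0 := by
    intro i j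
    have h1 := card_mul_sum hN φ (g i) (g j) (fun n hn hc => (hconj i j n hn hc).2)
    have h2 : (Nat.card N : ℂ) ≠ 0 := by exact_mod_cast Nat.card_pos.ne'
    by_cases hij : i = j
    · subst hij
      rw [if_pos (IsConj.refl _)] at h1
      rw [if_pos rfl, eq_div_iff h2, mul_comm]
      exact h1
    · rw [if_neg] at h1
      · rw [if_neg hij]
        exact (mul_eq_zero.1 h1).resolve_left h2
      · intro hc
        exact hij (hconj i j 1 N.one_mem (by rwa [mul_one])).1
  let v : Fin m → ((Finset.univ.filter (Over φ) : Finset (IrrCharacter L)) → ℂ) := fun i χ => (χ.1 : L → ℂ) (g i)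
  have hli : LinearIndependent ℂ v := by
    rw [Fintype.linearIndependent_iff]
    intro a ha j
    have h1 : ∑ χ : (Finset.univ.filter (Over φ) : Finset (IrrCharacter L)), (∑ i, a i • v i) χ *
        conj ((χ.1 : L → ℂ) (g j)) = 0 := by
      rw [ha]
      simp only [_root_.Finset.univ_eq_attach, _root_.Pi.zero_apply, _root_.MulZeroClass.zero_mul, _root_.Finset.sum_const_zero]
    have h0 : ∀ χ, (∑ i, a i • v i) χ = ∑ i, a i * (χ.1 : L → ℂ) (g i) := by
      intro χ
      rw [Finset.sum_apply]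
      rfl
    simp only [h0] at h1
    have h2 : ∑ χ : (Finset.univ.filter (Over φ) : Finset (IrrCharacter L)), (∑ i, a i * (χ.1 : L → ℂ) (g i)) *
        conj ((χ.1 : L → ℂ) (g j)) = ∑ i, a i * ∑ χ ∈ Finset.univ.filter (Over φ),
          ((χ : IrrCharacter L) : L → ℂ) (g i) * conj ((χ : L → ℂ) (g j)) := by
      rw [Finset.sum_coe_sort (Finset.univ.filter (Over φ))
        (fun χ : IrrCharacter L => (∑ i, a i * (χ : L → ℂ) (g i)) * conj ((χ : L → ℂ) (g j))) |>.symm.symm]
      simp_rw [Finset.mul_sum, Finset.sum_mul]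
      rw [Finset.sum_comm]
      refine Finset.sum_congr rfl fun i _ => Finset.sum_congr rfl fun χ _ => ?_
      ring
    rw [h2] at h1
    simp only [hgram, mul_ite, mul_zero, Finset.sum_ite_eq', Finset.mem_univ, if_true] at h1
    have h3 : ((Nat.card (Subgroup.centralizer ({g j} : Set L)) : ℂ) / Nat.card N) ≠ 0 :=
      div_ne_zero (by exact_mod_cast Nat.card_pos.ne') (by exact_mod_cast Nat.card_pos.ne')
    exact (mul_eq_zero.1 h1).resolve_right h3
  have h4 := hli.fintype_card_le_finrank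
  rwa [Fintype.card_fin, Module.finrank_fintype_fun_eq_card, Fintype.card_coe] at h4

/-- **K-bound**: all characters over `φ` are non-zero at the `p`-element `x`. -/
theorem Sit.kbound (h : Sit (V := V) p q N φ) (x : L) (hx : ∃ k, orderOf x = p ^ k) :
    Nat.card {χ : IrrCharacter L // ∀ n : N, (χ : L → ℂ) n = (χ : L → ℂ) 1 * φ n} * Nat.card N ≤
      Nat.card (Subgroup.centralizer ({x} : Set L)) := by
  have hfin : Finite (IrrCharacter L) := finite_irr
  have := Fintype.ofFinite (IrrCharacter L)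
  have := Fintype.ofFinite L
  have hpf : Fact p.Prime := ⟨h.hp⟩
  obtain ⟨k, hk⟩ := hx
  rw [card_over]
  set X : Finset L := Finset.univ.filter (fun y => Subgroup.zpowers y = Subgroup.zpowers x) with hX
  set O := Finset.univ.filter (Over φ) with hO
  have hXmem : ∀ y, y ∈ X ↔ Subgroup.zpowers y = Subgroup.zpowers x := by
    intro y
    rw [hX, Finset.mem_filter]
    exact ⟨fun h => h.2, fun h => ⟨Finset.mem_univ _, h⟩⟩
  have hord : ∀ y ∈ X, orderOf y = p ^ k := by
    intro y hy
    rw [← Nat.card_zpowers, (hXmem y).1 hy, Nat.card_zpowers, hk]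
  have hcent : ∀ y ∈ X, Nat.card (Subgroup.centralizer ({y} : Set L)) =
      Nat.card (Subgroup.centralizer ({x} : Set L)) := by
    intro y hy
    have h1 := (hXmem y).1 hy
    have key : ∀ a b : L, a ∈ Subgroup.zpowers b →
        Subgroup.centralizer ({b} : Set L) ≤ Subgroup.centralizer ({a} : Set L) := by
      intro a b hab c hc
      obtain ⟨i, rfl⟩ := Subgroup.mem_zpowers_iff.1 hab
      rw [Subgroup.mem_centralizer_singleton_iff] at hc ⊢
      exact (Commute.zpow_right hc i)
    have h2 : Subgroup.centralizer ({y} : Set L) = Subgroup.centralizer ({x} : Set L) := le_antisymm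
      (key x y (by rw [h1]; exact Subgroup.mem_zpowers x)) (key y x (by rw [← h1]; exact Subgroup.mem_zpowers y))
    rw [h2]
  have hcl : ∀ g ∈ X, ∀ m : ℕ, m.Coprime (Nat.card L) → g ^ m ∈ X := by
    intro g hg m hm
    rw [hXmem, ← (hXmem g).1 hg]
    have h1 : orderOf (g ^ m) = orderOf g :=
      Nat.Coprime.orderOf_pow ((hm.coprime_dvd_right (orderOf_dvd_natCard g)).symm)
    apply Subgroup.eq_of_le_of_card_ge
    · rw [Subgroup.zpowers_le]
      exact Subgroup.pow_mem _ (Subgroup.mem_zpowers g) m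
    · rw [Nat.card_zpowers, Nat.card_zpowers, h1]
  have hpos : 0 < X.card := Finset.card_pos.2 ⟨x, (hXmem x).2 rfl⟩
  have hchar : ∀ χ ∈ O, (X.card : ℝ) ≤ ∑ g ∈ X, ‖(χ : L → ℂ) g‖ ^ 2 := by
    intro χ hχ
    have hov : Over φ χ := (Finset.mem_filter.1 hχ).2
    have h1 := Cfsg.Agent.OddOrderCharacters.PF13.SumBound.card_le_sum_sq ({()} : Finset Unit)
      (fun _ => (χ : L → ℂ)) (fun _ _ => ⟨(χ : L → ℂ), 0, isIrr_isCharacter χ.2, isCharacter_zero, (sub_zero _).symm⟩)
      X hcl (fun g hg => ⟨(), Finset.mem_singleton_self _,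
        Cfsg.Agent.H627.PrincipalCount.apply_ne_zero (isIrr_isCharacter χ.2) (h.P2 χ χ.2 hov) g ⟨k, hord g hg⟩⟩)
    simpa only [Finset.sum_singleton] using h1
  have hsum : ∀ g ∈ X, (Nat.card N : ℝ) * ∑ χ ∈ O, ‖(χ : L → ℂ) g‖ ^ 2 =
      Nat.card (Subgroup.centralizer ({x} : Set L)) := by
    intro g hg
    have h1 := card_mul_sum h.cen φ g g (fun n hn hc => by
      refine eq_one_of_isConj (h.cen hn) rfl ?_ hc
      rw [hord g hg]
      apply Nat.Coprime.pow_right
      rw [Nat.coprime_comm, Nat.Prime.coprime_iff_not_dvd h.hp]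
      intro hd
      apply h.pZ
      refine hd.trans ?_
      have := orderOf_dvd_natCard (⟨n, h.cen hn⟩ : Subgroup.center L)
      rwa [Subgroup.orderOf_mk] at this)
    rw [if_pos (IsConj.refl _), hcent g hg] at h1
    have h2 : ∑ χ ∈ O, (χ : L → ℂ) g * conj ((χ : L → ℂ) g) = ((∑ χ ∈ O, ‖(χ : L → ℂ) g‖ ^ 2 : ℝ) : ℂ) := by
      rw [Complex.ofReal_sum]
      refine Finset.sum_congr rfl fun χ _ => ?_
      rw [Complex.mul_conj, Complex.normSq_eq_norm_sq]
    rw [h2] at h1
    exact_mod_cast h1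
  have h1 : (O.card : ℝ) * X.card ≤ ∑ χ ∈ O, ∑ g ∈ X, ‖(χ : L → ℂ) g‖ ^ 2 := by
    have := Finset.sum_le_sum hchar
    rwa [Finset.sum_const, nsmul_eq_mul] at this
  rw [Finset.sum_comm] at h1
  have h2 : (Nat.card N : ℝ) * ∑ g ∈ X, ∑ χ ∈ O, ‖(χ : L → ℂ) g‖ ^ 2 =
      X.card * Nat.card (Subgroup.centralizer ({x} : Set L)) := by
    rw [Finset.mul_sum, Finset.sum_congr rfl hsum, Finset.sum_const, nsmul_eq_mul]
  have h3 : (0 : ℝ) ≤ Nat.card N := Nat.cast_nonneg _
  have h4 : (Nat.card N : ℝ) * (O.card * X.card) ≤ X.card * Nat.card (Subgroup.centralizer ({x} : Set L)) := by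
    rw [← h2]
    exact mul_le_mul_of_nonneg_left h1 h3
  have h5 : Nat.card N * (O.card * X.card) ≤ X.card * Nat.card (Subgroup.centralizer ({x} : Set L)) := by
    exact_mod_cast h4
  have h6 : X.card * (O.card * Nat.card N) ≤ X.card * Nat.card (Subgroup.centralizer ({x} : Set L)) := by
    calc X.card * (O.card * Nat.card N) = Nat.card N * (O.card * X.card) := by ring
      _ ≤ _ := h5
  exact Nat.le_of_mul_le_mul_left h6 hpos

omit [Finite L] [Finite S] in
/-- the kernel of a cover of a simple group is the centre -/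
theorem IsCover.ker_eq (hπ : IsCover π) : π.ker = Subgroup.center L := by
  refine le_antisymm hπ.central fun z hz => ?_
  have h1 : π z ∈ Subgroup.center S := by
    rw [Subgroup.mem_center_iff]
    intro s
    obtain ⟨y, rfl⟩ := hπ.surj s
    rw [← map_mul, ← map_mul, Subgroup.mem_center_iff.1 hz y]
  rcases IsSimpleGroup.eq_bot_or_eq_top_of_normal (Subgroup.center S) inferInstance with h2 | h2
  · rw [h2, Subgroup.mem_bot] at h1
    exact h1
  · exfalso
    have h3 : commutator L ≤ π.ker := by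
      rw [commutator_def, Subgroup.commutator_le]
      intro a _ b _
      have hb : π b ∈ Subgroup.center S := by rw [h2]; trivial
      rw [MonoidHom.mem_ker, map_commutatorElement, commutatorElement_eq_one_iff_mul_comm]
      exact Subgroup.mem_center_iff.1 hb (π a)
    rw [hπ.perf] at h3
    obtain ⟨s, hs⟩ := exists_ne (1 : S)
    obtain ⟨y, rfl⟩ := hπ.surj s
    exact hs (h3 (Subgroup.mem_top y))

/-- the centralizer of a `p`-element: `|C_L(x)| = |Z(L)| |C_S(π x)|` -/
theorem Sit.card_centralizer (h : Sit (V := V) p q N φ) (hπ : IsCover π) (x : L) (hx : ∃ k, orderOf x = p ^ k) :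
    Nat.card (Subgroup.centralizer ({x} : Set L)) =
      Nat.card (Subgroup.center L) * Nat.card (Subgroup.centralizer ({π x} : Set S)) := by
  obtain ⟨k, hk⟩ := hx
  have h1 : Subgroup.centralizer ({x} : Set L) = (Subgroup.centralizer ({π x} : Set S)).comap π := by
    ext y
    rw [Subgroup.mem_comap, Subgroup.mem_centralizer_singleton_iff, Subgroup.mem_centralizer_singleton_iff]
    constructor
    · intro hy
      rw [← map_mul, hy, map_mul]
    · intro hy
      set z : L := x⁻¹ * (y * x * y⁻¹) with hz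
      have h2 : z ∈ π.ker := by
        rw [MonoidHom.mem_ker, hz, map_mul, map_mul, map_mul, map_inv, map_inv, hy]
        group
      have h3 : z ∈ Subgroup.center L := hπ.central h2
      have h4 : IsConj (x * z) x := by
        rw [hz, mul_inv_cancel_left]
        exact (isConj_iff.2 ⟨y, rfl⟩ : IsConj x (y * x * y⁻¹)).symm
      have h5 : z = 1 := by
        refine eq_one_of_isConj h3 rfl ?_ h4
        rw [hk]
        apply Nat.Coprime.pow_right
        rw [Nat.coprime_comm, Nat.Prime.coprime_iff_not_dvd h.hp]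
        intro hd
        apply h.pZ
        refine hd.trans ?_
        have := orderOf_dvd_natCard (⟨z, h3⟩ : Subgroup.center L)
        rwa [Subgroup.orderOf_mk] at this
      have h6 : y * x * y⁻¹ = x := by
        have : x * z = y * x * y⁻¹ := by rw [hz, mul_inv_cancel_left]
        rw [← this, h5, mul_one]
      exact mul_inv_eq_iff_eq_mul.1 h6
  have h2 : (Subgroup.centralizer ({x} : Set L)).index = (Subgroup.centralizer ({π x} : Set S)).index := by
    rw [h1]
    exact Subgroup.index_comap_of_surjective _ hπ.surj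
  have h3 : Nat.card L = Nat.card (Subgroup.center L) * Nat.card S := by
    rw [← IsCover.ker_eq hπ, ← Subgroup.card_mul_index π.ker, Subgroup.index_ker,
      MonoidHom.range_eq_top.2 hπ.surj, Subgroup.card_top]
  have h4 := Subgroup.card_mul_index (Subgroup.centralizer ({x} : Set L))
  have h5 := Subgroup.card_mul_index (Subgroup.centralizer ({π x} : Set S))
  have h6 : 0 < (Subgroup.centralizer ({π x} : Set S)).index := Nat.pos_of_ne_zero Subgroup.index_ne_zero_of_finite
  apply Nat.eq_of_mul_eq_mul_right h6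
  rw [← h2] at h5 ⊢
  rw [h4, h3, mul_assoc, h5]

end

end Cfsg.Agent.H492.QA5
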