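import Cfsg.Agent.KFacts.He.TwoA_m3
import Cfsg.Agent.H492.IMPair_m3
import Cfsg.Agent.CpAutHe.Bound
import Cfsg.Agent.FastGrp
import Cfsg.Agent.Prune
set_option linter.all false

section
prune_inst 0x7f00000000000000000000000000000000000000000000000000000000000000000000000000000000000000000000000000000000000000000000000000000000000000000000000000000000000000003fffffffffffffffffffffffffffbeffbdffffffff

-- part: H492/IMHeDat
section
set_option linter.all false
open scoped Cfsg.Agent.FastGrp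

/-!
# Centralizers in the Held group (helper492)

Upper bounds for the centralizers of some words of order 17, 5, 3 and of some pairs of commuting words
(generated file, kernel computations in the representation on 2058 points).
-/

set_option autoImplicit false
set_option maxRecDepth 100000
set_option linter.style.longLine false

namespace Cfsg.Agent.H492.IMHeDat

open Cfsg.Spor Cfsg.Spor.He Cfsg.Agent.SporadicB.HePerm
open Cfsg.Agent.FixBN.HeStab Cfsg.Agent.KFacts.He.Lv Cfsg.Agent.CpAutHe.Cnt Cfsg.Agent.H492.IMHeCnt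

open Cfsg.Agent.KFacts.He.Fast (actF colrF act_fast colr_fast) in
private theorem tsl_fast : tsl = fun ws is fs p y => Bool.rec (motive := fun _ => Bool) false
    (allNF is fun i => Nat.beq (colrF y (actF (ws.getD i []) y)) (colrF p (actF (ws.getD i []) p)))
    (allNF fs fun f => Nat.beq (colrF f y) (colrF f p)) := by
  funext ws is fs p y
  rw [allNF_eq, allNF_eq, ← colr_fast, ← act_fast]
  show and (fs.all fun f => Nat.beq (colr f y) (colr f p)) _ = _
  cases (fs.all fun f => Nat.beq (colr f y) (colr f p)) <;> rfl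

/-- a word -/
def XQ : List Gen := [.f, .d, .c, .b]

/-- a word -/
def YQ : List Gen := []

/-- the words commuting with the subgroup -/
def wsQ : List (List Gen) := mkw XQ YQ [(1, 0), (2, 0), (3, 0), (4, 0), (5, 0), (6, 0), (7, 0), (8, 0), (9, 0), (10, 0), (11, 0), (12, 0), (13, 0), (14, 0), (15, 0), (16, 0)]

theorem cQ_0 : cnt 2058 (tsl wsQ [0, 1, 3] [] 7) = 17 := by
  rw [tsl_fast]
  decide +kernel

theorem cQ_1 : cnt 2058 (tsl wsQ [] [256, 403, 817] 0) = 1 := by
  rw [tsl_fast]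
  decide +kernel

theorem cQ_2 : cnt 2058 (tsl wsQ [1] [7, 293] 32) = 1 := by
  rw [tsl_fast]
  decide +kernel

theorem cQ_3 : cnt 2058 (tsl wsQ [2] [26, 0] 8) = 1 := by
  rw [tsl_fast]
  decide +kernel

theorem qQ : Q wsQ [] (17 * 1) := by
  refine Q.orb 7 [0, 1, 3] [] [7, 256, 293, 403, 817] (by decide) (by decide +kernel) (by decide +kernel) cQ_0 ?_
  refine Q.fix 0 [] [256, 403, 817] [0, 1, 7, 26, 293] (by decide) (by decide +kernel) (by decide +kernel) cQ_1 ?_
  refine Q.fix 32 [1] [7, 293] [0, 1, 26, 32] (by decide) (by decide +kernel) (by decide +kernel) cQ_2 ?_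
  refine Q.fix 8 [2] [26, 0] [0, 1, 8, 32] (by decide) (by decide +kernel) (by decide +kernel) cQ_3 ?_
  exact Q.base (by decide +kernel)

/-- a word -/
def XA3 : List Gen := [.c, .b]

/-- a word -/
def YA3 : List Gen := []

/-- the words commuting with the subgroup -/
def wsA3 : List (List Gen) := mkw XA3 YA3 [(1, 0), (2, 0)]

theorem cA3_0 : cnt 2058 (tsl wsA3 [0] [] 17) = 126 := by
  rw [tsl_fast]
  decide +kernel

theorem cA3_1 : cnt 2058 (tsl wsA3 [0] [34] 64) = 4 := by
  rw [tsl_fast]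
  decide +kernel

theorem cA3_2 : cnt 2058 (tsl wsA3 [0] [124, 17, 228, 152] 0) = 1 := by
  rw [tsl_fast]
  decide +kernel

theorem cA3_3 : cnt 2058 (tsl wsA3 [0] [0, 2, 228, 17, 124] 8) = 1 := by
  rw [tsl_fast]
  decide +kernel

theorem cA3_4 : cnt 2058 (tsl wsA3 [0] [2, 8, 64, 152, 0, 34] 32) = 1 := by
  rw [tsl_fast]
  decide +kernel

theorem qA3 : Q wsA3 [] (126 * (4 * 1)) := by
  refine Q.orb 17 [0] [] [17, 34, 152] (by decide) (by decide +kernel) (by decide +kernel) cA3_0 ?_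
  refine Q.orb 64 [0] [34] [17, 34, 64, 124, 152, 228] (by decide) (by decide +kernel) (by decide +kernel) cA3_1 ?_
  refine Q.fix 0 [0] [124, 17, 228, 152] [0, 1, 2, 17, 34, 64, 124, 152, 228] (by decide) (by decide +kernel) (by decide +kernel) cA3_2 ?_
  refine Q.fix 8 [0] [0, 2, 228, 17, 124] [0, 1, 2, 8, 34, 64, 152] (by decide) (by decide +kernel) (by decide +kernel) cA3_3 ?_
  refine Q.fix 32 [0] [2, 8, 64, 152, 0, 34] [0, 1, 8, 32] (by decide) (by decide +kernel) (by decide +kernel) cA3_4 ?_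
  exact Q.base (by decide +kernel)

/-- a word -/
def XA5 : List Gen := [.d, .c, .d, .c]

/-- a word -/
def YA5 : List Gen := []

/-- the words commuting with the subgroup -/
def wsA5 : List (List Gen) := mkw XA5 YA5 [(1, 0), (2, 0), (3, 0), (4, 0)]

theorem cA5_0 : cnt 2058 (tsl wsA5 [1] [] 27) = 150 := by
  rw [tsl_fast]
  decide +kernel

theorem cA5_1 : cnt 2058 (tsl wsA5 [0] [29, 45, 47] 2002) = 2 := by
  rw [tsl_fast]
  decide +kernel

theorem cA5_2 : cnt 2058 (tsl wsA5 [0] [45, 29, 1769] 1) = 1 := by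
  rw [tsl_fast]
  decide +kernel

theorem cA5_3 : cnt 2058 (tsl wsA5 [] [2, 27, 2002] 32) = 1 := by
  rw [tsl_fast]
  decide +kernel

theorem cA5_4 : cnt 2058 (tsl wsA5 [0] [176, 3, 1729] 8) = 1 := by
  rw [tsl_fast]
  decide +kernel

theorem cA5_5 : cnt 2058 (tsl wsA5 [0] [1, 8] 0) = 1 := by
  rw [tsl_fast]
  decide +kernel

theorem qA5 : Q wsA5 [] (150 * (2 * 1)) := by
  refine Q.orb 27 [1] [] [27, 29, 45, 47, 176] (by decide) (by decide +kernel) (by decide +kernel) cA5_0 ?_
  refine Q.orb 2002 [0] [29, 45, 47] [27, 29, 45, 176, 1729, 1769, 2002] (by decide) (by decide +kernel) (by decide +kernel) cA5_1 ?_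
  refine Q.fix 1 [0] [45, 29, 1769] [1, 2, 3, 27, 176, 1729, 2002] (by decide) (by decide +kernel) (by decide +kernel) cA5_2 ?_
  refine Q.fix 32 [] [2, 27, 2002] [1, 3, 32, 176, 1729] (by decide) (by decide +kernel) (by decide +kernel) cA5_3 ?_
  refine Q.fix 8 [0] [176, 3, 1729] [1, 8, 32] (by decide) (by decide +kernel) (by decide +kernel) cA5_4 ?_
  refine Q.fix 0 [0] [1, 8] [0, 1, 8, 32] (by decide) (by decide +kernel) (by decide +kernel) cA5_5 ?_
  exact Q.base (by decide +kernel)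

/-- a word -/
def XB3 : List Gen := [.c, .b]

/-- a word -/
def YB3 : List Gen := [.b, .f, .d, .e, .g, .d, .c, .d, .g, .e, .d, .b, .c, .d, .g, .e, .d]

/-- the words commuting with the subgroup -/
def wsB3 : List (List Gen) := mkw XB3 YB3 [(0, 1), (0, 2), (1, 0), (1, 1), (1, 2), (2, 0), (2, 1), (2, 2)]

theorem xB3a : allBelow 2058 (fun t => bif tsl wsB3 [0, 2, 6] [] 44 t then
    elemN t [44, 63, 125, 219, 220, 288, 496, 514, 546, 1160, 1247, 1248, 1294, 1363, 1498, 1710, 1723, 1775] else true) = true := by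
  rw [tsl_fast]
  decide +kernel

theorem xB3b : cnt 2058 (fun y => bif tsl wsB3 [0, 2] [] 23 y then
    (List.any [44, 63, 125, 219, 220, 288, 496, 514, 546, 1160, 1247, 1248, 1294, 1363, 1498, 1710, 1723, 1775] fun t => List.all [6] fun j => Nat.beq (colr (act (wsB3.getD j []) y) t)
      (colr (act (wsB3.getD j []) 23) 44)) else false) = 9 := by
  rw [tsl_fast]
  decide +kernel

theorem cB3_1 : cnt 2058 (tsl wsB3 [2, 6, 0, 3] [1987, 55, 74, 1415, 1416] 0) = 1 := by
  rw [tsl_fast]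
  decide +kernel

theorem cB3_2 : cnt 2058 (tsl wsB3 [0, 6] [1714, 74] 8) = 1 := by
  rw [tsl_fast]
  decide +kernel

theorem cB3_3 : cnt 2058 (tsl wsB3 [] [350, 349, 1448, 1, 8] 32) = 1 := by
  rw [tsl_fast]
  decide +kernel

theorem qB3 : Q wsB3 [] (9 * 1) := by
  refine Q.orbx 23 44 [0, 2] [] [0, 2, 6] [] [6] [44, 63, 125, 219, 220, 288, 496, 514, 546, 1160, 1247, 1248, 1294, 1363, 1498, 1710, 1723, 1775] [55, 74, 349, 350, 1415, 1416, 1987] (by decide) (by decide)
    (by decide +kernel) (by decide +kernel) (by decide +kernel) xB3a xB3b ?_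
  refine Q.fix 0 [2, 6, 0, 3] [1987, 55, 74, 1415, 1416] [0, 1, 74, 349, 350, 1448, 1714] (by decide) (by decide +kernel) (by decide +kernel) cB3_1 ?_
  refine Q.fix 8 [0, 6] [1714, 74] [0, 1, 8, 349, 350, 1448] (by decide) (by decide +kernel) (by decide +kernel) cB3_2 ?_
  refine Q.fix 32 [] [350, 349, 1448, 1, 8] [0, 1, 8, 32] (by decide) (by decide +kernel) (by decide +kernel) cB3_3 ?_
  exact Q.base (by decide +kernel)

/-- a word -/
def XB5 : List Gen := [.d, .c, .d, .c]

/-- a word -/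
def YB5 : List Gen := [.b, .c, .b, .g, .f, .d, .g, .c, .d, .b, .c, .d, .f, .c, .d, .c, .d, .f]

/-- the words commuting with the subgroup -/
def wsB5 : List (List Gen) := mkw XB5 YB5 [(0, 1), (0, 2), (0, 3), (0, 4), (1, 0), (1, 1), (1, 2), (1, 3), (1, 4), (2, 0), (2, 1), (2, 2), (2, 3), (2, 4), (3, 0), (3, 1), (3, 2), (3, 3), (3, 4), (4, 0), (4, 1), (4, 2), (4, 3), (4, 4)]

theorem cB5_0 : cnt 2058 (tsl wsB5 [0, 4] [] 139) = 5 := by
  rw [tsl_fast]
  decide +kernel

theorem cB5_1 : cnt 2058 (tsl wsB5 [1] [207, 973, 2026, 139, 2025] 1) = 5 := by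
  rw [tsl_fast]
  decide +kernel

theorem cB5_2 : cnt 2058 (tsl wsB5 [4] [139] 0) = 1 := by
  rw [tsl_fast]
  decide +kernel

theorem cB5_3 : cnt 2058 (tsl wsB5 [] [139, 207, 200] 32) = 1 := by
  rw [tsl_fast]
  decide +kernel

theorem cB5_4 : cnt 2058 (tsl wsB5 [] [16, 106, 0] 8) = 1 := by
  rw [tsl_fast]
  decide +kernel

theorem qB5 : Q wsB5 [] (5 * (5 * 1)) := by
  refine Q.orb 139 [0, 4] [] [139, 207, 973, 2025, 2026] (by decide) (by decide +kernel) (by decide +kernel) cB5_0 ?_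
  refine Q.orb 1 [1] [207, 973, 2026, 139, 2025] [1, 16, 139, 200, 207] (by decide) (by decide +kernel) (by decide +kernel) cB5_1 ?_
  refine Q.fix 0 [4] [139] [0, 1, 16, 139, 200, 207] (by decide) (by decide +kernel) (by decide +kernel) cB5_2 ?_
  refine Q.fix 32 [] [139, 207, 200] [0, 1, 16, 32, 106] (by decide) (by decide +kernel) (by decide +kernel) cB5_3 ?_
  refine Q.fix 8 [] [16, 106, 0] [0, 1, 8, 32] (by decide) (by decide +kernel) (by decide +kernel) cB5_4 ?_
  exact Q.base (by decide +kernel)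

/-- a word -/
def XB7 : List Gen := [.d, .f, .g]

/-- a word -/
def YB7 : List Gen := [.c, .d, .f, .g, .d, .c, .b, .a, .d, .c, .d, .e, .g, .d, .f, .e, .c, .d, .g, .b, .c, .d, .c, .d, .b, .c]

/-- the words commuting with the subgroup -/
def wsB7 : List (List Gen) := mkw XB7 YB7 [(0, 1), (0, 2), (0, 3), (0, 4), (0, 5), (0, 6), (1, 0), (1, 1), (1, 2), (1, 3), (1, 4), (1, 5), (1, 6), (2, 0), (2, 1), (2, 2), (2, 3), (2, 4), (2, 5), (2, 6), (3, 0), (3, 1), (3, 2), (3, 3), (3, 4), (3, 5), (3, 6), (4, 0), (4, 1), (4, 2), (4, 3), (4, 4), (4, 5), (4, 6), (5, 0), (5, 1), (5, 2), (5, 3), (5, 4), (5, 5), (5, 6), (6, 0), (6, 1), (6, 2), (6, 3), (6, 4), (6, 5), (6, 6)]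

theorem cB7_0 : cnt 2058 (tsl wsB7 [6, 0, 8] [] 0) = 49 := by
  rw [tsl_fast]
  decide +kernel

theorem cB7_1 : cnt 2058 (tsl wsB7 [9] [787, 1407] 1) = 1 := by
  rw [tsl_fast]
  decide +kernel

theorem cB7_2 : cnt 2058 (tsl wsB7 [] [18, 1854, 22] 32) = 1 := by
  rw [tsl_fast]
  decide +kernel

theorem cB7_3 : cnt 2058 (tsl wsB7 [] [16, 18, 168] 8) = 1 := by
  rw [tsl_fast]
  decide +kernel

theorem qB7 : Q wsB7 [] (49 * 1) := by
  refine Q.orb 0 [6, 0, 8] [] [0, 18, 168, 787, 1407] (by decide) (by decide +kernel) (by decide +kernel) cB7_0 ?_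
  refine Q.fix 1 [9] [787, 1407] [0, 1, 16, 18, 22, 168, 1854] (by decide) (by decide +kernel) (by decide +kernel) cB7_1 ?_
  refine Q.fix 32 [] [18, 1854, 22] [0, 1, 16, 18, 32, 168] (by decide) (by decide +kernel) (by decide +kernel) cB7_2 ?_
  refine Q.fix 8 [] [16, 18, 168] [0, 1, 8, 32] (by decide) (by decide +kernel) (by decide +kernel) cB7_3 ?_
  exact Q.base (by decide +kernel)

end Cfsg.Agent.H492.IMHeDat
end

-- part: H492/IMHe
section
set_option linter.all false
open scoped Cfsg.Agent.FastGrp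

/-!
# The Itô-Michler property of the Held group (helper492)
-/

set_option autoImplicit false
set_option maxRecDepth 100000

namespace Cfsg.Agent.H492.IMHe

open Subgroup Cfsg
open Cfsg.Spor.He (Gen)
open Cfsg.Agent.SporadicB.HePerm (act wd)
open Cfsg.Agent.FixBN.HeStab Cfsg.Agent.KFacts.He.Lv Cfsg.Agent.CpAutHe.Cnt
open Cfsg.Agent.H492.IMHeCnt Cfsg.Agent.H492.IMHeDat Cfsg.Agent.H492.IMTools Cfsg.Agent.H33
open Cfsg.Agent.H713 Cfsg.Agent.H713.Count Cfsg.Agent.H665.NoPQ

universe u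

/-! ### orders of elements -/

theorem o1 : orderOf (wd []) = 1 := orderOf_of (by decide) (by decide +kernel)
theorem o2 : orderOf (wd [.a]) = 2 := orderOf_of (by decide) (by decide +kernel)
theorem o3 : orderOf (wd [.c, .b]) = 3 := orderOf_of (by decide) (by decide +kernel)
theorem o4 : orderOf (wd [.b, .a]) = 4 := orderOf_of (by decide) (by decide +kernel)
theorem o5 : orderOf (wd [.d, .c, .d, .c]) = 5 := orderOf_of (by decide) (by decide +kernel)
theorem o6 : orderOf (wd [.c, .b, .a]) = 6 := orderOf_of (by decide) (by decide +kernel)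
theorem o7 : orderOf (wd [.d, .f, .g]) = 7 := orderOf_of (by decide) (by decide +kernel)
theorem o8 : orderOf (wd [.f, .d, .b, .c, .d, .c, .b, .a]) = 8 :=
  orderOf_of (by decide) (by decide +kernel)
theorem o10 : orderOf (wd [.d, .c]) = 10 := orderOf_of (by decide) (by decide +kernel)
theorem o12 : orderOf (wd [.d, .c, .b]) = 12 := orderOf_of (by decide) (by decide +kernel)
theorem o14 : orderOf (wd [.g, .f, .d, .a]) = 14 := orderOf_of (by decide) (by decide +kernel)
theorem o17 : orderOf (wd [.f, .d, .c, .b]) = 17 := orderOf_of (by decide) (by decide +kernel)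

theorem dvd_cent {G : Type*} [Group G] [Finite G] {x g : G} (h : g * x = x * g) {n : ℕ}
    (hn : orderOf g = n) : n ∣ Nat.card (centralizer ({x} : Set G)) := by
  have h1 : g ∈ centralizer ({x} : Set G) := mem_centralizer_singleton_iff.2 h
  rw [← hn, ← Subgroup.orderOf_mk g h1]
  exact orderOf_dvd_natCard _

/-- Two commuting elements of order `p`. -/
theorem sq_dvd {G : Type*} [Group G] [Finite G] {p : ℕ} [hp : Fact p.Prime] {x y : G}
    (hx : orderOf x = p) (hy : orderOf y = p) (hcomm : y * x = x * y) (hyx : y ∉ zpowers x)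
    (K : Subgroup G) (hxK : x ∈ K) (hyK : y ∈ K) : p ^ 2 ∣ Nat.card K := by
  classical
  have hc : Commute x y := hcomm.symm
  -- the homomorphism `(i, j) ↦ x ^ i y ^ j`
  let f : zpowers x × zpowers y →* G :=
    { toFun := fun e => (e.1 : G) * (e.2 : G)
      map_one' := by simp
      map_mul' := by
        rintro ⟨⟨a, i, rfl⟩, b, j, rfl⟩ ⟨⟨c, k, rfl⟩, d, l, rfl⟩
        show x ^ i * x ^ k * (y ^ j * y ^ l) = x ^ i * y ^ j * (x ^ k * y ^ l)
        have h1 : y ^ j * x ^ k = x ^ k * y ^ j := ((hc.symm.zpow_left j).zpow_right k).eq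
        calc x ^ i * x ^ k * (y ^ j * y ^ l) = x ^ i * (x ^ k * y ^ j) * y ^ l := by group
          _ = x ^ i * y ^ j * (x ^ k * y ^ l) := by rw [← h1]; group }
  have hinj : Function.Injective f := by
    rw [injective_iff_map_eq_one]
    rintro ⟨a, b⟩ hab
    have h1 : (a : G) * (b : G) = 1 := hab
    have hb1 : (b : G) ∈ zpowers x := by
      have : (b : G) = (a : G)⁻¹ := (inv_eq_of_mul_eq_one_right h1).symm
      rw [this]; exact inv_mem a.2
    have hb : (b : G) = 1 := by
      by_contra hne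
      apply hyx
      have h2 : zpowers (b : G) = zpowers y := by
        apply Subgroup.eq_of_le_of_card_ge (zpowers_le.2 b.2)
        have h3 : orderOf (b : G) = p := by
          have h4 : orderOf (b : G) ∣ p := by
            rw [← hy, ← Nat.card_zpowers y]
            have := orderOf_dvd_natCard b
            rwa [Subgroup.orderOf_coe]
          rcases (Nat.dvd_prime hp.out).1 h4 with h5 | h5
          · exact absurd (orderOf_eq_one_iff.1 h5) hne
          · exact h5
        rw [Nat.card_zpowers, Nat.card_zpowers, h3, hy]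
      have h3 : y ∈ zpowers (b : G) := by rw [h2]; exact mem_zpowers y
      exact (zpowers_le.2 hb1) h3
    have ha : (a : G) = 1 := by rw [hb, mul_one] at h1; exact h1
    exact Prod.ext (Subtype.ext ha) (Subtype.ext hb)
  have hle : f.range ≤ K := by
    rintro _ ⟨⟨a, b⟩, rfl⟩
    exact K.mul_mem ((zpowers_le.2 hxK) a.2) ((zpowers_le.2 hyK) b.2)
  have hcard : Nat.card f.range = p ^ 2 := by
    rw [← Nat.card_congr (MonoidHom.ofInjective hinj).toEquiv, Nat.card_prod, Nat.card_zpowers,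
      Nat.card_zpowers, hx, hy, pow_two]
  rw [← hcard]
  exact Subgroup.card_dvd_of_le hle

theorem arith3 {N m : ℕ} (hle : N ≤ 126 * (4 * 1)) (h7 : 7 ∣ N) (h4 : 4 ∣ N) (h0 : 0 < N)
    (hm : N = 3 ^ 2 * m) : ¬ 3 ∣ m := by
  omega

theorem arith5 {N m : ℕ} (hle : N ≤ 150 * (2 * 1)) (h3 : 3 ∣ N) (h2 : 2 ∣ N) (h0 : 0 < N)
    (hm : N = 5 ^ 2 * m) : m = 6 ∨ m = 12 := by
  omega

theorem arith7 {N m : ℕ} (hle : N ≤ 1176) (h3 : 3 ∣ N) (h4 : 4 ∣ N) (h0 : 0 < N)
    (hm : N = 7 ^ 2 * m) : m = 12 ∨ m = 24 := by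
  omega

/-! ### the prime 17 -/

instance fp17 : Fact (Nat.Prime 17) := ⟨by norm_num⟩
instance fp7 : Fact (Nat.Prime 7) := ⟨by norm_num⟩
instance fp5 : Fact (Nat.Prime 5) := ⟨by norm_num⟩
instance fp3 : Fact (Nat.Prime 3) := ⟨by norm_num⟩

theorem card17 : Nat.card (centralizer ({wd [.f, .d, .c, .b]} : Set Cfsg.Spor.He)) = 17 := by
  have h1 : Nat.card (centralizer ({wd [.f, .d, .c, .b]} : Set Cfsg.Spor.He)) ≤ 17 * 1 :=
    qQ _ (bd_one _ _)
  have h2 : 17 ∣ Nat.card (centralizer ({wd [.f, .d, .c, .b]} : Set Cfsg.Spor.He)) :=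
    dvd_cent rfl o17
  have h3 : 0 < Nat.card (centralizer ({wd [.f, .d, .c, .b]} : Set Cfsg.Spor.He)) := Nat.card_pos
  obtain ⟨k, hk⟩ := h2
  omega

theorem fact17 : (Nat.card Cfsg.Spor.He).factorization 17 = 1 := by
  rw [card_he]
  exact factorization_eq_one (by norm_num) (by norm_num)

theorem im17 : IM 17 Cfsg.Spor.He := by
  refine IM_of_hasDZ (hasDZ_of_orders fact17 o17 card17 {1, 2, 3, 4, 5, 6, 7, 8, 10, 12, 14} ?_ ?_)
    (by rw [card_he]; norm_num)
  · intro n hn
    simp only [Finset.mem_insert, Finset.mem_singleton] at hn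
    rcases hn with rfl | rfl | rfl | rfl | rfl | rfl | rfl | rfl | rfl | rfl | rfl
    exacts [⟨by norm_num, _, o1⟩, ⟨by norm_num, _, o2⟩, ⟨by norm_num, _, o3⟩, ⟨by norm_num, _, o4⟩,
      ⟨by norm_num, _, o5⟩, ⟨by norm_num, _, o6⟩, ⟨by norm_num, _, o7⟩, ⟨by norm_num, _, o8⟩,
      ⟨by norm_num, _, o10⟩, ⟨by norm_num, _, o12⟩, ⟨by norm_num, _, o14⟩]
  · rw [card_he]
    decide

theorem im2 : IM 2 Cfsg.Spor.He := by
  have h1 := card_fus_eq fact17 o17 (c := 1) (by rw [card17]) (e := 8) (by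
    rw [card_he]; intro k hk h; omega)
  refine IM_two_of_real (x := wd [.f, .d, .c, .b]) ?_ (isConj_inv_of_even (p := 17) ?_ ?_) ?_
  · intro h
    have := o17
    rw [h, orderOf_one] at this
    omega
  · rw [← o17]; exact pow_orderOf_eq_one _
  · rw [h1.1]; decide
  · rw [card17]; decide

/-! ### the prime 3 -/

/-- an element of order 3 commuting with `c b` -/
theorem oy3 : orderOf (wd YB3) = 3 := orderOf_of (by decide) (by decide +kernel)

/-- an element of order 7 commuting with `c b` -/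
def Z37 : List Gen := [.d, .c, .d, .c, .g, .d, .c, .b, .d, .c, .f, .d, .g, .c, .d, .b, .c, .d, .f,
  .c, .d, .c, .d, .a]

theorem oz37 : orderOf (wd Z37) = 7 := orderOf_of (by decide) (by decide +kernel)

theorem o4' : orderOf (wd [.g, .f]) = 4 := orderOf_of (by decide) (by decide +kernel)

theorem not_dvd_of_prime {n p k q : ℕ} (hn : n ≤ p ^ k) (hd : p ^ k ∣ n) (hn0 : 0 < n)
    (hp : p.Prime) (hq : q.Prime) (hne : q ≠ p) : ¬ q ∣ n := by
  have h1 : n = p ^ k := le_antisymm hn (Nat.le_of_dvd hn0 hd)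
  rw [h1]
  intro h
  exact hne ((Nat.prime_dvd_prime_iff_eq hq hp).1 (hq.dvd_of_dvd_pow h))

theorem pair {p : ℕ} [hp : Fact p.Prime] (X Y : List Gen) (l : List (ℕ × ℕ))
    (hX : orderOf (wd X) = p) (hY : orderOf (wd Y) = p) (hXY : chkB (Y ++ X) (X ++ Y) = true)
    (hn : ((List.range p).all fun j => Bool.not (chkB Y (pw X j))) = true) {b : ℕ}
    (hb : b ≤ p ^ 2) (hQ : Q (mkw X Y l) [] b) :
    p ^ 2 ∣ Nat.card (centralizer ({wd X} : Set Cfsg.Spor.He)) ∧
    ∀ q : ℕ, q.Prime → q ≠ p → ¬ q ∣ Nat.card ↥(centralizer ({wd X} : Set Cfsg.Spor.He) ⊓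
      centralizer ({wd Y} : Set Cfsg.Spor.He)) := by
  have hc := comm_of_chk hXY
  have hnm := not_mem_zpowers_of hp.out.pos hX hn
  constructor
  · exact sq_dvd hX hY hc hnm _ (mem_centralizer_singleton_iff.2 rfl)
      (mem_centralizer_singleton_iff.2 hc)
  · intro q hq hne
    refine not_dvd_of_prime (k := 2) ((hQ _ (bd_two X Y l)).trans hb) ?_ Nat.card_pos hp.out hq hne
    exact sq_dvd hX hY hc hnm _ ⟨mem_centralizer_singleton_iff.2 rfl,
      mem_centralizer_singleton_iff.2 hc.symm⟩ ⟨mem_centralizer_singleton_iff.2 hc,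
      mem_centralizer_singleton_iff.2 rfl⟩

theorem im3 : IM 3 Cfsg.Spor.He := by
  have hp := pair (p := 3) XB3 YB3 _ o3 oy3 (by decide +kernel) (by decide +kernel)
    (by norm_num) qB3
  have hle : Nat.card (centralizer ({wd XB3} : Set Cfsg.Spor.He)) ≤ 126 * (4 * 1) :=
    qA3 _ (bd_one _ _)
  have h7 : 7 ∣ Nat.card (centralizer ({wd XB3} : Set Cfsg.Spor.He)) :=
    dvd_cent (comm_of_chk (by decide +kernel)) oz37
  have h4 : 4 ∣ Nat.card (centralizer ({wd XB3} : Set Cfsg.Spor.He)) :=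
    dvd_cent (comm_of_chk (by decide +kernel)) o4'
  have h0 : 0 < Nat.card (centralizer ({wd XB3} : Set Cfsg.Spor.He)) := Nat.card_pos
  obtain ⟨m, hm⟩ := hp.1
  have h3 := arith3 hle h7 h4 h0 hm
  refine IM_of_pair (x := wd XB3) (y := wd YB3) o3 oy3 (comm_of_chk (by decide +kernel))
    (not_mem_zpowers_of (by norm_num) o3 (by decide +kernel)) hp.2 hm h3 {1, 4, 7} ?_ ?_
  · intro n hn
    simp only [Finset.mem_insert, Finset.mem_singleton] at hn
    rcases hn with rfl | rfl | rfl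
    exacts [⟨by norm_num, _, comm_of_chk (by decide +kernel), o1⟩,
      ⟨by norm_num, _, comm_of_chk (by decide +kernel), o4'⟩,
      ⟨by norm_num, _, comm_of_chk (by decide +kernel), oz37⟩]
  · intro _
    exact lt_of_lt_of_le (Nat.mod_lt m (by norm_num)) (by decide)

/-! ### the prime 5 -/

theorem oy5 : orderOf (wd YB5) = 5 := orderOf_of (by decide) (by decide +kernel)

/-- an element of order 3 commuting with `(d c) ^ 2` -/
def Z53 : List Gen := [.f, .g, .b, .c, .d, .f, .g, .c, .b]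

theorem oz53 : orderOf (wd Z53) = 3 := orderOf_of (by decide) (by decide +kernel)

theorem im5 : IM 5 Cfsg.Spor.He := by
  have hp := pair (p := 5) XB5 YB5 _ o5 oy5 (by decide +kernel) (by decide +kernel)
    (by norm_num) qB5
  have hle : Nat.card (centralizer ({wd XB5} : Set Cfsg.Spor.He)) ≤ 150 * (2 * 1) :=
    qA5 _ (bd_one _ _)
  have h3 : 3 ∣ Nat.card (centralizer ({wd XB5} : Set Cfsg.Spor.He)) :=
    dvd_cent (comm_of_chk (by decide +kernel)) oz53
  have h2 : 2 ∣ Nat.card (centralizer ({wd XB5} : Set Cfsg.Spor.He)) :=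
    dvd_cent (comm_of_chk (by decide +kernel)) o2
  have h0 : 0 < Nat.card (centralizer ({wd XB5} : Set Cfsg.Spor.He)) := Nat.card_pos
  obtain ⟨m, hm⟩ := hp.1
  have hm' := arith5 hle h3 h2 h0 hm
  have hm5 : ¬ 5 ∣ m := by rcases hm' with rfl | rfl <;> decide
  refine IM_of_pair (x := wd XB5) (y := wd YB5) o5 oy5 (comm_of_chk (by decide +kernel))
    (not_mem_zpowers_of (by norm_num) o5 (by decide +kernel)) hp.2 hm hm5 {1, 2, 3} ?_ ?_
  · intro n hn
    simp only [Finset.mem_insert, Finset.mem_singleton] at hn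
    rcases hn with rfl | rfl | rfl
    exacts [⟨by norm_num, _, comm_of_chk (by decide +kernel), o1⟩,
      ⟨by norm_num, _, comm_of_chk (by decide +kernel), o2⟩,
      ⟨by norm_num, _, comm_of_chk (by decide +kernel), oz53⟩]
  · intro _
    rcases hm' with rfl | rfl <;> decide

/-! ### the prime 7 -/

theorem oy7 : orderOf (wd YB7) = 7 := orderOf_of (by decide) (by decide +kernel)

/-- an element of order 3 commuting with `d f g` -/
def Z73 : List Gen := [.c, .d, .c, .f, .d, .c, .d, .f, .c, .d, .c, .d, .f, .c, .d, .b]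

theorem oz73 : orderOf (wd Z73) = 3 := orderOf_of (by decide) (by decide +kernel)

theorem im7 : IM 7 Cfsg.Spor.He := by
  have hp := pair (p := 7) XB7 YB7 _ o7 oy7 (by decide +kernel) (by decide +kernel)
    (by norm_num) qB7
  have hle : Nat.card (centralizer ({wd XB7} : Set Cfsg.Spor.He)) ≤ 1176 :=
    Cfsg.Agent.CpAutHe.Bound.card0
  have h3 : 3 ∣ Nat.card (centralizer ({wd XB7} : Set Cfsg.Spor.He)) :=
    dvd_cent (comm_of_chk (by decide +kernel)) oz73
  have h4 : 4 ∣ Nat.card (centralizer ({wd XB7} : Set Cfsg.Spor.He)) :=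
    dvd_cent (comm_of_chk (by decide +kernel)) o4
  have h0 : 0 < Nat.card (centralizer ({wd XB7} : Set Cfsg.Spor.He)) := Nat.card_pos
  obtain ⟨m, hm⟩ := hp.1
  have hm' := arith7 hle h3 h4 h0 hm
  have hm7 : ¬ 7 ∣ m := by rcases hm' with rfl | rfl <;> decide
  refine IM_of_pair (x := wd XB7) (y := wd YB7) o7 oy7 (comm_of_chk (by decide +kernel))
    (not_mem_zpowers_of (by norm_num) o7 (by decide +kernel)) hp.2 hm hm7 {1, 2, 3, 4} ?_ ?_
  · intro n hn
    simp only [Finset.mem_insert, Finset.mem_singleton] at hn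
    rcases hn with rfl | rfl | rfl | rfl
    exacts [⟨by norm_num, _, comm_of_chk (by decide +kernel), o1⟩,
      ⟨by norm_num, _, comm_of_chk (by decide +kernel), o2⟩,
      ⟨by norm_num, _, comm_of_chk (by decide +kernel), oz73⟩,
      ⟨by norm_num, _, comm_of_chk (by decide +kernel), o4⟩]
  · rcases hm' with rfl | rfl
    · intro h; exact absurd h (by decide)
    · intro _; decide

/-- **The Held group has, for each prime divisor `p` of its order, an irreducible character of degree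
divisible by `p`.** -/
theorem im_he {S : Type u} [Group S] (h : Cfsg.Spor.IsoHe S) {p : ℕ} [hp : Fact p.Prime]
    (hd : p ∣ Nat.card S) : IM p S := by
  obtain ⟨e⟩ := h
  rw [Nat.card_congr e.toEquiv, card_he] at hd
  have h1 : (4030387200 : ℕ) = 2 ^ 10 * 3 ^ 3 * 5 ^ 2 * 7 ^ 3 * 17 := by norm_num
  rw [h1] at hd
  have h2 : p = 2 ∨ p = 3 ∨ p = 5 ∨ p = 7 ∨ p = 17 := by
    have hpp := hp.out
    rcases (Nat.Prime.dvd_mul hpp).1 hd with hd | hd
    · rcases (Nat.Prime.dvd_mul hpp).1 hd with hd | hd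
      · rcases (Nat.Prime.dvd_mul hpp).1 hd with hd | hd
        · rcases (Nat.Prime.dvd_mul hpp).1 hd with hd | hd
          · exact Or.inl ((Nat.prime_dvd_prime_iff_eq hpp (by norm_num)).1 (hpp.dvd_of_dvd_pow hd))
          · exact Or.inr (Or.inl
              ((Nat.prime_dvd_prime_iff_eq hpp (by norm_num)).1 (hpp.dvd_of_dvd_pow hd)))
        · exact Or.inr (Or.inr (Or.inl
            ((Nat.prime_dvd_prime_iff_eq hpp (by norm_num)).1 (hpp.dvd_of_dvd_pow hd))))
      · exact Or.inr (Or.inr (Or.inr (Or.inl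
          ((Nat.prime_dvd_prime_iff_eq hpp (by norm_num)).1 (hpp.dvd_of_dvd_pow hd)))))
    · exact Or.inr (Or.inr (Or.inr (Or.inr
        ((Nat.prime_dvd_prime_iff_eq hpp (by norm_num)).1 hd))))
  rcases h2 with rfl | rfl | rfl | rfl | rfl
  exacts [im2.of_equiv e, im3.of_equiv e, im5.of_equiv e, im7.of_equiv e, im17.of_equiv e]

end Cfsg.Agent.H492.IMHe
end
end
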