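import Cfsg.Agent.H651.StarTrace
import Cfsg.Agent.HN.Count
import Cfsg.Agent.H33.IM
import Cfsg.Agent.FastGrp
import Cfsg.Agent.Prune
set_option linter.all false

section
prune_inst 0x7f00000000000000000000000000000000000000000000000000000000000000000000000000000000000000000000000000000000000000000000000000000000000000000000000000000000000000003fffffffffffffffffffffffffffbeffbdfbfeffff

-- part: H492/IMSph
section
prune_inst 0x4010000
set_option linter.all false
open scoped Cfsg.Agent.FastGrp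

/-!
# Irreducible characters from spherical functions (helper492)

* `exists_irr_of_spherical` : a function `φ` on a finite group with `φ 1 = 1` and
  `φ δ_y φ ∈ ℂ φ` for all `y` gives an irreducible character `χ` with `χ 1 * κ = |G|`,
  `κ = ∑ φ z * φ z⁻¹`.
* `exists_irr_of_hecke` : `φ` is the only `H`-biinvariant eigenfunction of the double coset
  `H t H` with its eigenvalue.
* `exists_irr_of_table` : the same for a table of local counts (format of `HN.Count`): an
  eigenvalue `μ` of multiplicity 1 of the matrix `k`, with eigenvector `v`, `v i0 = 1`, gives an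
  irreducible character of degree `|G : H| / ∑ sz i * v i ^ 2`.
-/

set_option autoImplicit false

namespace Cfsg.Agent.H492.IMSph

open Cfsg Cfsg.Agent.Characters.Core
open scoped ComplexConjugate

universe u

variable {G : Type u} [Group G]

theorem exists_irr_of_spherical [Fintype G] {φ : G → ℂ} {κ : ℂ} (h1 : φ 1 = 1)
    (hκ : ∑ z, φ z * φ z⁻¹ = κ) (hκ0 : κ ≠ 0)
    (hprim : ∀ y u, ∑ g, φ g * φ (y⁻¹ * g⁻¹ * u) = (∑ g, φ g * φ (y⁻¹ * g⁻¹)) * φ u) :
    ∃ χ : IrrCharacter G, (χ : G → ℂ) 1 * κ = Nat.card G := by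
  classical
  -- the idempotent
  have hid : ∀ u, ∑ g, φ g * φ (g⁻¹ * u) = κ * φ u := by
    intro u
    have h := hprim 1 u
    rw [inv_one] at h
    simp only [one_mul] at h
    rw [h, hκ]
  have hy : ∀ y, ∑ g, φ g * φ (y⁻¹ * g⁻¹) = κ * φ y⁻¹ := by
    intro y
    rw [← hid y⁻¹, ← Equiv.sum_comp ((Equiv.mulLeft y).trans (Equiv.inv G))]
    refine Finset.sum_congr rfl fun k _ => ?_
    simp only [Equiv.trans_apply, Equiv.inv_apply, Equiv.coe_mulLeft, inv_inv, mul_inv_rev]
    rw [inv_mul_cancel_left, mul_comm]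
  have hG : (Nat.card G : ℂ) ≠ 0 := by
    exact_mod_cast Nat.card_pos.ne'
  -- the character
  have hc : IsCharacter G (fun g : G => ∑ a : G, κ⁻¹ * φ (a⁻¹ * (g * a))) := by
    have := Cfsg.Agent.H651.isCharacter_sum_perm (MulAction.toPermHom G G)
      (fun a b => κ⁻¹ * φ (a⁻¹ * b)) ?_ ?_
    · exact this
    · intro a c
      have h2 : ∀ b, κ⁻¹ * φ (a⁻¹ * b) * (κ⁻¹ * φ (b⁻¹ * c)) =
          κ⁻¹ * κ⁻¹ * (φ (a⁻¹ * b) * φ (b⁻¹ * c)) := fun b => by ring
      rw [Finset.sum_congr rfl fun b _ => h2 b, ← Finset.mul_sum]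
      rw [← Equiv.sum_comp (Equiv.mulLeft a)]
      have h3 : ∀ b, φ (a⁻¹ * (Equiv.mulLeft a) b) * φ (((Equiv.mulLeft a) b)⁻¹ * c) =
          φ b * φ (b⁻¹ * (a⁻¹ * c)) := by
        intro b
        simp only [Equiv.coe_mulLeft, inv_mul_cancel_left, mul_inv_rev, mul_assoc]
      rw [Finset.sum_congr rfl fun b _ => h3 b, hid]
      field_simp
    · intro g a b
      show κ⁻¹ * φ ((g * a)⁻¹ * (g * b)) = _
      rw [mul_inv_rev, mul_assoc, inv_mul_cancel_left]
  set θ : G → ℂ := fun g : G => ∑ a : G, κ⁻¹ * φ (a⁻¹ * (g * a)) with hθ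
  -- its norm
  have hnorm : classInner θ θ = 1 := by
    rw [classInner_def]
    have h2 : ∀ g, θ g * conj (θ g) = θ g * θ g⁻¹ := fun g => by rw [isCharacter_apply_inv hc]
    rw [Finset.sum_congr rfl fun g _ => h2 g]
    -- the second factor is a class function
    have hcl : ∀ g x, θ (x * g * x⁻¹) = θ g := by
      intro g x
      rw [hθ]
      show ∑ a : G, κ⁻¹ * φ (a⁻¹ * (x * g * x⁻¹ * a)) = ∑ a : G, κ⁻¹ * φ (a⁻¹ * (g * a))
      rw [← Equiv.sum_comp (Equiv.mulLeft x)]
      refine Finset.sum_congr rfl fun a _ => ?_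
      simp only [Equiv.coe_mulLeft, mul_inv_rev]
      congr 2
      group
    have h3 : ∑ g, θ g * θ g⁻¹ = Nat.card G * ∑ g, κ⁻¹ * φ g * θ g⁻¹ := by
      have e1 : ∀ g, θ g * θ g⁻¹ = ∑ a : G, κ⁻¹ * φ (a⁻¹ * (g * a)) * θ g⁻¹ := fun g => by
        rw [← Finset.sum_mul]
      rw [Finset.sum_congr rfl fun g _ => e1 g, Finset.sum_comm]
      have e2 : ∀ a : G, ∑ g, κ⁻¹ * φ (a⁻¹ * (g * a)) * θ g⁻¹ = ∑ g, κ⁻¹ * φ g * θ g⁻¹ := by
        intro a
        rw [← Equiv.sum_comp (MulAut.conj a).toEquiv]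
        refine Finset.sum_congr rfl fun g _ => ?_
        have e3 : (MulAut.conj a).toEquiv g = a * g * a⁻¹ := rfl
        have e4 : (a * g * a⁻¹)⁻¹ = a * g⁻¹ * a⁻¹ := by group
        have e5 : a⁻¹ * (a * g * a⁻¹ * a) = g := by group
        rw [e3, e4, hcl, e5]
      rw [Finset.sum_congr rfl fun a _ => e2 a, Finset.sum_const, Finset.card_univ,
        ← Nat.card_eq_fintype_card, nsmul_eq_mul]
    have h4 : ∑ g, κ⁻¹ * φ g * θ g⁻¹ = 1 := by
      have e1 : ∀ g, κ⁻¹ * φ g * θ g⁻¹ = ∑ y, κ⁻¹ * κ⁻¹ * (φ g * φ (y⁻¹ * g⁻¹ * y)) := by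
        intro g
        rw [hθ]
        show κ⁻¹ * φ g * ∑ a : G, κ⁻¹ * φ (a⁻¹ * (g⁻¹ * a)) = _
        rw [Finset.mul_sum]
        refine Finset.sum_congr rfl fun a _ => ?_
        rw [← mul_assoc a⁻¹]
        ring
      rw [Finset.sum_congr rfl fun g _ => e1 g, Finset.sum_comm]
      have e2 : ∀ y : G, ∑ g, κ⁻¹ * κ⁻¹ * (φ g * φ (y⁻¹ * g⁻¹ * y)) =
          κ⁻¹ * (φ y * φ y⁻¹) := by
        intro y
        rw [← Finset.mul_sum, hprim, hy]
        field_simp
      rw [Finset.sum_congr rfl fun y _ => e2 y, ← Finset.mul_sum, hκ, inv_mul_cancel₀ hκ0]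
    rw [h3, h4, mul_one, inv_mul_cancel₀ hG]
  have hirr : IsIrrCharacter G θ := isIrr_of_classInner_self hc hnorm
  refine ⟨⟨θ, hirr⟩, ?_⟩
  show (∑ a : G, κ⁻¹ * φ (a⁻¹ * (1 * a))) * κ = _
  have h5 : ∀ a : G, κ⁻¹ * φ (a⁻¹ * (1 * a)) = κ⁻¹ := fun a => by
    rw [one_mul, inv_mul_cancel, h1, mul_one]
  rw [Finset.sum_congr rfl fun a _ => h5 a, Finset.sum_const, Finset.card_univ,
    ← Nat.card_eq_fintype_card, nsmul_eq_mul, mul_assoc, inv_mul_cancel₀ hκ0, mul_one]

/-- The version for the Hecke algebra. -/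
theorem exists_irr_of_hecke [Fintype G] (H : Subgroup G) [Fintype H] (t : G) {φ : G → ℂ} {μ κ : ℂ}
    (hl : ∀ h ∈ H, ∀ g, φ (h * g) = φ g) (hr : ∀ h ∈ H, ∀ g, φ (g * h) = φ g) (h1 : φ 1 = 1)
    (hT : ∀ g, ∑ h : H, φ (g * h * t) = μ * φ g)
    (huniq : ∀ f : G → ℂ, (∀ h ∈ H, ∀ g, f (h * g) = f g) → (∀ h ∈ H, ∀ g, f (g * h) = f g) →
      (∀ g, ∑ h : H, f (g * h * t) = μ * f g) → ∀ g, f g = f 1 * φ g)
    (hκ : ∑ z, φ z * φ z⁻¹ = κ) (hκ0 : κ ≠ 0) :
    ∃ χ : IrrCharacter G, (χ : G → ℂ) 1 * κ = Nat.card G := by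
  refine exists_irr_of_spherical h1 hκ hκ0 fun y u => ?_
  have h := huniq (fun u => ∑ g, φ g * φ (y⁻¹ * g⁻¹ * u)) ?_ ?_ ?_ u
  · simp only [mul_one] at h
    exact h
  · intro h hh g
    show ∑ x, φ x * φ (y⁻¹ * x⁻¹ * (h * g)) = ∑ x, φ x * φ (y⁻¹ * x⁻¹ * g)
    rw [← Equiv.sum_comp (Equiv.mulLeft h)]
    refine Finset.sum_congr rfl fun x _ => ?_
    simp only [Equiv.coe_mulLeft]
    rw [hl h hh]
    congr 2
    group
  · intro h hh g
    show ∑ x, φ x * φ (y⁻¹ * x⁻¹ * (g * h)) = ∑ x, φ x * φ (y⁻¹ * x⁻¹ * g)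
    refine Finset.sum_congr rfl fun x _ => ?_
    rw [← mul_assoc (y⁻¹ * x⁻¹), hr h hh]
  · intro g
    show ∑ h : H, ∑ x, φ x * φ (y⁻¹ * x⁻¹ * (g * h * t)) =
      μ * ∑ x, φ x * φ (y⁻¹ * x⁻¹ * g)
    rw [Finset.sum_comm, Finset.mul_sum]
    refine Finset.sum_congr rfl fun x _ => ?_
    have e : ∀ h : H, φ x * φ (y⁻¹ * x⁻¹ * (g * h * t)) = φ x * φ (y⁻¹ * x⁻¹ * g * h * t) := by
      intro h
      congr 2
      group
    rw [Finset.sum_congr rfl fun h _ => e h, ← Finset.mul_sum, hT]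
    ring

section sizes

open DoubleCoset Cfsg.Agent.HN.Count

theorem card_doubleCoset [Finite G] (H : Subgroup G) (w : G) :
    Nat.card (doubleCoset w (H : Set G) (H : Set G)) = Nat.card H * sz H w := by
  have h1 : Nat.card ((QuotientGroup.mk : G → G ⧸ H) ⁻¹' (MulAction.orbit H (pnt H w))) =
      Nat.card H * sz H w := by
    rw [Nat.card_congr (QuotientGroup.preimageMkEquivSubgroupProdSet H _), Nat.card_prod]
    rfl
  rw [← h1]
  refine Nat.card_congr
    { toFun := fun g => ⟨g.1⁻¹, ?_⟩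
      invFun := fun g => ⟨g.1⁻¹, ?_⟩
      left_inv := fun g => Subtype.ext (inv_inv _)
      right_inv := fun g => Subtype.ext (inv_inv _) }
  · have h2 : pnt H g.1 ∈ MulAction.orbit H (pnt H w) := by
      rw [mem_orbit_iff']
      exact g.2
    exact h2
  · have h2 : pnt H g.1⁻¹ ∈ MulAction.orbit H (pnt H w) := by
      have h3 : pnt H g.1⁻¹ = (g.1 : G ⧸ H) := by
        unfold pnt
        rw [inv_inv]
      rw [h3]
      exact g.2
    rwa [mem_orbit_iff'] at h2

theorem sz_of_mem_doubleCoset (H : Subgroup G) {g w : G}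
    (h : g ∈ doubleCoset w (H : Set G) (H : Set G)) : sz H g = sz H w := by
  rw [← mem_orbit_iff'] at h
  unfold sz
  rw [MulAction.orbit_eq_iff.2 h]

theorem sz_inv [Finite G] (H : Subgroup G) (w : G) : sz H w⁻¹ = sz H w := by
  have h1 := card_doubleCoset H w
  have h2 := card_doubleCoset H w⁻¹
  have h3 : Nat.card (doubleCoset w⁻¹ (H : Set G) (H : Set G)) =
      Nat.card (doubleCoset w (H : Set G) (H : Set G)) := by
    refine Nat.card_congr
      { toFun := fun g => ⟨g.1⁻¹, ?_⟩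
        invFun := fun g => ⟨g.1⁻¹, ?_⟩
        left_inv := fun g => Subtype.ext (inv_inv _)
        right_inv := fun g => Subtype.ext (inv_inv _) }
    · obtain ⟨a, ha, b, hb, e⟩ := mem_doubleCoset.1 g.2
      refine mem_doubleCoset.2 ⟨b⁻¹, H.inv_mem hb, a⁻¹, H.inv_mem ha, ?_⟩
      rw [e]; group
    · obtain ⟨a, ha, b, hb, e⟩ := mem_doubleCoset.1 g.2
      refine mem_doubleCoset.2 ⟨b⁻¹, H.inv_mem hb, a⁻¹, H.inv_mem ha, ?_⟩
      rw [e]; group
  rw [h1, h2] at h3
  exact Nat.eq_of_mul_eq_mul_left Nat.card_pos h3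

/-- If the sizes are distinct, all double cosets are closed under inverses. -/
theorem inv_mem_of_sz [Finite G] (H : Subgroup G) {m : ℕ} (w : Fin m → G)
    (hcov : ∀ g, ∃ i, g ∈ doubleCoset (w i) (H : Set G) (H : Set G))
    (hs : ∀ i j, sz H (w i) = sz H (w j) → i = j) (i : Fin m) :
    (w i)⁻¹ ∈ doubleCoset (w i) (H : Set G) (H : Set G) := by
  obtain ⟨j, hj⟩ := hcov (w i)⁻¹
  have h1 := sz_of_mem_doubleCoset H hj
  rw [sz_inv] at h1
  rwa [← hs i j h1] at hj

end sizes

open DoubleCoset in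
/-- **Irreducible characters from a table of local counts.** -/
theorem exists_irr_of_table [Finite G] (H : Subgroup G) {m n : ℕ} (w : Fin m → G) (t : G)
    (hdis : ∀ i j, w j ∈ doubleCoset (w i) (H : Set G) (H : Set G) → i = j)
    (hcov : ∀ g, ∃ i, g ∈ doubleCoset (w i) (H : Set G) (H : Set G))
    (hinv : ∀ i, (w i)⁻¹ ∈ doubleCoset (w i) (H : Set G) (H : Set G))
    (pt : H → Fin n) (N : ℕ) (hN : 0 < N) (hpt : ∀ q, Nat.card {h : H // pt h = q} = N)
    (τ : Fin m → Fin n → Fin m)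
    (hτ : ∀ i (h : H), w i * h * t ∈ doubleCoset (w (τ i (pt h))) (H : Set G) (H : Set G))
    (k : Fin m → Fin m → ℕ)
    (hk : ∀ i j, (Finset.univ.filter (fun q => τ i q = j)).card = k i j)
    (i0 : Fin m) (hi0 : w i0 = 1) (v : Fin m → ℚ) (μ : ℚ) (hv0 : v i0 = 1)
    (hv : ∀ i, ∑ j, (k i j : ℚ) * v j = μ * v i)
    (hu : ∀ x : Fin m → ℂ, (∀ i, ∑ j, (k i j : ℂ) * x j = μ * x i) → ∀ i, x i = x i0 * v i) :
    ∃ χ : IrrCharacter G, (χ : G → ℂ) 1 *
      ((∑ i, (Cfsg.Agent.HN.Count.sz H (w i) : ℚ) * v i ^ 2 : ℚ) : ℂ) = H.index := by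
  classical
  have := Fintype.ofFinite G
  have := Fintype.ofFinite H
  choose lab hlab using hcov
  -- the label of a product
  have huniq : ∀ g i, g ∈ doubleCoset (w i) (H : Set G) (H : Set G) → lab g = i := by
    intro g i hg
    apply hdis
    have h1 := doubleCoset_eq_of_mem hg
    have h2 := doubleCoset_eq_of_mem (hlab g)
    have h3 : w i ∈ doubleCoset g (H : Set G) (H : Set G) := by
      rw [h1]; exact mem_doubleCoset_self H H (w i)
    rwa [h2] at h3
  have hlabl : ∀ h ∈ H, ∀ g, lab (h * g) = lab g := by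
    intro h hh g
    apply huniq
    obtain ⟨a, ha, b, hb, e⟩ := mem_doubleCoset.1 (hlab g)
    exact mem_doubleCoset.2 ⟨h * a, H.mul_mem hh ha, b, hb, by
      nth_rewrite 1 [e]; simp only [mul_assoc]⟩
  have hlabr : ∀ h ∈ H, ∀ g, lab (g * h) = lab g := by
    intro h hh g
    apply huniq
    obtain ⟨a, ha, b, hb, e⟩ := mem_doubleCoset.1 (hlab g)
    exact mem_doubleCoset.2 ⟨a, ha, b * h, H.mul_mem hb hh, by
      nth_rewrite 1 [e]; simp only [mul_assoc]⟩
  have hlabw : ∀ i, lab (w i) = i := fun i => huniq _ _ (mem_doubleCoset_self H H (w i))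
  have hlabi : ∀ g, lab g⁻¹ = lab g := by
    intro g
    apply huniq
    obtain ⟨a, ha, b, hb, e⟩ := mem_doubleCoset.1 (hlab g)
    obtain ⟨a', ha', b', hb', e'⟩ := mem_doubleCoset.1 (hinv (lab g))
    refine mem_doubleCoset.2 ⟨b⁻¹ * a', H.mul_mem (H.inv_mem hb) ha', b' * a⁻¹,
      H.mul_mem hb' (H.inv_mem ha), ?_⟩
    nth_rewrite 1 [e]
    rw [mul_inv_rev, mul_inv_rev, e']
    group
  -- biinvariant functions
  have hf : ∀ f : G → ℂ, (∀ h ∈ H, ∀ g, f (h * g) = f g) → (∀ h ∈ H, ∀ g, f (g * h) = f g) →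
      ∀ i g, g ∈ doubleCoset (w i) (H : Set G) (H : Set G) → f g = f (w i) := by
    intro f hl hr i g hg
    obtain ⟨a, ha, b, hb, e⟩ := mem_doubleCoset.1 hg
    rw [e, hr b hb, hl a ha]
  have hsum : ∀ f : G → ℂ, (∀ h ∈ H, ∀ g, f (h * g) = f g) → (∀ h ∈ H, ∀ g, f (g * h) = f g) →
      ∀ g, ∑ h : H, f (g * h * t) = N * ∑ j, (k (lab g) j : ℂ) * f (w j) := by
    intro f hl hr g
    obtain ⟨a, ha, b, hb, e⟩ := mem_doubleCoset.1 (hlab g)
    have h1 : ∀ h : H, f (g * h * t) = f (w (lab g) * ((⟨b, hb⟩ * h : H) : G) * t) := by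
      intro h
      nth_rewrite 1 [e]
      have : a * w (lab g) * b * h * t = a * (w (lab g) * (b * h) * t) := by group
      rw [this, hl a ha]
      rfl
    have h6 := Equiv.sum_comp (Equiv.mulLeft (⟨b, hb⟩ : H))
      (fun h : H => f (w (lab g) * (h : G) * t))
    simp only [Equiv.coe_mulLeft] at h6
    rw [Finset.sum_congr rfl fun h _ => h1 h, h6]
    have h2 : ∀ h : H, f (w (lab g) * (h : G) * t) = f (w (τ (lab g) (pt h))) :=
      fun h => hf f hl hr _ _ (hτ (lab g) h)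
    rw [Finset.sum_congr rfl fun h _ => h2 h]
    rw [← Finset.sum_fiberwise (s := Finset.univ) (g := fun h : H => pt h)]
    have h3 : ∀ q : Fin n, ∑ h : H with pt h = q, f (w (τ (lab g) (pt h))) =
        N * f (w (τ (lab g) q)) := by
      intro q
      have h4 : ∀ h ∈ Finset.univ.filter (fun h : H => pt h = q),
          f (w (τ (lab g) (pt h))) = f (w (τ (lab g) q)) := by
        intro h hh
        rw [(Finset.mem_filter.1 hh).2]
      rw [Finset.sum_congr rfl h4, Finset.sum_const, nsmul_eq_mul, ← hpt q,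
        Nat.card_eq_fintype_card, Fintype.card_subtype]
    rw [Finset.sum_congr rfl fun q _ => h3 q, ← Finset.mul_sum]
    congr 1
    rw [← Finset.sum_fiberwise (s := Finset.univ) (g := fun q : Fin n => τ (lab g) q)]
    refine Finset.sum_congr rfl fun j _ => ?_
    have h5 : ∀ q ∈ Finset.univ.filter (fun q : Fin n => τ (lab g) q = j),
        f (w (τ (lab g) q)) = f (w j) := by
      intro q hq
      rw [(Finset.mem_filter.1 hq).2]
    rw [Finset.sum_congr rfl h5, Finset.sum_const, nsmul_eq_mul, hk]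
  -- the size of a double coset
  have hsz : ∀ i, (Finset.univ.filter (fun g : G => lab g = i)).card =
      Nat.card H * Cfsg.Agent.HN.Count.sz H (w i) := by
    intro i
    rw [← card_doubleCoset, ← Fintype.card_subtype, ← Nat.card_eq_fintype_card]
    refine Nat.card_congr (Equiv.subtypeEquivRight fun g => ⟨?_, fun h => huniq _ _ h⟩)
    rintro rfl
    exact hlab g
  -- the sum
  set K : ℚ := ∑ i, (Cfsg.Agent.HN.Count.sz H (w i) : ℚ) * v i ^ 2 with hK
  have hKpos : 0 < K := by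
    rw [hK]
    refine Finset.sum_pos' (fun i _ => by positivity) ⟨i0, Finset.mem_univ _, ?_⟩
    rw [hv0, one_pow, mul_one]
    exact_mod_cast Cfsg.Agent.HN.Count.sz_pos H (w i0)
  have hH : (0 : ℚ) < Nat.card H := by exact_mod_cast Nat.card_pos
  have hκ : ∑ z : G, ((v (lab z) : ℚ) : ℂ) * ((v (lab z⁻¹) : ℚ) : ℂ) =
      ((Nat.card H * K : ℚ) : ℂ) := by
    have h1 : ∀ z, ((v (lab z) : ℚ) : ℂ) * ((v (lab z⁻¹) : ℚ) : ℂ) =
        ((v (lab z) ^ 2 : ℚ) : ℂ) := by
      intro z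
      rw [hlabi]
      push_cast
      ring
    rw [Finset.sum_congr rfl fun z _ => h1 z, ← Rat.cast_sum]
    congr 1
    rw [← Finset.sum_fiberwise (s := Finset.univ) (g := fun z : G => lab z), hK, Finset.mul_sum]
    refine Finset.sum_congr rfl fun i _ => ?_
    have h2 : ∀ z ∈ Finset.univ.filter (fun z : G => lab z = i), v (lab z) ^ 2 = v i ^ 2 := by
      intro z hz
      rw [(Finset.mem_filter.1 hz).2]
    rw [Finset.sum_congr rfl h2, Finset.sum_const, nsmul_eq_mul, hsz]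
    push_cast
    ring
  have hmain := exists_irr_of_hecke H t (φ := fun g => ((v (lab g) : ℚ) : ℂ))
    (μ := N * ((μ : ℚ) : ℂ)) (κ := ((Nat.card H * K : ℚ) : ℂ)) ?_ ?_ ?_ ?_ ?_ hκ ?_
  · obtain ⟨χ, hχ⟩ := hmain
    refine ⟨χ, ?_⟩
    have h1 := H.card_mul_index
    have h2 : ((Nat.card H : ℕ) : ℂ) * H.index = Nat.card G := by exact_mod_cast h1
    rw [← h2] at hχ
    have h3 : ((Nat.card H : ℕ) : ℂ) ≠ 0 := by exact_mod_cast Nat.card_pos.ne'
    apply mul_left_cancel₀ h3
    rw [← hχ]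
    push_cast
    ring
  · intro h hh g
    show ((v (lab (h * g)) : ℚ) : ℂ) = ((v (lab g) : ℚ) : ℂ)
    rw [hlabl h hh]
  · intro h hh g
    show ((v (lab (g * h)) : ℚ) : ℂ) = ((v (lab g) : ℚ) : ℂ)
    rw [hlabr h hh]
  · show ((v (lab 1) : ℚ) : ℂ) = 1
    have : lab 1 = i0 := by rw [← hi0]; exact hlabw i0
    rw [this, hv0, Rat.cast_one]
  · intro g
    rw [hsum (fun g => ((v (lab g) : ℚ) : ℂ)) (fun h hh g => by
      show ((v (lab (h * g)) : ℚ) : ℂ) = ((v (lab g) : ℚ) : ℂ)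
      rw [hlabl h hh]) (fun h hh g => by
      show ((v (lab (g * h)) : ℚ) : ℂ) = ((v (lab g) : ℚ) : ℂ)
      rw [hlabr h hh])]
    rw [mul_assoc]
    congr 1
    have h1 := hv (lab g)
    have h2 : ((∑ j, (k (lab g) j : ℚ) * v j : ℚ) : ℂ) = ((μ * v (lab g) : ℚ) : ℂ) := by rw [h1]
    rw [← Rat.cast_mul, ← h2]
    push_cast
    exact Finset.sum_congr rfl fun j _ => by rw [hlabw]
  · intro f hl hr hT g
    have h1 := hu (fun i => f (w i)) (fun i => by
      have h2 := hT (w i)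
      rw [hsum f hl hr, hlabw, mul_assoc] at h2
      exact mul_left_cancel₀ (by exact_mod_cast hN.ne') h2) (lab g)
    show f g = f 1 * ((v (lab g) : ℚ) : ℂ)
    rw [hf f hl hr _ _ (hlab g), h1, hi0]
  · have : (0 : ℚ) < Nat.card H * K := mul_pos hH hKpos
    exact_mod_cast this.ne'

end Cfsg.Agent.H492.IMSph
end

-- part: H492/NodeHecke
section
set_option linter.all false
open scoped Cfsg.Agent.FastGrp

/-!
# Hecke algebras from orbits of a subgroup (helper492)

`B ≤ G`, `φ : M →* G` with image in `B`.  The *nodes* are the sets `B c_j φ(M)`; a table gives for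
each node the numbers of transitions under right multiplication by an involution `t` commuting
with `φ K`.  From such a table and the fusion of the nodes into double cosets of `B` we get
irreducible characters of exact degree.

* `exists_irr_of_lab` : the final step from the Hecke algebra with complex eigenvectors.
* `Nd.uniq`, `Nd.index_eq` : the nodes are disjoint when the indices add up.
* `sum_node`, `sum_lab` : the sums over the nodes and over the double cosets.
* `Nd.fusion` : the double coset classes of nodes from divisibility.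
* `Nd.hecke` : the operator of `t` on biinvariant functions.
-/

set_option autoImplicit false

namespace Cfsg.Agent.H492.NodeHecke

open Cfsg Cfsg.Agent.Characters.Core Cfsg.Agent.H492.IMSph
open scoped ComplexConjugate

universe u v

/-! ### The last step -/

section lab

variable {G : Type u} [Group G]

/-- **Irreducible characters from an operator on biinvariant functions.** -/
theorem exists_irr_of_lab [Fintype G] (H : Subgroup G) [Fintype H] (t : G) {m : ℕ}
    (lab : G → Fin m) (w : Fin m → G)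
    (hlabl : ∀ h ∈ H, ∀ g, lab (h * g) = lab g) (hlabr : ∀ h ∈ H, ∀ g, lab (g * h) = lab g)
    (hw : ∀ g, ∃ a ∈ H, ∃ b ∈ H, g = a * w (lab g) * b)
    (hlabi : ∀ g, lab g⁻¹ = lab g) (N : ℂ) (hN : N ≠ 0) (k : Fin m → Fin m → ℂ)
    (hsum : ∀ f : G → ℂ, (∀ h ∈ H, ∀ g, f (h * g) = f g) → (∀ h ∈ H, ∀ g, f (g * h) = f g) →
      ∀ g, ∑ h : H, f (g * h * t) = N * ∑ j, k (lab g) j * f (w j))
    (hlabw : ∀ i, lab (w i) = i)
    (sz : Fin m → ℕ) (hsz : ∀ i, (Finset.univ.filter (fun g : G => lab g = i)).card =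
      Nat.card H * sz i)
    (i0 : Fin m) (hi0 : w i0 = 1) (v : Fin m → ℂ) (μ : ℂ) (hv0 : v i0 = 1)
    (hv : ∀ i, ∑ j, k i j * v j = μ * v i)
    (hu : ∀ x : Fin m → ℂ, (∀ i, ∑ j, k i j * x j = μ * x i) → ∀ i, x i = x i0 * v i)
    {K : ℂ} (hK : ∑ i, (sz i : ℂ) * v i ^ 2 = K) (hK0 : K ≠ 0) :
    ∃ χ : IrrCharacter G, (χ : G → ℂ) 1 * K = H.index := by
  classical
  have hHc : ((Nat.card H : ℕ) : ℂ) ≠ 0 := by exact_mod_cast Nat.card_pos.ne'
  have hf : ∀ f : G → ℂ, (∀ h ∈ H, ∀ g, f (h * g) = f g) → (∀ h ∈ H, ∀ g, f (g * h) = f g) →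
      ∀ g, f g = f (w (lab g)) := by
    intro f hl hr g
    obtain ⟨a, ha, b, hb, e⟩ := hw g
    nth_rewrite 1 [e]
    rw [hr b hb, hl a ha]
  have hκ : ∑ z : G, v (lab z) * v (lab z⁻¹) = (Nat.card H : ℂ) * K := by
    have h1 : ∀ z, v (lab z) * v (lab z⁻¹) = v (lab z) ^ 2 := by
      intro z
      rw [hlabi, sq]
    rw [Finset.sum_congr rfl fun z _ => h1 z]
    rw [← Finset.sum_fiberwise (s := Finset.univ) (g := fun z : G => lab z), ← hK, Finset.mul_sum]
    refine Finset.sum_congr rfl fun i _ => ?_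
    have h2 : ∀ z ∈ Finset.univ.filter (fun z : G => lab z = i), v (lab z) ^ 2 = v i ^ 2 := by
      intro z hz
      rw [(Finset.mem_filter.1 hz).2]
    rw [Finset.sum_congr rfl h2, Finset.sum_const, nsmul_eq_mul, hsz]
    push_cast
    ring
  have hmain := exists_irr_of_hecke H t (φ := fun g => v (lab g))
    (μ := N * μ) (κ := (Nat.card H : ℂ) * K) ?_ ?_ ?_ ?_ ?_ hκ (mul_ne_zero hHc hK0)
  · obtain ⟨χ, hχ⟩ := hmain
    refine ⟨χ, ?_⟩
    have h1 := H.card_mul_index
    have h2 : ((Nat.card H : ℕ) : ℂ) * H.index = Nat.card G := by exact_mod_cast h1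
    rw [← h2] at hχ
    apply mul_left_cancel₀ hHc
    rw [← hχ]
    ring
  · intro h hh g
    show v (lab (h * g)) = v (lab g)
    rw [hlabl h hh]
  · intro h hh g
    show v (lab (g * h)) = v (lab g)
    rw [hlabr h hh]
  · show v (lab 1) = 1
    have : lab 1 = i0 := by rw [← hi0]; exact hlabw i0
    rw [this, hv0]
  · intro g
    rw [hsum (fun g => v (lab g)) (fun h hh g => by
      show v (lab (h * g)) = v (lab g)
      rw [hlabl h hh]) (fun h hh g => by
      show v (lab (g * h)) = v (lab g)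
      rw [hlabr h hh])]
    rw [mul_assoc, ← hv (lab g)]
    congr 1
    exact Finset.sum_congr rfl fun j _ => by rw [hlabw]
  · intro f hl hr hT g
    have h1 := hu (fun i => f (w i)) (fun i => by
      have h2 := hT (w i)
      rw [hsum f hl hr, hlabw, mul_assoc] at h2
      exact mul_left_cancel₀ hN h2) (lab g)
    show f g = f 1 * v (lab g)
    rw [hf f hl hr g, h1, hi0]

end lab

/-! ### Nodes -/

section nodes

variable {G : Type u} {M : Type v} [Group G] [Group M]

/-- The set `B c φ(M)`. -/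
def nodeSet (φ : M →* G) (B : Subgroup G) (c : G) : Set G := {x | ∃ g, x * (c * φ g)⁻¹ ∈ B}

/-- The stabilizer of the coset `B x`. -/
def Stab (φ : M →* G) (B : Subgroup G) (x : G) : Subgroup M :=
  B.comap ((MulAut.conj x).toMonoidHom.comp φ)

theorem mem_Stab {φ : M →* G} {B : Subgroup G} {x : G} {u : M} :
    u ∈ Stab φ B x ↔ x * φ u * x⁻¹ ∈ B := Iff.rfl

theorem card_node [Finite G] (φ : M →* G) (B : Subgroup G) (c : G) :
    Nat.card (nodeSet φ B c) = Nat.card B * (Stab φ B c).index := by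
  let _ : MulAction M (G ⧸ B) := MulAction.compHom (G ⧸ B) φ
  have h0 : ∀ (g : M) (x : G), g • (x : G ⧸ B) = ((φ g * x : G) : G ⧸ B) := fun _ _ => rfl
  have h1 : Nat.card ((QuotientGroup.mk : G → G ⧸ B) ⁻¹'
      (MulAction.orbit M ((c⁻¹ : G) : G ⧸ B))) = Nat.card B * (Stab φ B c).index := by
    rw [Nat.card_congr (QuotientGroup.preimageMkEquivSubgroupProdSet B _), Nat.card_prod]
    congr 1
    have h2 : MulAction.stabilizer M ((c⁻¹ : G) : G ⧸ B) = Stab φ B c := by
      ext u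
      rw [MulAction.mem_stabilizer_iff, h0, QuotientGroup.eq, mem_Stab]
      rw [← B.inv_mem_iff]
      have : ((φ u * c⁻¹)⁻¹ * c⁻¹)⁻¹ = c * φ u * c⁻¹ := by group
      rw [this]
    rw [← h2, MulAction.index_stabilizer]
    rfl
  rw [← h1]
  refine Nat.card_congr
    { toFun := fun g => ⟨g.1⁻¹, ?_⟩
      invFun := fun g => ⟨g.1⁻¹, ?_⟩
      left_inv := fun g => Subtype.ext (inv_inv _)
      right_inv := fun g => Subtype.ext (inv_inv _) }
  · obtain ⟨g, hg⟩ := g.2
    refine ⟨g⁻¹, ?_⟩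
    show g⁻¹ • ((c⁻¹ : G) : G ⧸ B) = _
    rw [h0, QuotientGroup.eq, ← B.inv_mem_iff]
    rename_i x
    have h4 : ((φ g⁻¹ * c⁻¹)⁻¹ * (x : G)⁻¹)⁻¹ = x * (c * φ g)⁻¹ := by rw [map_inv]; group
    rw [h4]
    exact hg
  · obtain ⟨g, hg⟩ := g.2
    refine ⟨g⁻¹, ?_⟩
    have h3 : g • ((c⁻¹ : G) : G ⧸ B) = _ := hg
    rename_i x
    rw [h0, QuotientGroup.eq] at h3
    have h4 : (x : G)⁻¹ * (c * φ g⁻¹)⁻¹ = ((φ g * c⁻¹)⁻¹ * (x : G))⁻¹ := by rw [map_inv]; group
    rw [h4]
    exact B.inv_mem h3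

theorem mem_nodeSet_mul {φ : M →* G} {B : Subgroup G} {c x b : G} (hb : b ∈ B) (g : M) :
    b * x * φ g ∈ nodeSet φ B c ↔ x ∈ nodeSet φ B c := by
  constructor
  · rintro ⟨g', h⟩
    refine ⟨g' * g⁻¹, ?_⟩
    have h2 : x * (c * φ (g' * g⁻¹))⁻¹ = b⁻¹ * (b * x * φ g * (c * φ g')⁻¹) := by
      rw [map_mul, map_inv]; group
    rw [h2]
    exact B.mul_mem (B.inv_mem hb) h
  · rintro ⟨g', h⟩
    refine ⟨g' * g, ?_⟩
    have h2 : b * x * φ g * (c * φ (g' * g))⁻¹ = b * (x * (c * φ g')⁻¹) := by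
      rw [map_mul]; group
    rw [h2]
    exact B.mul_mem hb h

open Classical in
/-- **The sum over a node.** -/
theorem sum_node [Fintype G] [Fintype M] (φ : M →* G) (B : Subgroup G) [Fintype B] (c : G)
    (F : G → ℂ) : (Nat.card B * Nat.card M : ℂ) * ∑ x with x ∈ nodeSet φ B c, F x =
      Nat.card (nodeSet φ B c) * ∑ b : B, ∑ g : M, F (b * c * φ g) := by
  have h1 : ∀ (b : B) (g : M), ∑ x with x ∈ nodeSet φ B c, F x =
      ∑ x with x ∈ nodeSet φ B c, F (b * x * φ g) := by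
    intro b g
    refine (Finset.sum_nbij' (fun x => (b : G) * x * φ g) (fun x => (b : G)⁻¹ * x * φ g⁻¹)
      ?_ ?_ ?_ ?_ ?_).symm
    · intro x hx
      rw [Finset.mem_filter] at hx ⊢
      exact ⟨Finset.mem_univ _, (mem_nodeSet_mul b.2 g).2 hx.2⟩
    · intro x hx
      rw [Finset.mem_filter] at hx ⊢
      exact ⟨Finset.mem_univ _, (mem_nodeSet_mul (B.inv_mem b.2) g⁻¹).2 hx.2⟩
    · intro x _
      show (b : G)⁻¹ * ((b : G) * x * φ g) * φ g⁻¹ = x
      rw [map_inv]; group
    · intro x _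
      show (b : G) * ((b : G)⁻¹ * x * φ g⁻¹) * φ g = x
      rw [map_inv]; group
    · intro x _
      rfl
  have h2 : (Nat.card B * Nat.card M : ℂ) * ∑ x with x ∈ nodeSet φ B c, F x =
      ∑ b : B, ∑ g : M, ∑ x with x ∈ nodeSet φ B c, F (b * x * φ g) := by
    rw [Finset.sum_congr rfl fun b _ => Finset.sum_congr rfl fun g _ => (h1 b g).symm]
    rw [Finset.sum_const, Finset.sum_const, Finset.card_univ, Finset.card_univ,
      ← Nat.card_eq_fintype_card, ← Nat.card_eq_fintype_card, nsmul_eq_mul, nsmul_eq_mul]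
    ring
  rw [h2]
  have h3 : ∑ b : B, ∑ g : M, ∑ x with x ∈ nodeSet φ B c, F (b * x * φ g) =
      ∑ x with x ∈ nodeSet φ B c, ∑ b : B, ∑ g : M, F (b * x * φ g) := by
    rw [Finset.sum_congr rfl fun b _ => Finset.sum_comm, Finset.sum_comm]
  rw [h3]
  have h4 : ∀ x ∈ Finset.univ.filter (fun x => x ∈ nodeSet φ B c),
      ∑ b : B, ∑ g : M, F (b * x * φ g) = ∑ b : B, ∑ g : M, F (b * c * φ g) := by
    intro x hx
    obtain ⟨g0, hg0⟩ := (Finset.mem_filter.1 hx).2
    have e : x = x * (c * φ g0)⁻¹ * c * φ g0 := by group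
    rw [← Equiv.sum_comp (Equiv.mulRight (⟨_, hg0⟩ : B))
      (fun b : B => ∑ g : M, F (b * c * φ g))]
    refine Finset.sum_congr rfl fun b _ => ?_
    rw [← Equiv.sum_comp (Equiv.mulLeft g0)
      (fun g : M => F (((Equiv.mulRight (⟨_, hg0⟩ : B)) b : B) * c * φ g))]
    refine Finset.sum_congr rfl fun g _ => ?_
    congr 1
    simp only [Equiv.coe_mulRight, Equiv.coe_mulLeft, Subgroup.coe_mul, map_mul]
    group
  rw [Finset.sum_congr rfl h4, Finset.sum_const, nsmul_eq_mul, ← Fintype.card_subtype,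
    ← Nat.card_eq_fintype_card]

open Classical in
/-- The sum over a set stable under right multiplication by `B`. -/
theorem sum_stable [Fintype G] (B : Subgroup G) [Fintype B] (D : Set G)
    (hD : ∀ h ∈ B, ∀ g, g * h ∈ D ↔ g ∈ D) (F : G → ℂ) (t : G) :
    ∑ x with x ∈ D, ∑ h : B, F (x * h * t) = Nat.card B * ∑ x with x ∈ D, F (x * t) := by
  rw [Finset.sum_comm]
  have h1 : ∀ h : B, ∑ x with x ∈ D, F (x * h * t) = ∑ x with x ∈ D, F (x * t) := by
    intro h
    refine Finset.sum_nbij' (fun x => x * (h : G)) (fun x => x * (h : G)⁻¹) ?_ ?_ ?_ ?_ ?_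
    · intro x hx
      rw [Finset.mem_filter] at hx ⊢
      exact ⟨Finset.mem_univ _, (hD h h.2 x).2 hx.2⟩
    · intro x hx
      rw [Finset.mem_filter] at hx ⊢
      exact ⟨Finset.mem_univ _, (hD _ (B.inv_mem h.2) x).2 hx.2⟩
    · intro x _
      show x * (h : G) * (h : G)⁻¹ = x
      group
    · intro x _
      show x * (h : G)⁻¹ * (h : G) = x
      group
    · intro x _
      rfl
  rw [Finset.sum_congr rfl fun h _ => h1 h, Finset.sum_const, Finset.card_univ,
    ← Nat.card_eq_fintype_card, nsmul_eq_mul]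

/-- The data: the nodes cover, and the sum of the indices is at most the index of `B`. -/
structure Nd [Finite G] (φ : M →* G) (B : Subgroup G) (n : ℕ) (c : ℕ → G) (ib : ℕ → ℕ) :
    Prop where
  hφ : φ.range ≤ B
  cover : ∀ x, ∃ j < n, x ∈ nodeSet φ B (c j)
  le : ∀ j < n, (Stab φ B (c j)).index ≤ ib j
  sum : ∑ j ∈ Finset.range n, ib j ≤ B.index

variable {φ : M →* G} {B : Subgroup G} {n : ℕ} {c : ℕ → G} {ib : ℕ → ℕ}

theorem Nd.aux [Finite G] (h : Nd φ B n c ib) :
    (∀ x, ∀ j < n, ∀ k < n, x ∈ nodeSet φ B (c j) → x ∈ nodeSet φ B (c k) → j = k) ∧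
      ∀ j < n, (Stab φ B (c j)).index = ib j := by
  classical
  have := Fintype.ofFinite G
  have hG := B.card_mul_index
  -- the number of nodes containing `x`
  have h1 : ∀ x, 1 ≤ ((Finset.range n).filter fun j => x ∈ nodeSet φ B (c j)).card := by
    intro x
    obtain ⟨j, hj, hx⟩ := h.cover x
    exact Finset.card_pos.2 ⟨j, Finset.mem_filter.2 ⟨Finset.mem_range.2 hj, hx⟩⟩
  have h2 : ∑ x : G, ((Finset.range n).filter fun j => x ∈ nodeSet φ B (c j)).card =
      ∑ j ∈ Finset.range n, Nat.card B * (Stab φ B (c j)).index := by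
    simp only [Finset.card_filter]
    rw [Finset.sum_comm]
    refine Finset.sum_congr rfl fun j _ => ?_
    rw [← card_node φ B (c j), ← Finset.card_filter, ← Fintype.card_subtype,
      ← Nat.card_eq_fintype_card]
  have h3 : ∑ j ∈ Finset.range n, Nat.card B * (Stab φ B (c j)).index ≤
      ∑ j ∈ Finset.range n, Nat.card B * ib j :=
    Finset.sum_le_sum fun j hj => Nat.mul_le_mul_left _ (h.le j (Finset.mem_range.1 hj))
  have h4 : ∑ j ∈ Finset.range n, Nat.card B * ib j ≤ Nat.card G := by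
    rw [← Finset.mul_sum, ← hG]
    exact Nat.mul_le_mul_left _ h.sum
  have h5 : ∑ _x : G, 1 = Nat.card G := by
    rw [Finset.sum_const, Finset.card_univ, Nat.card_eq_fintype_card, smul_eq_mul, mul_one]
  have h6 : ∑ _x : G, 1 ≤ ∑ x : G, ((Finset.range n).filter fun j => x ∈ nodeSet φ B (c j)).card :=
    Finset.sum_le_sum fun x _ => h1 x
  have h7 : ∑ _x : G, 1 = ∑ x : G, ((Finset.range n).filter fun j => x ∈ nodeSet φ B (c j)).card := by
    omega
  have h8 : ∑ j ∈ Finset.range n, Nat.card B * (Stab φ B (c j)).index =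
      ∑ j ∈ Finset.range n, Nat.card B * ib j := by omega
  constructor
  · intro x j hj k hk hxj hxk
    have h9 := (Finset.sum_eq_sum_iff_of_le fun x _ => h1 x).1 h7 x (Finset.mem_univ x)
    have h10 : ((Finset.range n).filter fun j => x ∈ nodeSet φ B (c j)).card ≤ 1 := h9.symm.le
    rw [Finset.card_le_one] at h10
    exact h10 j (Finset.mem_filter.2 ⟨Finset.mem_range.2 hj, hxj⟩) k
      (Finset.mem_filter.2 ⟨Finset.mem_range.2 hk, hxk⟩)
  · intro j hj
    have h9 := (Finset.sum_eq_sum_iff_of_le fun j hj =>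
      Nat.mul_le_mul_left (Nat.card B) (h.le j (Finset.mem_range.1 hj))).1 h8 j
      (Finset.mem_range.2 hj)
    exact Nat.eq_of_mul_eq_mul_left Nat.card_pos h9

theorem Nd.uniq [Finite G] (h : Nd φ B n c ib) {x : G} {j k : ℕ} (hj : j < n) (hk : k < n)
    (hxj : x ∈ nodeSet φ B (c j)) (hxk : x ∈ nodeSet φ B (c k)) : j = k :=
  h.aux.1 x j hj k hk hxj hxk

theorem Nd.index_eq [Finite G] (h : Nd φ B n c ib) {j : ℕ} (hj : j < n) :
    (Stab φ B (c j)).index = ib j := h.aux.2 j hj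

theorem Nd.card [Finite G] (h : Nd φ B n c ib) {j : ℕ} (hj : j < n) :
    Nat.card (nodeSet φ B (c j)) = Nat.card B * ib j := by
  rw [card_node, h.index_eq hj]

/-- the sum over cosets of a subgroup -/
theorem sum_cosets [Fintype M] (K : Subgroup M) {NP : ℕ} (A : Fin NP → M)
    (hA : ∀ g, ∃ q, ∃ w ∈ K, g = A q * w) (hNP : NP ≤ K.index) :
    Nat.card M = NP * Nat.card K ∧ ∀ F : M → ℂ, (∀ g, ∀ w ∈ K, F (g * w) = F g) →
      ∑ g, F g = Nat.card K * ∑ q, F (A q) := by
  classical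
  let m : Fin NP × K → M := fun z => A z.1 * z.2
  have hs : Function.Surjective m := by
    intro g
    obtain ⟨q, w, hw, e⟩ := hA g
    exact ⟨(q, ⟨w, hw⟩), e.symm⟩
  have hb : Function.Bijective m := by
    refine hs.bijective_of_nat_card_le ?_
    rw [Nat.card_prod, Nat.card_fin, ← K.card_mul_index, mul_comm]
    exact Nat.mul_le_mul_left _ hNP
  constructor
  · rw [← Nat.card_congr (Equiv.ofBijective m hb), Nat.card_prod, Nat.card_fin]
  · intro F hF
    rw [← hb.sum_comp F, Fintype.sum_prod_type, Finset.mul_sum]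
    refine Finset.sum_congr rfl fun q _ => ?_
    have h1 : ∀ w : K, F (m (q, w)) = F (A q) := fun w => hF _ _ w.2
    rw [Finset.sum_congr rfl fun w _ => h1 w, Finset.sum_const, Finset.card_univ,
      ← Nat.card_eq_fintype_card, nsmul_eq_mul]

open Classical in
/-- **The transitions from a node.** -/
theorem Nd.sum_trans [Fintype G] [Fintype M] [Fintype B] (h : Nd φ B n c ib) {t : G} (K : Subgroup M)
    (hK : ∀ w ∈ K, Commute t (φ w)) {NP : ℕ} (A : Fin NP → M)
    (hA : ∀ g, ∃ q, ∃ w ∈ K, g = A q * w) (hNP : NP ≤ K.index) {f : G → ℂ}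
    (hl : ∀ b ∈ B, ∀ g, f (b * g) = f g) (hr : ∀ b ∈ B, ∀ g, f (g * b) = f g) {j : ℕ}
    (hj : j < n) :
    (NP : ℂ) * ∑ x with x ∈ nodeSet φ B (c j), f (x * t) =
      Nat.card B * ib j * ∑ q, f (c j * φ (A q) * t) := by
  obtain ⟨h1, h2⟩ := sum_cosets K A hA hNP
  have h3 := sum_node φ B (c j) (fun x => f (x * t))
  have h4 : ∀ b : B, ∑ g : M, f (b * c j * φ g * t) =
      Nat.card K * ∑ q, f (c j * φ (A q) * t) := by
    intro b
    rw [← h2 (fun g => f (c j * φ g * t))]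
    · refine Finset.sum_congr rfl fun g _ => ?_
      rw [← hl b b.2 (c j * φ g * t)]
      congr 1
      group
    · intro g w hw
      show f (c j * φ (g * w) * t) = f (c j * φ g * t)
      have e : c j * φ (g * w) * t = c j * φ g * t * φ w := by
        rw [map_mul]
        simp only [mul_assoc]
        rw [(hK w hw).eq]
      rw [e]
      exact hr _ (h.hφ ⟨w, rfl⟩) _
  rw [Finset.sum_congr rfl fun b _ => h4 b, Finset.sum_const, Finset.card_univ,
    ← Nat.card_eq_fintype_card, nsmul_eq_mul, h.card hj, h1] at h3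
  have hB : ((Nat.card B : ℕ) : ℂ) ≠ 0 := by exact_mod_cast Nat.card_pos.ne'
  have hKc : ((Nat.card K : ℕ) : ℂ) ≠ 0 := by exact_mod_cast Nat.card_pos.ne'
  push_cast at h3
  apply mul_left_cancel₀ (mul_ne_zero hB hKc)
  linear_combination h3

/-- the node of an element -/
noncomputable def Nd.node [Finite G] (h : Nd φ B n c ib) (x : G) : ℕ := (h.cover x).choose

theorem Nd.node_lt [Finite G] (h : Nd φ B n c ib) (x : G) : h.node x < n :=
  (h.cover x).choose_spec.1

theorem Nd.mem_node [Finite G] (h : Nd φ B n c ib) (x : G) : x ∈ nodeSet φ B (c (h.node x)) :=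
  (h.cover x).choose_spec.2

theorem Nd.node_eq [Finite G] (h : Nd φ B n c ib) {x : G} {j : ℕ} (hj : j < n)
    (hx : x ∈ nodeSet φ B (c j)) : h.node x = j :=
  h.uniq (h.node_lt x) hj (h.mem_node x) hx

theorem Nd.mem_iff [Finite G] (h : Nd φ B n c ib) {x : G} {j : ℕ} (hj : j < n) :
    x ∈ nodeSet φ B (c j) ↔ h.node x = j :=
  ⟨fun hx => h.node_eq hj hx, fun e => e ▸ h.mem_node x⟩

theorem Nd.node_c [Finite G] (h : Nd φ B n c ib) {j : ℕ} (hj : j < n) : h.node (c j) = j :=
  h.node_eq hj ⟨1, by simp [B.one_mem]⟩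

theorem Nd.node_mul [Finite G] (h : Nd φ B n c ib) {x b : G} (hb : b ∈ B) (g : M) :
    h.node (b * x * φ g) = h.node x :=
  h.node_eq (h.node_lt x) ((mem_nodeSet_mul hb g).2 (h.mem_node x))

open Classical in
/-- a sum over the group is a sum over the nodes -/
theorem Nd.sum_nodes [Fintype G] (h : Nd φ B n c ib) {R : Type*} [AddCommMonoid R] (F : G → R) :
    ∑ x, F x = ∑ j ∈ Finset.range n, ∑ x with x ∈ nodeSet φ B (c j), F x := by
  rw [← Finset.sum_fiberwise_of_maps_to (s := Finset.univ) (t := Finset.range n)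
    (g := fun x => h.node x) (fun x _ => Finset.mem_range.2 (h.node_lt x))]
  refine Finset.sum_congr rfl fun j hj => ?_
  congr 1
  ext x
  rw [Finset.mem_filter, Finset.mem_filter, h.mem_iff (Finset.mem_range.1 hj)]

section fusion

open DoubleCoset Cfsg.Agent.HN.Count

theorem Nd.mem_dc [Finite G] (h : Nd φ B n c ib) (x w : G) :
    x ∈ doubleCoset w (B : Set G) (B : Set G) ↔
      c (h.node x) ∈ doubleCoset w (B : Set G) (B : Set G) := by
  obtain ⟨g, hg⟩ := h.mem_node x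
  have hgB : φ g ∈ B := h.hφ ⟨g, rfl⟩
  generalize c (h.node x) = d at hg ⊢
  constructor
  · intro hx
    obtain ⟨a, ha, b, hb, e⟩ := mem_doubleCoset.1 hx
    refine mem_doubleCoset.2 ⟨_, B.mul_mem (B.inv_mem hg) ha, _, B.mul_mem hb (B.inv_mem hgB), ?_⟩
    have e2 : d = (x * (d * φ g)⁻¹)⁻¹ * x * (φ g)⁻¹ := by group
    have e3 : (x * (d * φ g)⁻¹)⁻¹ * a * w * (b * (φ g)⁻¹) =
      (x * (d * φ g)⁻¹)⁻¹ * (a * w * b) * (φ g)⁻¹ := by group
    rw [e3, ← e]
    exact e2
  · intro hx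
    obtain ⟨a, ha, b, hb, e⟩ := mem_doubleCoset.1 hx
    refine mem_doubleCoset.2 ⟨_, B.mul_mem hg ha, _, B.mul_mem hb hgB, ?_⟩
    have e2 : x = (x * (d * φ g)⁻¹) * d * φ g := by group
    have e3 : x * (d * φ g)⁻¹ * a * w * (b * φ g) =
      x * (d * φ g)⁻¹ * (a * w * b) * φ g := by group
    rw [e3, ← e]
    exact e2

variable {m : ℕ} {cls : ℕ → Fin m}

/-- size of a class -/
def szc (n : ℕ) (ib : ℕ → ℕ) (cls : ℕ → Fin m) (i : Fin m) : ℕ :=
  ∑ k ∈ (Finset.range n).filter (fun k => cls k = i), ib k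

open Classical in
/-- **The size of a double coset is the sum of the sizes of classes.** -/
theorem Nd.sz_eq [Finite G] (h : Nd φ B n c ib)
    (hm : ∀ j < n, ∀ k < n, cls j = cls k → c k ∈ doubleCoset (c j) (B : Set G) (B : Set G))
    (w : G) : sz B w = ∑ i with ∃ k < n, cls k = i ∧ c k ∈ doubleCoset w (B : Set G) (B : Set G),
      szc n ib cls i := by
  have := Fintype.ofFinite G
  have h1 := card_doubleCoset B w
  have h2 : Nat.card (doubleCoset w (B : Set G) (B : Set G)) =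
      ∑ j ∈ Finset.range n, if c j ∈ doubleCoset w (B : Set G) (B : Set G) then
        Nat.card B * ib j else 0 := by
    have e1 : Nat.card (doubleCoset w (B : Set G) (B : Set G)) =
        ∑ x : G, if x ∈ doubleCoset w (B : Set G) (B : Set G) then 1 else 0 := by
      rw [← Finset.card_filter, Nat.card_eq_fintype_card, ← Fintype.card_subtype]
    rw [e1, h.sum_nodes]
    refine Finset.sum_congr rfl fun j hj => ?_
    have hj' := Finset.mem_range.1 hj
    have e2 : ∀ x ∈ Finset.univ.filter (fun x => x ∈ nodeSet φ B (c j)),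
        (if x ∈ doubleCoset w (B : Set G) (B : Set G) then 1 else 0) =
        if c j ∈ doubleCoset w (B : Set G) (B : Set G) then 1 else 0 := by
      intro x hx
      have e3 := (h.mem_iff hj').1 (Finset.mem_filter.1 hx).2
      have e4 := h.mem_dc x w
      rw [e3] at e4
      simp only [e4]
    rw [Finset.sum_congr rfl e2, Finset.sum_const, ← Fintype.card_subtype,
      ← Nat.card_eq_fintype_card, smul_eq_mul]
    have e5 := h.card hj'
    split_ifs with h3
    · rw [mul_one]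
      exact e5
    · rw [mul_zero]
  rw [h1] at h2
  have h3 : ∑ j ∈ Finset.range n, (if c j ∈ doubleCoset w (B : Set G) (B : Set G) then
      Nat.card B * ib j else 0) = Nat.card B * ∑ j ∈ Finset.range n,
        if c j ∈ doubleCoset w (B : Set G) (B : Set G) then ib j else 0 := by
    rw [Finset.mul_sum]
    refine Finset.sum_congr rfl fun j _ => ?_
    split_ifs <;> simp
  rw [h3] at h2
  rw [Nat.eq_of_mul_eq_mul_left Nat.card_pos h2]
  rw [← Finset.sum_filter]
  unfold szc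
  rw [← Finset.sum_biUnion]
  · refine Finset.sum_congr ?_ fun _ _ => rfl
    ext j
    simp only [Finset.mem_filter, Finset.mem_biUnion, Finset.mem_univ, true_and, Finset.mem_range]
    constructor
    · rintro ⟨hj, hd⟩
      exact ⟨cls j, ⟨j, hj, rfl, hd⟩, hj, rfl⟩
    · rintro ⟨i, ⟨k, hk, e, hd⟩, hj, e'⟩
      refine ⟨hj, ?_⟩
      have h4 := hm k hk j hj (e.trans e'.symm)
      rw [← doubleCoset_eq_of_mem hd]
      exact h4
  · intro i _ i' _ hne
    rw [Function.onFun, Finset.disjoint_left]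
    intro j hj hj'
    exact hne ((Finset.mem_filter.1 hj).2.symm.trans (Finset.mem_filter.1 hj').2)

theorem dc_mul_right (B : Subgroup G) (w : G) {b : G} (hb : b ∈ B) (x : G) :
    x * b ∈ doubleCoset w (B : Set G) (B : Set G) ↔ x ∈ doubleCoset w (B : Set G) (B : Set G) := by
  constructor
  · intro h
    obtain ⟨a, ha, d, hd, e⟩ := mem_doubleCoset.1 h
    refine mem_doubleCoset.2 ⟨a, ha, _, B.mul_mem hd (B.inv_mem hb), ?_⟩
    rw [← mul_assoc, ← e, mul_inv_cancel_right]
  · intro h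
    obtain ⟨a, ha, d, hd, e⟩ := mem_doubleCoset.1 h
    refine mem_doubleCoset.2 ⟨a, ha, _, B.mul_mem hd hb, ?_⟩
    rw [← mul_assoc, ← e]

theorem dc_mul_left (B : Subgroup G) (w : G) {b : G} (hb : b ∈ B) (x : G) :
    b * x ∈ doubleCoset w (B : Set G) (B : Set G) ↔ x ∈ doubleCoset w (B : Set G) (B : Set G) := by
  constructor
  · intro h
    obtain ⟨a, ha, d, hd, e⟩ := mem_doubleCoset.1 h
    refine mem_doubleCoset.2 ⟨_, B.mul_mem (B.inv_mem hb) ha, d, hd, ?_⟩
    rw [mul_assoc b⁻¹, mul_assoc b⁻¹, ← e, inv_mul_cancel_left]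
  · intro h
    obtain ⟨a, ha, d, hd, e⟩ := mem_doubleCoset.1 h
    refine mem_doubleCoset.2 ⟨_, B.mul_mem hb ha, d, hd, ?_⟩
    rw [mul_assoc b, mul_assoc b, ← e]

open Classical in
/-- **The operator of `t` on biinvariant functions.** -/
theorem Nd.hecke_dc [Fintype G] [Fintype M] [Fintype B] (h : Nd φ B n c ib) {t : G} (K : Subgroup M)
    (hK : ∀ w ∈ K, Commute t (φ w)) {NP : ℕ} (A : Fin NP → M)
    (hA : ∀ g, ∃ q, ∃ w ∈ K, g = A q * w) (hNP : NP ≤ K.index) {f : G → ℂ}
    (hl : ∀ b ∈ B, ∀ g, f (b * g) = f g) (hr : ∀ b ∈ B, ∀ g, f (g * b) = f g) (g : G) :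
    (NP : ℂ) * sz B g * ∑ b : B, f (g * b * t) = Nat.card B *
      ∑ j ∈ (Finset.range n).filter (fun j => c j ∈ doubleCoset g (B : Set G) (B : Set G)),
        (ib j : ℂ) * ∑ q, f (c j * φ (A q) * t) := by
  have hB : ((Nat.card B : ℕ) : ℂ) ≠ 0 := by exact_mod_cast Nat.card_pos.ne'
  -- the operator is constant on the double coset
  have h1 : ∀ x ∈ Finset.univ.filter (fun x => x ∈ doubleCoset g (B : Set G) (B : Set G)),
      ∑ b : B, f (x * b * t) = ∑ b : B, f (g * b * t) := by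
    intro x hx
    obtain ⟨a, ha, d, hd, e⟩ := mem_doubleCoset.1 (Finset.mem_filter.1 hx).2
    rw [← Equiv.sum_comp (Equiv.mulLeft (⟨d, hd⟩ : B)) (fun b : B => f (g * b * t))]
    refine Finset.sum_congr rfl fun b _ => ?_
    rw [e]
    have e2 : a * g * d * b * t = a * (g * (d * b) * t) := by group
    rw [e2, hl a ha]
    rfl
  have h2 := sum_stable B (doubleCoset g (B : Set G) (B : Set G))
    (fun b hb x => dc_mul_right B g hb x) f t
  rw [Finset.sum_congr rfl h1, Finset.sum_const, ← Fintype.card_subtype,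
    ← Nat.card_eq_fintype_card, nsmul_eq_mul] at h2
  have h3 := card_doubleCoset B g
  have h3' : Nat.card {x // x ∈ doubleCoset g (B : Set G) (B : Set G)} = Nat.card B * sz B g := h3
  rw [h3'] at h2
  have h4 : ∑ x with x ∈ doubleCoset g (B : Set G) (B : Set G), f (x * t) =
      ∑ j ∈ (Finset.range n).filter (fun j => c j ∈ doubleCoset g (B : Set G) (B : Set G)),
        ∑ x with x ∈ nodeSet φ B (c j), f (x * t) := by
    rw [Finset.sum_filter, h.sum_nodes, Finset.sum_filter]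
    refine Finset.sum_congr rfl fun j hj => ?_
    have hj' := Finset.mem_range.1 hj
    have e2 : ∀ x ∈ Finset.univ.filter (fun x => x ∈ nodeSet φ B (c j)),
        (if x ∈ doubleCoset g (B : Set G) (B : Set G) then f (x * t) else 0) =
        if c j ∈ doubleCoset g (B : Set G) (B : Set G) then f (x * t) else 0 := by
      intro x hx
      have e3 := (h.mem_iff hj').1 (Finset.mem_filter.1 hx).2
      have e4 := h.mem_dc x g
      rw [e3] at e4
      simp only [e4]
    rw [Finset.sum_congr rfl e2]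
    split_ifs with h3
    · rfl
    · exact Finset.sum_const_zero
  rw [h4] at h2
  have h5 : (NP : ℂ) * ∑ j ∈ (Finset.range n).filter
        (fun j => c j ∈ doubleCoset g (B : Set G) (B : Set G)),
        ∑ x with x ∈ nodeSet φ B (c j), f (x * t) = ∑ j ∈ (Finset.range n).filter
        (fun j => c j ∈ doubleCoset g (B : Set G) (B : Set G)),
        (Nat.card B : ℂ) * ((ib j : ℂ) * ∑ q, f (c j * φ (A q) * t)) := by
    rw [Finset.mul_sum]
    refine Finset.sum_congr rfl fun j hj => ?_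
    rw [h.sum_trans K hK A hA hNP hl hr (Finset.mem_range.1 (Finset.mem_filter.1 hj).1)]
    ring
  rw [← Finset.mul_sum] at h5
  push_cast at h2
  apply mul_left_cancel₀ hB
  linear_combination (NP : ℂ) * h2 + (Nat.card B : ℂ) * h5

open Classical in
/-- **Irreducible characters from a table of transitions of nodes.** -/
theorem Nd.exists_irr [Finite G] [Finite M] (h : Nd φ B n c ib) {t : G} (K : Subgroup M)
    (hK : ∀ w ∈ K, Commute t (φ w)) {NP : ℕ} (A : Fin NP → M)
    (hA : ∀ g, ∃ q, ∃ w ∈ K, g = A q * w) (hNP : NP ≤ K.index) (hNP0 : 0 < NP)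
    (hm : ∀ j < n, ∀ k < n, cls j = cls k → c k ∈ doubleCoset (c j) (B : Set G) (B : Set G))
    (hdis : ∀ j < n, ∀ k < n, c k ∈ doubleCoset (c j) (B : Set G) (B : Set G) → cls j = cls k)
    (rep : Fin m → ℕ) (hrep : ∀ i, rep i < n) (hcr : ∀ i, cls (rep i) = i)
    (Mt : ℕ → Fin m → ℕ) (hMt : ∀ j < n, ∀ i,
      (Finset.univ.filter fun q => cls (h.node (c j * φ (A q) * t)) = i).card = Mt j i)
    (r : ℕ) (hr0 : 0 < r) (P : Fin m → Fin m → ℕ)
    (hP : ∀ i i', r * ∑ j ∈ (Finset.range n).filter (fun j => cls j = i), ib j * Mt j i' =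
      szc n ib cls i * P i i')
    (hinj : ∀ i i', szc n ib cls i = szc n ib cls i' → i = i')
    (i0 : Fin m) (hi0 : c (rep i0) = 1) (v : Fin m → ℂ) (μ : ℂ) (hv0 : v i0 = 1)
    (hv : ∀ i, ∑ j, (P i j : ℂ) * v j = μ * v i)
    (hu : ∀ x : Fin m → ℂ, (∀ i, ∑ j, (P i j : ℂ) * x j = μ * x i) → ∀ i, x i = x i0 * v i)
    {κ : ℂ} (hκ : ∑ i, (szc n ib cls i : ℂ) * v i ^ 2 = κ) (hκ0 : κ ≠ 0) :
    ∃ χ : IrrCharacter G, (χ : G → ℂ) 1 * κ = B.index := by
  have := Fintype.ofFinite G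
  have := Fintype.ofFinite M
  have := Fintype.ofFinite B
  have hself : ∀ g, g ∈ doubleCoset (c (h.node g)) (B : Set G) (B : Set G) := fun g =>
    (h.mem_dc g _).2 (mem_doubleCoset_self B B _)
  -- membership
  have hmemc : ∀ g, ∀ k < n, (c k ∈ doubleCoset g (B : Set G) (B : Set G) ↔
      cls k = cls (h.node g)) := by
    intro g k hk
    have e1 := doubleCoset_eq_of_mem (hself g)
    rw [e1]
    constructor
    · intro h1
      exact (hdis _ (h.node_lt g) k hk h1).symm
    · intro h1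
      exact hm _ (h.node_lt g) k hk h1.symm
  have hszg : ∀ g, sz B g = szc n ib cls (cls (h.node g)) := by
    intro g
    rw [h.sz_eq hm g]
    have e1 : (Finset.univ.filter fun i : Fin m => ∃ k < n, cls k = i ∧
        c k ∈ doubleCoset g (B : Set G) (B : Set G)) = {cls (h.node g)} := by
      ext i
      rw [Finset.mem_filter, Finset.mem_singleton]
      constructor
      · rintro ⟨_, k, hk, rfl, hd⟩
        exact (hmemc g k hk).1 hd
      · rintro rfl
        exact ⟨Finset.mem_univ _, h.node g, h.node_lt g, rfl,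
          (hmemc g _ (h.node_lt g)).2 rfl⟩
    rw [e1, Finset.sum_singleton]
  have hpos : ∀ i, 0 < szc n ib cls i := by
    intro i
    have e1 := hszg (c (rep i))
    rw [h.node_c (hrep i), hcr] at e1
    rw [← e1]
    exact sz_pos B _
  have hlabr : ∀ b ∈ B, ∀ g, cls (h.node (g * b)) = cls (h.node g) := by
    intro b hb g
    have e1 : g * b ∈ doubleCoset (c (h.node g)) (B : Set G) (B : Set G) :=
      (dc_mul_right B _ hb g).2 (hself g)
    exact (hdis _ (h.node_lt g) _ (h.node_lt _) ((h.mem_dc _ _).1 e1)).symm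
  have hdc : ∀ g i, g ∈ doubleCoset (c (rep i)) (B : Set G) (B : Set G) ↔
      cls (h.node g) = i := by
    intro g i
    rw [h.mem_dc, hmemc _ _ (h.node_lt g), h.node_c (hrep i), hcr]
  have hBc : ((Nat.card B : ℕ) : ℂ) ≠ 0 := by exact_mod_cast Nat.card_pos.ne'
  have hrc : ((r : ℕ) : ℂ) ≠ 0 := by exact_mod_cast hr0.ne'
  have hNc : ((NP : ℕ) : ℂ) ≠ 0 := by exact_mod_cast hNP0.ne'
  refine exists_irr_of_lab B t (fun g => cls (h.node g)) (fun i => c (rep i)) ?_ hlabr ?_ ?_
    ((Nat.card B : ℂ) / (r * NP)) (div_ne_zero hBc (mul_ne_zero hrc hNc))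
    (fun i j => (P i j : ℂ)) ?_ ?_ (szc n ib cls) ?_ i0 hi0 v μ hv0 hv hu hκ hκ0
  · intro b hb g
    have e1 := h.node_mul (x := g) hb (1 : M)
    rw [map_one, mul_one] at e1
    show cls (h.node (b * g)) = cls (h.node g)
    rw [e1]
  · intro g
    obtain ⟨a, ha, b, hb, e⟩ := mem_doubleCoset.1 ((hdc g _).2 rfl)
    exact ⟨a, ha, b, hb, e⟩
  · intro g
    apply hinj
    rw [← hszg, ← hszg, sz_inv]
  · intro f hl hr g
    have e1 := h.hecke_dc K hK A hA hNP hl hr g (t := t)
    have e2 : (Finset.range n).filter (fun j => c j ∈ doubleCoset g (B : Set G) (B : Set G)) =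
        (Finset.range n).filter (fun j => cls j = cls (h.node g)) := by
      refine Finset.filter_congr fun j hj => ?_
      exact hmemc g j (Finset.mem_range.1 hj)
    have e3 : ∀ j < n, ∑ q, f (c j * φ (A q) * t) = ∑ i, (Mt j i : ℂ) * f (c (rep i)) := by
      intro j hj
      have e4 : ∀ q, f (c j * φ (A q) * t) =
          f (c (rep (cls (h.node (c j * φ (A q) * t))))) := by
        intro q
        obtain ⟨a, ha, b, hb, e⟩ := mem_doubleCoset.1 ((hdc (c j * φ (A q) * t) _).2 rfl)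
        nth_rewrite 1 [e]
        rw [hr b hb, hl a ha]
      rw [Finset.sum_congr rfl fun q _ => e4 q]
      rw [← Finset.sum_fiberwise (s := Finset.univ)
        (g := fun q => cls (h.node (c j * φ (A q) * t)))]
      refine Finset.sum_congr rfl fun i _ => ?_
      have e5 : ∀ q ∈ Finset.univ.filter (fun q => cls (h.node (c j * φ (A q) * t)) = i),
          f (c (rep (cls (h.node (c j * φ (A q) * t))))) = f (c (rep i)) := by
        intro q hq
        rw [(Finset.mem_filter.1 hq).2]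
      rw [Finset.sum_congr rfl e5, Finset.sum_const, nsmul_eq_mul, hMt j hj i]
    rw [e2, hszg] at e1
    have e6 : ∑ j ∈ (Finset.range n).filter (fun j => cls j = cls (h.node g)),
        (ib j : ℂ) * ∑ q, f (c j * φ (A q) * t) =
        ∑ i, ((∑ j ∈ (Finset.range n).filter (fun j => cls j = cls (h.node g)),
          ib j * Mt j i : ℕ) : ℂ) * f (c (rep i)) := by
      have e7 : ∀ j ∈ (Finset.range n).filter (fun j => cls j = cls (h.node g)),
          (ib j : ℂ) * ∑ q, f (c j * φ (A q) * t) =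
          ∑ i, (ib j : ℂ) * Mt j i * f (c (rep i)) := by
        intro j hj
        rw [e3 j (Finset.mem_range.1 (Finset.mem_filter.1 hj).1), Finset.mul_sum]
        exact Finset.sum_congr rfl fun i _ => by ring
      rw [Finset.sum_congr rfl e7, Finset.sum_comm]
      refine Finset.sum_congr rfl fun i _ => ?_
      push_cast
      rw [Finset.sum_mul]
    rw [e6] at e1
    set i1 := cls (h.node g) with hi1
    have hs : ((szc n ib cls i1 : ℕ) : ℂ) ≠ 0 := by exact_mod_cast (hpos i1).ne'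
    have e8 : (r : ℂ) * ∑ i, ((∑ j ∈ (Finset.range n).filter (fun j => cls j = i1),
          ib j * Mt j i : ℕ) : ℂ) * f (c (rep i)) =
        (szc n ib cls i1 : ℂ) * ∑ i, (P i1 i : ℂ) * f (c (rep i)) := by
      rw [Finset.mul_sum, Finset.mul_sum]
      refine Finset.sum_congr rfl fun i _ => ?_
      have e9 := hP i1 i
      have e10 : (r : ℂ) * ((∑ j ∈ (Finset.range n).filter (fun j => cls j = i1),
          ib j * Mt j i : ℕ) : ℂ) = (szc n ib cls i1 : ℂ) * (P i1 i : ℂ) := by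
        exact_mod_cast e9
      rw [← mul_assoc, ← mul_assoc, e10]
    rw [div_mul_eq_mul_div, eq_div_iff (mul_ne_zero hrc hNc)]
    apply mul_left_cancel₀ hs
    linear_combination (r : ℂ) * e1 + (Nat.card B : ℂ) * e8
  · intro i
    show cls (h.node (c (rep i))) = i
    rw [h.node_c (hrep i), hcr]
  · intro i
    have e1 := card_doubleCoset B (c (rep i))
    rw [hszg, h.node_c (hrep i), hcr] at e1
    rw [← e1, Nat.card_eq_fintype_card, ← Fintype.card_subtype]
    exact Fintype.card_congr (Equiv.subtypeEquivRight fun g => (hdc g i).symm)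

end fusion

end nodes

end Cfsg.Agent.H492.NodeHecke

private theorem dce_80c2e9b99fe2 : _root_.True := by
  try have : _root_.True := by simp only [_root_.Cfsg.Agent.H492.NodeHecke.Nd.node.congr_simp]
  exact _root_.True.intro
end

-- part: H492/TwoSub
section
set_option linter.all false
open scoped Cfsg.Agent.FastGrp

/-!
# Irreducible characters from the orbits of two subgroups on the cosets of one of them (helper492)

`H`, `C` subgroups of `G`; `b i`, `cc j` the lengths of the orbits of `H`, of `C` on `G ⧸ H`,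
`X i j` the numbers of common points.  The operator `e_H e_C` on the `H`-biinvariant functions has
matrix entries `∑ j, X i j * X i' j / (b i * cc j)`; an eigenvalue of multiplicity 1 gives an
irreducible character of exact degree.
-/

set_option autoImplicit false

namespace Cfsg.Agent.H492.TwoSub

open Cfsg Cfsg.Agent.Characters.Core Cfsg.Agent.H492.IMSph

universe u

variable {G : Type u} [Group G]

/-- The version for an operator given by a family of elements. -/
theorem exists_irr_of_family [Fintype G] (H : Subgroup G) {ι : Type*} [Fintype ι] (t : ι → G)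
    {φ : G → ℂ} {μ κ : ℂ}
    (hl : ∀ h ∈ H, ∀ g, φ (h * g) = φ g) (hr : ∀ h ∈ H, ∀ g, φ (g * h) = φ g) (h1 : φ 1 = 1)
    (hT : ∀ g, ∑ i, φ (g * t i) = μ * φ g)
    (huniq : ∀ f : G → ℂ, (∀ h ∈ H, ∀ g, f (h * g) = f g) → (∀ h ∈ H, ∀ g, f (g * h) = f g) →
      (∀ g, ∑ i, f (g * t i) = μ * f g) → ∀ g, f g = f 1 * φ g)
    (hκ : ∑ z, φ z * φ z⁻¹ = κ) (hκ0 : κ ≠ 0) :
    ∃ χ : IrrCharacter G, (χ : G → ℂ) 1 * κ = Nat.card G := by
  refine exists_irr_of_spherical h1 hκ hκ0 fun y u => ?_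
  have h := huniq (fun u => ∑ g, φ g * φ (y⁻¹ * g⁻¹ * u)) ?_ ?_ ?_ u
  · simp only [mul_one] at h
    exact h
  · intro h hh g
    show ∑ x, φ x * φ (y⁻¹ * x⁻¹ * (h * g)) = ∑ x, φ x * φ (y⁻¹ * x⁻¹ * g)
    rw [← Equiv.sum_comp (Equiv.mulLeft h)]
    refine Finset.sum_congr rfl fun x _ => ?_
    simp only [Equiv.coe_mulLeft]
    rw [hl h hh]
    congr 2
    group
  · intro h hh g
    show ∑ x, φ x * φ (y⁻¹ * x⁻¹ * (g * h)) = ∑ x, φ x * φ (y⁻¹ * x⁻¹ * g)
    refine Finset.sum_congr rfl fun x _ => ?_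
    rw [← mul_assoc (y⁻¹ * x⁻¹), hr h hh]
  · intro g
    show ∑ i, ∑ x, φ x * φ (y⁻¹ * x⁻¹ * (g * t i)) = μ * ∑ x, φ x * φ (y⁻¹ * x⁻¹ * g)
    rw [Finset.sum_comm, Finset.mul_sum]
    refine Finset.sum_congr rfl fun x _ => ?_
    have e : ∀ i, φ x * φ (y⁻¹ * x⁻¹ * (g * t i)) = φ x * φ (y⁻¹ * x⁻¹ * g * t i) := by
      intro i
      congr 2
      group
    rw [Finset.sum_congr rfl fun h _ => e h, ← Finset.mul_sum, hT]
    ring

/-- Sums over an orbit. -/
theorem sum_label {X : Type*} [MulAction G X] [Fintype X] (D : Subgroup G) [Fintype D] {n : ℕ}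
    (l : X → Fin n) (hl : ∀ x y, l x = l y ↔ ∃ d ∈ D, d • x = y) (F : X → ℂ) (x : X) :
    ((Finset.univ.filter (fun y => l y = l x)).card : ℂ) * ∑ d : D, F ((d : G) • x) =
      (Nat.card D : ℂ) * ∑ y ∈ Finset.univ.filter (fun y => l y = l x), F y := by
  classical
  have h1 : ∀ y ∈ Finset.univ.filter (fun y => l y = l x),
      ∑ d : D, F ((d : G) • y) = ∑ d : D, F ((d : G) • x) := by
    intro y hy
    obtain ⟨a, ha, rfl⟩ := (hl x y).1 (Finset.mem_filter.1 hy).2.symm
    rw [← Equiv.sum_comp (Equiv.mulRight (⟨a, ha⟩ : D)) (fun d : D => F ((d : G) • x))]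
    refine Finset.sum_congr rfl fun d _ => ?_
    simp only [Equiv.coe_mulRight, Subgroup.coe_mul, mul_smul]
  have h2 : ∀ d : D, ∑ y ∈ Finset.univ.filter (fun y => l y = l x), F ((d : G) • y) =
      ∑ y ∈ Finset.univ.filter (fun y => l y = l x), F y := by
    intro d
    have hm : ∀ (d : G), d ∈ D → ∀ y ∈ Finset.univ.filter (fun y => l y = l x),
        d • y ∈ Finset.univ.filter (fun y => l y = l x) := by
      intro d hd y hy
      rw [Finset.mem_filter] at hy ⊢
      refine ⟨Finset.mem_univ _, ?_⟩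
      rw [← hy.2]
      exact ((hl y _).2 ⟨d, hd, rfl⟩).symm
    refine Finset.sum_bij' (fun y _ => (d : G) • y) (fun y _ => (d : G)⁻¹ • y)
      (fun y hy => hm d d.2 y hy) (fun y hy => hm _ (D.inv_mem d.2) y hy) ?_ ?_ ?_
    · intro y _; simp
    · intro y _; simp
    · intro y _; rfl
  calc ((Finset.univ.filter (fun y => l y = l x)).card : ℂ) * ∑ d : D, F ((d : G) • x) =
        ∑ y ∈ Finset.univ.filter (fun y => l y = l x), ∑ d : D, F ((d : G) • x) := by
        rw [Finset.sum_const, nsmul_eq_mul]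
    _ = ∑ y ∈ Finset.univ.filter (fun y => l y = l x), ∑ d : D, F ((d : G) • y) :=
        Finset.sum_congr rfl fun y hy => (h1 y hy).symm
    _ = ∑ d : D, ∑ y ∈ Finset.univ.filter (fun y => l y = l x), F ((d : G) • y) :=
        Finset.sum_comm
    _ = ∑ d : D, ∑ y ∈ Finset.univ.filter (fun y => l y = l x), F y :=
        Finset.sum_congr rfl fun d _ => h2 d
    _ = _ := by
        rw [Finset.sum_const, nsmul_eq_mul, Finset.card_univ, Nat.card_eq_fintype_card]

/-- **Irreducible characters from two subgroups.** -/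
theorem exists_irr_of_two [Finite G] (H C : Subgroup G) {m n : ℕ} (lX : G ⧸ H → Fin m)
    (lY : G ⧸ H → Fin n) (hX : ∀ x y, lX x = lX y ↔ ∃ h ∈ H, h • x = y)
    (hY : ∀ x y, lY x = lY y ↔ ∃ c ∈ C, c • x = y)
    (b : Fin m → ℕ) (cc : Fin n → ℕ) (X : Fin m → Fin n → ℕ)
    (hb : ∀ i, Nat.card {x // lX x = i} = b i) (hc : ∀ j, Nat.card {x // lY x = j} = cc j)
    (hXY : ∀ i j, Nat.card {x // lX x = i ∧ lY x = j} = X i j)
    (hb0 : ∀ i, b i ≠ 0) (hc0 : ∀ j, cc j ≠ 0) (hbi : Function.Injective b)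
    (i0 : Fin m) (hi0 : lX ((1 : G) : G ⧸ H) = i0)
    (A : Fin m → Fin m → ℚ) (s : ℚ) (hs : s ≠ 0)
    (hA : ∀ i i', (b i : ℚ) * A i i' = s * ∑ j, (X i j : ℚ) * X i' j / cc j)
    (v : Fin m → ℂ) (μ : ℂ) (hv0 : v i0 = 1)
    (hv : ∀ i, ∑ j, (A i j : ℂ) * v j = μ * v i)
    (hu : ∀ x : Fin m → ℂ, (∀ i, ∑ j, (A i j : ℂ) * x j = μ * x i) → ∀ i, x i = x i0 * v i)
    {K : ℂ} (hK : ∑ i, (b i : ℂ) * v i ^ 2 = K) (hK0 : K ≠ 0) :
    ∃ χ : IrrCharacter G, (χ : G → ℂ) 1 * K = H.index := by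
  classical
  have := Fintype.ofFinite G
  have := Fintype.ofFinite H
  have := Fintype.ofFinite C
  have := Fintype.ofFinite (G ⧸ H)
  -- points
  let pt : G → G ⧸ H := fun x => ((x⁻¹ : G) : G ⧸ H)
  have hpts : ∀ g x : G, g • pt x = pt (x * g⁻¹) := by
    intro g x
    show g • ((x⁻¹ : G) : G ⧸ H) = (((x * g⁻¹)⁻¹ : G) : G ⧸ H)
    rw [mul_inv_rev, inv_inv]; rfl
  have hptl : ∀ h ∈ H, ∀ g, pt (h * g) = pt g := by
    intro h hh g
    show (((h * g)⁻¹ : G) : G ⧸ H) = ((g⁻¹ : G) : G ⧸ H)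
    rw [QuotientGroup.eq, inv_inv, mul_assoc, mul_inv_cancel, mul_one]
    exact hh
  have hptsurj : ∀ x : G ⧸ H, ∃ g, pt g = x := by
    intro x
    obtain ⟨y, rfl⟩ := QuotientGroup.mk_surjective x
    exact ⟨y⁻¹, by show (((y⁻¹)⁻¹ : G) : G ⧸ H) = _; rw [inv_inv]⟩
  -- sizes as finset cards
  have hbF : ∀ i, (Finset.univ.filter (fun x => lX x = i)).card = b i := by
    intro i
    rw [← hb i, Nat.card_eq_fintype_card, Fintype.card_subtype]
  have hcF : ∀ j, (Finset.univ.filter (fun x => lY x = j)).card = cc j := by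
    intro j
    rw [← hc j, Nat.card_eq_fintype_card, Fintype.card_subtype]
  have hXF : ∀ i j, (Finset.univ.filter (fun x => lX x = i ∧ lY x = j)).card = X i j := by
    intro i j
    rw [← hXY i j, Nat.card_eq_fintype_card, Fintype.card_subtype]
  have hbc : ∀ i, (b i : ℂ) ≠ 0 := fun i => by exact_mod_cast hb0 i
  have hcc : ∀ j, (cc j : ℂ) ≠ 0 := fun j => by exact_mod_cast hc0 j
  -- representatives
  have hrep : ∀ i, ∃ g, lX (pt g) = i := by
    intro i
    have h1 : (Finset.univ.filter (fun x => lX x = i)).Nonempty := by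
      rw [← Finset.card_pos, hbF]
      exact Nat.pos_of_ne_zero (hb0 i)
    obtain ⟨x, hx⟩ := h1
    obtain ⟨g, rfl⟩ := hptsurj x
    exact ⟨g, (Finset.mem_filter.1 hx).2⟩
  choose w0 hw0 using hrep
  -- the labels on the group
  have hlabl : ∀ h ∈ H, ∀ g, lX (pt (h * g)) = lX (pt g) := fun h hh g => by rw [hptl h hh]
  have hlabr : ∀ h ∈ H, ∀ g, lX (pt (g * h)) = lX (pt g) := by
    intro h hh g
    rw [hX]
    exact ⟨h, hh, by rw [hpts, mul_inv_cancel_right]⟩
  have hdec : ∀ g g', lX (pt g) = lX (pt g') → ∃ a ∈ H, ∃ b ∈ H, g = a * g' * b := by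
    intro g g' e
    obtain ⟨h, hh, e2⟩ := (hX _ _).1 e
    rw [hpts] at e2
    have e3 : (g * h⁻¹) * g'⁻¹ ∈ H := by
      have e4 : (((g * h⁻¹)⁻¹ : G) : G ⧸ H) = ((g'⁻¹ : G) : G ⧸ H) := e2
      rw [QuotientGroup.eq, inv_inv] at e4
      exact e4
    exact ⟨_, e3, h, hh, by group⟩
  have hlab1 : lX (pt 1) = i0 := by
    rw [← hi0]
    show lX (((1⁻¹ : G)) : G ⧸ H) = _
    rw [inv_one]
  have hHpos : 0 < Nat.card H := Nat.card_pos
  have hHc : ((Nat.card H : ℕ) : ℂ) ≠ 0 := by exact_mod_cast hHpos.ne'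
  have hCc : ((Nat.card C : ℕ) : ℂ) ≠ 0 := by exact_mod_cast (Nat.card_pos (α := C)).ne'
  -- the number of elements with given label
  have hcard : ∀ i, (Finset.univ.filter (fun g : G => lX (pt g) = i)).card = Nat.card H * b i := by
    intro i
    have h1 : ∀ g ∈ Finset.univ.filter (fun g : G => lX (pt g) = i),
        pt g ∈ Finset.univ.filter (fun x => lX x = i) := by
      intro g hg
      rw [Finset.mem_filter] at hg ⊢
      exact ⟨Finset.mem_univ _, hg.2⟩
    rw [Finset.card_eq_sum_card_fiberwise h1, ← hbF i, mul_comm, ← smul_eq_mul,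
      ← Finset.sum_const]
    refine Finset.sum_congr rfl fun x hx => ?_
    obtain ⟨g0, rfl⟩ := hptsurj x
    rw [Nat.card_eq_fintype_card, ← Finset.card_univ]
    symm
    refine Finset.card_bij (fun (h : H) _ => (h : G) * g0) ?_ ?_ ?_
    · intro h _
      rw [Finset.mem_filter, Finset.mem_filter]
      refine ⟨⟨Finset.mem_univ _, ?_⟩, hptl h h.2 g0⟩
      rw [hlabl h h.2]
      exact (Finset.mem_filter.1 hx).2
    · intro h _ h' _ e
      exact Subtype.ext (mul_right_cancel e)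
    · intro g hg
      rw [Finset.mem_filter] at hg
      have e4 : ((g⁻¹ : G) : G ⧸ H) = ((g0⁻¹ : G) : G ⧸ H) := hg.2
      rw [QuotientGroup.eq, inv_inv] at e4
      exact ⟨⟨g * g0⁻¹, e4⟩, Finset.mem_univ _, inv_mul_cancel_right g g0⟩
  -- inverses
  have hlabi : ∀ g, lX (pt g⁻¹) = lX (pt g) := by
    have h1 : ∀ g g', lX (pt g) = lX (pt g') → lX (pt g⁻¹) = lX (pt g'⁻¹) := by
      intro g g' e
      obtain ⟨x, hx, y, hy, e2⟩ := hdec g g' e
      rw [e2, mul_inv_rev, mul_inv_rev, hlabl _ (H.inv_mem hy), hlabr _ (H.inv_mem hx)]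
    intro g
    have h2 : (Finset.univ.filter (fun x : G => lX (pt x) = lX (pt g⁻¹))).card =
        (Finset.univ.filter (fun x : G => lX (pt x⁻¹) = lX (pt g⁻¹))).card := by
      refine Finset.card_bij (fun x _ => x⁻¹) ?_ ?_ ?_
      · intro x hx
        rw [Finset.mem_filter] at hx ⊢
        exact ⟨Finset.mem_univ _, by rw [inv_inv]; exact hx.2⟩
      · intro x _ x' _ e
        exact inv_injective e
      · intro x hx
        rw [Finset.mem_filter] at hx
        exact ⟨x⁻¹, by rw [Finset.mem_filter]; exact ⟨Finset.mem_univ _, hx.2⟩, inv_inv x⟩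
    have h3 : Finset.univ.filter (fun x : G => lX (pt x) = lX (pt g)) =
        Finset.univ.filter (fun x : G => lX (pt x⁻¹) = lX (pt g⁻¹)) := by
      ext x
      rw [Finset.mem_filter, Finset.mem_filter]
      constructor
      · rintro ⟨-, hx⟩
        exact ⟨Finset.mem_univ _, h1 _ _ hx⟩
      · rintro ⟨-, hx⟩
        refine ⟨Finset.mem_univ _, ?_⟩
        have := h1 _ _ hx
        rwa [inv_inv, inv_inv] at this
    rw [← h3, hcard, hcard] at h2
    exact hbi (Nat.eq_of_mul_eq_mul_left hHpos h2)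
  -- the operator
  have hop : ∀ f : G → ℂ, (∀ h ∈ H, ∀ g, f (h * g) = f g) → (∀ h ∈ H, ∀ g, f (g * h) = f g) →
      ∀ g, ∑ p : H × C, f (g * ((p.1 : G) * p.2)) =
        ((Nat.card H : ℂ) * Nat.card C / (s : ℂ)) * ∑ i, (A (lX (pt g)) i : ℂ) * f (w0 i) := by
    intro f hl hr g
    -- the function on the cosets
    have hf : ∀ g, f g = f (w0 (lX (pt g))) := by
      intro g
      obtain ⟨x, hx, y, hy, e⟩ := hdec g (w0 (lX (pt g))) (hw0 _).symm
      nth_rewrite 1 [e]
      rw [hr y hy, hl x hx]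
    let F : G ⧸ H → ℂ := fun x => f (w0 (lX x))
    have hF : ∀ g, f g = F (pt g) := hf
    -- the average over `C`
    let E : G ⧸ H → ℂ := fun x => ∑ c : C, F ((c : G) • x)
    have hE : ∀ x, (cc (lY x) : ℂ) * E x = (Nat.card C : ℂ) * ∑ i, (X i (lY x) : ℂ) * f (w0 i) := by
      intro x
      have h1 := sum_label C lY hY F x
      rw [hcF] at h1
      rw [h1]
      congr 1
      rw [← Finset.sum_fiberwise (s := Finset.univ.filter (fun y => lY y = lY x))
        (g := fun y => lX y)]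
      refine Finset.sum_congr rfl fun i _ => ?_
      rw [Finset.filter_filter]
      have h2 : ∀ y ∈ Finset.univ.filter (fun y => lY y = lY x ∧ lX y = i), F y = f (w0 i) := by
        intro y hy
        show f (w0 (lX y)) = _
        rw [(Finset.mem_filter.1 hy).2.2]
      rw [Finset.sum_congr rfl h2, Finset.sum_const, nsmul_eq_mul, ← hXF i (lY x)]
      congr 3
      ext y
      simp only [Finset.mem_filter, and_comm]
    have hE' : ∀ x, E x = (Nat.card C : ℂ) / cc (lY x) * ∑ i, (X i (lY x) : ℂ) * f (w0 i) := by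
      intro x
      have h1 := hcc (lY x)
      rw [div_mul_eq_mul_div, eq_div_iff h1, mul_comm, hE]
    have h1 : ∑ p : H × C, f (g * ((p.1 : G) * p.2)) = ∑ h : H, E ((h : G) • pt g) := by
      rw [Fintype.sum_prod_type, ← Equiv.sum_comp (Equiv.inv H)]
      refine Finset.sum_congr rfl fun h _ => ?_
      show _ = ∑ c : C, F ((c : G) • (h : G) • pt g)
      rw [← Equiv.sum_comp (Equiv.inv C)]
      refine Finset.sum_congr rfl fun c _ => ?_
      rw [hF, hpts, hpts]
      congr 2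
      simp [mul_assoc]
    rw [h1]
    have h2 := sum_label H lX hX E (pt g)
    rw [hbF] at h2
    have h3 : ∑ y ∈ Finset.univ.filter (fun y => lX y = lX (pt g)), E y =
        (Nat.card C : ℂ) * ∑ i, (∑ j, (X (lX (pt g)) j : ℂ) * X i j / cc j) * f (w0 i) := by
      rw [← Finset.sum_fiberwise (s := Finset.univ.filter (fun y => lX y = lX (pt g)))
        (g := fun y => lY y)]
      have h4 : ∀ j, ∑ y ∈ (Finset.univ.filter (fun y => lX y = lX (pt g))).filter
          (fun y => lY y = j), E y = (X (lX (pt g)) j : ℂ) * ((Nat.card C : ℂ) / cc j *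
            ∑ i, (X i j : ℂ) * f (w0 i)) := by
        intro j
        rw [Finset.filter_filter]
        have h5 : ∀ y ∈ Finset.univ.filter (fun y => lX y = lX (pt g) ∧ lY y = j), E y =
            (Nat.card C : ℂ) / cc j * ∑ i, (X i j : ℂ) * f (w0 i) := by
          intro y hy
          rw [hE', (Finset.mem_filter.1 hy).2.2]
        rw [Finset.sum_congr rfl h5, Finset.sum_const, nsmul_eq_mul, hXF]
      rw [Finset.sum_congr rfl fun j _ => h4 j]
      simp only [Finset.mul_sum, Finset.sum_mul]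
      rw [Finset.sum_comm]
      refine Finset.sum_congr rfl fun i _ => Finset.sum_congr rfl fun j _ => ?_
      ring
    rw [h3] at h2
    have h6 : ∀ i, (b (lX (pt g)) : ℂ) * A (lX (pt g)) i =
        s * ∑ j, (X (lX (pt g)) j : ℂ) * X i j / cc j := by
      intro i
      have h7 := congrArg (fun q : ℚ => (q : ℂ)) (hA (lX (pt g)) i)
      push_cast at h7
      exact h7
    have hsc : (s : ℂ) ≠ 0 := by exact_mod_cast hs
    have hbg := hbc (lX (pt g))
    apply mul_left_cancel₀ hbg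
    rw [h2]
    have h8 : ∀ i, (∑ j, (X (lX (pt g)) j : ℂ) * X i j / cc j) * f (w0 i) =
        (b (lX (pt g)) : ℂ) / s * (A (lX (pt g)) i * f (w0 i)) := by
      intro i
      rw [div_mul_eq_mul_div, eq_div_iff hsc]
      linear_combination (-f (w0 i)) * h6 i
    rw [Finset.sum_congr rfl fun i _ => h8 i, ← Finset.mul_sum]
    field_simp
  have hNc : ((Nat.card H : ℂ) * Nat.card C / (s : ℂ)) ≠ 0 := by
    have hsc : (s : ℂ) ≠ 0 := by exact_mod_cast hs
    exact div_ne_zero (mul_ne_zero hHc hCc) hsc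
  have hκ : ∑ z : G, v (lX (pt z)) * v (lX (pt z⁻¹)) = (Nat.card H : ℂ) * K := by
    have h1 : ∀ z, v (lX (pt z)) * v (lX (pt z⁻¹)) = v (lX (pt z)) ^ 2 := by
      intro z
      rw [hlabi, sq]
    rw [Finset.sum_congr rfl fun z _ => h1 z]
    rw [← Finset.sum_fiberwise (s := Finset.univ) (g := fun z : G => lX (pt z)), ← hK,
      Finset.mul_sum]
    refine Finset.sum_congr rfl fun i _ => ?_
    have h2 : ∀ z ∈ Finset.univ.filter (fun z : G => lX (pt z) = i), v (lX (pt z)) ^ 2 =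
        v i ^ 2 := by
      intro z hz
      rw [(Finset.mem_filter.1 hz).2]
    rw [Finset.sum_congr rfl h2, Finset.sum_const, nsmul_eq_mul, hcard]
    push_cast
    ring
  have hmain := exists_irr_of_family H (fun p : H × C => (p.1 : G) * p.2)
    (φ := fun g => v (lX (pt g)))
    (μ := ((Nat.card H : ℂ) * Nat.card C / (s : ℂ)) * μ) (κ := (Nat.card H : ℂ) * K)
    ?_ ?_ ?_ ?_ ?_ hκ (mul_ne_zero hHc hK0)
  · obtain ⟨χ, hχ⟩ := hmain
    refine ⟨χ, ?_⟩
    have h1 := H.card_mul_index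
    have h2 : ((Nat.card H : ℕ) : ℂ) * H.index = Nat.card G := by exact_mod_cast h1
    rw [← h2] at hχ
    apply mul_left_cancel₀ hHc
    rw [← hχ]
    ring
  · intro h hh g
    show v (lX (pt (h * g))) = v (lX (pt g))
    rw [hlabl h hh]
  · intro h hh g
    show v (lX (pt (g * h))) = v (lX (pt g))
    rw [hlabr h hh]
  · show v (lX (pt 1)) = 1
    rw [hlab1, hv0]
  · intro g
    rw [hop (fun g => v (lX (pt g))) (fun h hh g => by
      show v (lX (pt (h * g))) = v (lX (pt g))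
      rw [hlabl h hh]) (fun h hh g => by
      show v (lX (pt (g * h))) = v (lX (pt g))
      rw [hlabr h hh])]
    rw [mul_assoc _ μ, ← hv (lX (pt g))]
    congr 1
    exact Finset.sum_congr rfl fun j _ => by rw [hw0]
  · intro f hl hr hT g
    have hf : ∀ g, f g = f (w0 (lX (pt g))) := by
      intro g
      obtain ⟨x, hx, y, hy, e⟩ := hdec g (w0 (lX (pt g))) (hw0 _).symm
      nth_rewrite 1 [e]
      rw [hr y hy, hl x hx]
    have h1 := hu (fun i => f (w0 i)) (fun i => by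
      have h2 := hT (w0 i)
      rw [hop f hl hr, hw0, mul_assoc _ μ] at h2
      exact mul_left_cancel₀ hNc h2) (lX (pt g))
    show f g = f 1 * v (lX (pt g))
    rw [hf g, h1, hf 1, hlab1]

end Cfsg.Agent.H492.TwoSub
end

-- part: H492/PermHecke
section
set_option linter.all false
open scoped Cfsg.Agent.FastGrp

/-!
# Irreducible characters from a permutation action given by suborbits (helper492)

`G` acts on `ℕ`, `H` is the stabilizer of `0`, the orbit of `0` is the union of the finite sets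
`D i`, each an orbit of `H`, of different sizes.  From the numbers
`k i j = #{y ∈ D a | w i • y ∈ D j}` (`w i` maps `0` into `D i`) an eigenvalue of multiplicity 1
of the matrix `k` gives an irreducible character of exact degree.
-/

set_option autoImplicit false

namespace Cfsg.Agent.H492.PermHecke

open Cfsg Cfsg.Agent.Characters.Core Cfsg.Agent.H492.NodeHecke

universe u

variable {G : Type u} [Group G]

theorem inv_app (φ : G →* Equiv.Perm ℕ) (x : G) (p : ℕ) : φ x⁻¹ (φ x p) = p := by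
  rw [← Equiv.Perm.mul_apply, ← map_mul, inv_mul_cancel, map_one]; rfl

/-- The sum over a subgroup as a sum over an orbit. -/
theorem sum_orbit [Fintype G] (H : Subgroup G) [Fintype H] (φ : G →* Equiv.Perm ℕ) (D : Finset ℕ)
    {y : ℕ} (hD : ∀ p, (∃ x ∈ H, φ x y = p) ↔ p ∈ D) (F : ℕ → ℂ) :
    (D.card : ℂ) * ∑ h : H, F (φ h y) = (Nat.card H : ℂ) * ∑ p ∈ D, F p := by
  classical
  have hst : ∀ h ∈ H, ∀ p, p ∈ D → φ h p ∈ D := by
    intro h hh p hp
    obtain ⟨x, hx, rfl⟩ := (hD p).2 hp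
    exact (hD _).1 ⟨h * x, H.mul_mem hh hx, by rw [map_mul, Equiv.Perm.mul_apply]⟩
  have h1 : ∀ p ∈ D, ∑ h : H, F (φ h p) = ∑ h : H, F (φ h y) := by
    intro p hp
    obtain ⟨x, hx, rfl⟩ := (hD p).2 hp
    rw [← Equiv.sum_comp (Equiv.mulRight (⟨x, hx⟩ : H)) (fun h : H => F (φ h y))]
    refine Finset.sum_congr rfl fun h _ => ?_
    simp only [Equiv.coe_mulRight, Subgroup.coe_mul, map_mul, Equiv.Perm.mul_apply]
  have h2 : ∀ h : H, ∑ p ∈ D, F (φ h p) = ∑ p ∈ D, F p := by
    intro h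
    refine Finset.sum_bij' (fun p _ => φ h p) (fun p _ => φ (h : G)⁻¹ p)
      (fun p hp => hst h h.2 p hp) (fun p hp => hst _ (H.inv_mem h.2) p hp) ?_ ?_ ?_
    · intro p _; simp
    · intro p _; simp
    · intro p _; rfl
  calc (D.card : ℂ) * ∑ h : H, F (φ h y) = ∑ p ∈ D, ∑ h : H, F (φ h y) := by
        rw [Finset.sum_const, nsmul_eq_mul]
    _ = ∑ p ∈ D, ∑ h : H, F (φ h p) := Finset.sum_congr rfl fun p hp => (h1 p hp).symm
    _ = ∑ h : H, ∑ p ∈ D, F (φ h p) := Finset.sum_comm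
    _ = ∑ h : H, ∑ p ∈ D, F p := Finset.sum_congr rfl fun h _ => h2 h
    _ = (Nat.card H : ℂ) * ∑ p ∈ D, F p := by
        rw [Finset.sum_const, nsmul_eq_mul, Finset.card_univ, Nat.card_eq_fintype_card]

/-- **Irreducible characters from a permutation action given by suborbits.** -/
theorem exists_irr_of_perm [Finite G] (H : Subgroup G) (φ : G →* Equiv.Perm ℕ)
    (hst : ∀ g, φ g 0 = 0 ↔ g ∈ H) {m : ℕ} (D : Fin m → Finset ℕ) (w : Fin m → G)
    (hD : ∀ i p, (∃ x ∈ H, φ x (φ (w i) 0) = p) ↔ p ∈ D i) (hcov : ∀ g, ∃ i, φ g 0 ∈ D i)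
    (sz : Fin m → ℕ) (hsz : ∀ i, (D i).card = sz i) (hinj : Function.Injective sz)
    (a : Fin m) (k : Fin m → Fin m → ℕ)
    (hk : ∀ i j, ((D a).filter (fun y => φ (w i) y ∈ D j)).card = k i j)
    (i0 : Fin m) (hi0 : w i0 = 1) (v : Fin m → ℂ) (μ : ℂ) (hv0 : v i0 = 1)
    (hv : ∀ i, ∑ j, (k i j : ℂ) * v j = μ * v i)
    (hu : ∀ x : Fin m → ℂ, (∀ i, ∑ j, (k i j : ℂ) * x j = μ * x i) → ∀ i, x i = x i0 * v i)
    {K : ℂ} (hK : ∑ i, (sz i : ℂ) * v i ^ 2 = K) (hK0 : K ≠ 0) :
    ∃ χ : IrrCharacter G, (χ : G → ℂ) 1 * K = H.index := by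
  classical
  have := Fintype.ofFinite G
  have := Fintype.ofFinite H
  -- basic facts on the orbits
  have hwD : ∀ i, φ (w i) 0 ∈ D i := fun i =>
    (hD i _).1 ⟨1, H.one_mem, by rw [map_one]; rfl⟩
  have hstab : ∀ h ∈ H, ∀ i p, p ∈ D i → φ h p ∈ D i := by
    intro h hh i p hp
    obtain ⟨x, hx, rfl⟩ := (hD i p).2 hp
    exact (hD i _).1 ⟨h * x, H.mul_mem hh hx, by rw [map_mul, Equiv.Perm.mul_apply]⟩
  have hsub : ∀ i j p, p ∈ D i → p ∈ D j → D i ⊆ D j := by
    intro i j p hi hj q hq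
    obtain ⟨x, hx, hx'⟩ := (hD i p).2 hi
    obtain ⟨y, hy, hy'⟩ := (hD i q).2 hq
    have : φ (y * x⁻¹) p = q := by
      rw [map_mul, Equiv.Perm.mul_apply, ← hx', inv_app, hy']
    rw [← this]
    exact hstab _ (H.mul_mem hy (H.inv_mem hx)) j p hj
  have huniq : ∀ i j p, p ∈ D i → p ∈ D j → i = j := by
    intro i j p hi hj
    apply hinj
    rw [← hsz, ← hsz]
    exact le_antisymm (Finset.card_le_card (hsub i j p hi hj))
      (Finset.card_le_card (hsub j i p hj hi))
  -- the labels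
  choose lab hlab using hcov
  have hlab_iff : ∀ g i, lab g = i ↔ φ g 0 ∈ D i := by
    intro g i
    constructor
    · rintro rfl; exact hlab g
    · intro h; exact huniq _ _ _ (hlab g) h
  have hH0 : ∀ h ∈ H, φ h 0 = 0 := fun h hh => (hst h).2 hh
  have hlabl : ∀ h ∈ H, ∀ g, lab (h * g) = lab g := by
    intro h hh g
    rw [hlab_iff, map_mul, Equiv.Perm.mul_apply]
    exact hstab h hh _ _ (hlab g)
  have hlabr : ∀ h ∈ H, ∀ g, lab (g * h) = lab g := by
    intro h hh g
    rw [hlab_iff, map_mul, Equiv.Perm.mul_apply, hH0 h hh]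
    exact hlab g
  have hlabw : ∀ i, lab (w i) = i := fun i => (hlab_iff _ _).2 (hwD i)
  have hw : ∀ g, ∃ a ∈ H, ∃ b ∈ H, g = a * w (lab g) * b := by
    intro g
    obtain ⟨x, hx, hx'⟩ := (hD (lab g) _).2 (hlab g)
    refine ⟨x, hx, (w (lab g))⁻¹ * x⁻¹ * g, ?_, by group⟩
    rw [← hst, map_mul, map_mul, Equiv.Perm.mul_apply, Equiv.Perm.mul_apply, ← hx', inv_app,
      inv_app]
  -- sizes
  have hcard : ∀ i, (Finset.univ.filter (fun g : G => lab g = i)).card = Nat.card H * sz i := by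
    intro i
    have h1 : ∀ g ∈ Finset.univ.filter (fun g : G => lab g = i), φ g 0 ∈ D i := by
      intro g hg
      exact (hlab_iff _ _).1 (Finset.mem_filter.1 hg).2
    rw [Finset.card_eq_sum_card_fiberwise h1, ← hsz i, mul_comm, ← smul_eq_mul,
      ← Finset.sum_const]
    refine Finset.sum_congr rfl fun p hp => ?_
    obtain ⟨x, hx, hx'⟩ := (hD i p).2 hp
    rw [Nat.card_eq_fintype_card, ← Finset.card_univ]
    symm
    refine Finset.card_bij (fun (h : H) _ => x * w i * h) ?_ ?_ ?_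
    · intro h _
      rw [Finset.mem_filter, Finset.mem_filter]
      refine ⟨⟨Finset.mem_univ _, ?_⟩, ?_⟩
      · rw [hlabr h h.2, hlabl x hx, hlabw]
      · rw [map_mul, map_mul, Equiv.Perm.mul_apply, Equiv.Perm.mul_apply, hH0 h h.2, hx']
    · intro h _ h' _ e
      exact Subtype.ext (mul_left_cancel e)
    · intro g hg
      rw [Finset.mem_filter] at hg
      refine ⟨⟨(x * w i)⁻¹ * g, ?_⟩, Finset.mem_univ _, mul_inv_cancel_left _ _⟩
      have e : p = φ (x * w i) 0 := by rw [map_mul, Equiv.Perm.mul_apply, hx']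
      rw [← hst, map_mul, Equiv.Perm.mul_apply, hg.2, e, inv_app]
  have hHpos : 0 < Nat.card H := Nat.card_pos
  -- inverses
  have hlabi : ∀ g, lab g⁻¹ = lab g := by
    have h1 : ∀ g, lab g⁻¹ = lab (w (lab g))⁻¹ := by
      intro g
      obtain ⟨x, hx, y, hy, e⟩ := hw g
      nth_rewrite 1 [e]
      rw [mul_inv_rev, mul_inv_rev, hlabl _ (H.inv_mem hy), hlabr _ (H.inv_mem hx)]
    have h2 : ∀ i, (Finset.univ.filter (fun g : G => lab g = i)).card =
        (Finset.univ.filter (fun g : G => lab g⁻¹ = i)).card := by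
      intro i
      refine Finset.card_bij (fun g _ => g⁻¹) ?_ ?_ ?_
      · intro g hg
        rw [Finset.mem_filter] at hg ⊢
        exact ⟨Finset.mem_univ _, by rw [inv_inv]; exact hg.2⟩
      · intro g _ g' _ e
        exact inv_injective e
      · intro g hg
        rw [Finset.mem_filter] at hg
        exact ⟨g⁻¹, by rw [Finset.mem_filter]; exact ⟨Finset.mem_univ _, hg.2⟩, inv_inv g⟩
    intro g
    have h3 : Finset.univ.filter (fun x : G => lab x = lab g) ⊆
        Finset.univ.filter (fun x : G => lab x⁻¹ = lab g⁻¹) := by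
      intro x hx
      rw [Finset.mem_filter] at hx ⊢
      refine ⟨Finset.mem_univ _, ?_⟩
      rw [h1 x, h1 g, hx.2]
    have h4 : Finset.univ.filter (fun x : G => lab x⁻¹ = lab g⁻¹) ⊆
        Finset.univ.filter (fun x : G => lab x = lab g) := by
      intro x hx
      rw [Finset.mem_filter] at hx ⊢
      refine ⟨Finset.mem_univ _, ?_⟩
      have h5 := h1 x⁻¹
      have h6 := h1 g⁻¹
      rw [inv_inv] at h5 h6
      rw [h5, h6, hx.2]
    have h5 := le_antisymm (Finset.card_le_card h3) (Finset.card_le_card h4)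
    rw [← h2, hcard, hcard] at h5
    exact (hinj (Nat.eq_of_mul_eq_mul_left hHpos h5)).symm
  have hDa : ((D a).card : ℂ) ≠ 0 := by
    have : 0 < (D a).card := Finset.card_pos.2 ⟨_, hwD a⟩
    exact_mod_cast this.ne'
  have hHc : ((Nat.card H : ℕ) : ℂ) ≠ 0 := by exact_mod_cast hHpos.ne'
  refine exists_irr_of_lab H (w a) lab w hlabl hlabr hw hlabi ((Nat.card H : ℂ) / (D a).card)
    (div_ne_zero hHc hDa) (fun i j => (k i j : ℂ)) ?_ hlabw sz hcard i0 hi0 v μ hv0 hv hu hK hK0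
  intro f hl hr g
  have hf : ∀ g, f g = f (w (lab g)) := by
    intro g
    obtain ⟨a, ha, b, hb, e⟩ := hw g
    nth_rewrite 1 [e]
    rw [hr b hb, hl a ha]
  obtain ⟨x, hx, y, hy, e⟩ := hw g
  have h1 : ∑ h : H, f (g * h * w a) = ∑ h : H, f (w (lab g) * h * w a) := by
    rw [← Equiv.sum_comp (Equiv.mulLeft (⟨y, hy⟩ : H)) (fun h : H => f (w (lab g) * h * w a))]
    refine Finset.sum_congr rfl fun h _ => ?_
    nth_rewrite 1 [e]
    rw [← hl x hx (w (lab g) * _ * w a)]
    congr 1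
    simp only [Equiv.coe_mulLeft, Subgroup.coe_mul, mul_assoc]
  rw [h1]
  -- the labels of points
  let F : ℕ → ℂ := fun p => ∑ j, if φ (w (lab g)) p ∈ D j then f (w j) else 0
  have h2 : ∀ h : H, f (w (lab g) * h * w a) = F (φ h (φ (w a) 0)) := by
    intro h
    show _ = ∑ j, if φ (w (lab g)) (φ h (φ (w a) 0)) ∈ D j then f (w j) else 0
    have h3 : φ (w (lab g)) (φ h (φ (w a) 0)) = φ (w (lab g) * h * w a) 0 := by
      rw [map_mul, map_mul, Equiv.Perm.mul_apply, Equiv.Perm.mul_apply]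
    rw [h3, hf]
    have h4 : ∀ j, (φ (w (lab g) * h * w a) 0 ∈ D j) ↔ lab (w (lab g) * h * w a) = j :=
      fun j => (hlab_iff _ _).symm
    simp only [h4, Finset.sum_ite_eq, Finset.mem_univ, if_true]
  rw [Finset.sum_congr rfl fun h _ => h2 h]
  have h3 := sum_orbit H φ (D a) (hD a) F
  have h4 : ∑ p ∈ D a, F p = ∑ j, (k (lab g) j : ℂ) * f (w j) := by
    show ∑ p ∈ D a, ∑ j, (if φ (w (lab g)) p ∈ D j then f (w j) else 0) = _
    rw [Finset.sum_comm]
    refine Finset.sum_congr rfl fun j _ => ?_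
    rw [← Finset.sum_filter, Finset.sum_const, nsmul_eq_mul, hk]
  rw [h4] at h3
  rw [div_mul_eq_mul_div, eq_div_iff hDa, mul_comm, h3]

end Cfsg.Agent.H492.PermHecke
end
end
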