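import Cfsg.Agent.H492.TwoSub_m3
import Cfsg.Agent.ONType.RepOrb
import Cfsg.Agent.SporRec.ONFinal
import Cfsg.Agent.SporRec.ONIndexUpper
import Cfsg.Agent.H678.DG.Basic
import Cfsg.Agent.Prune
set_option linter.all false
prune_inst 0x7f00000000000000000000000000000000000000000000000000000000000000000000000000000000000000000000000000000000000000000000000000000000000000000000000000000000000000003fffffffffffffffffffffffffffbeffbdffffffff
open scoped Cfsg.Agent.FastGrp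

/-!
# Irreducible characters of the O'Nan group from the rank 5 action (helper492)

The permutation character of degree 122760 (suborbits 1, 5586, 6384, 52136, 58653) is
1 + 10944 + 26752 + 32395 + 52668; the facts on the degree graph.
-/

set_option autoImplicit false
set_option maxRecDepth 100000
set_option linter.style.longLine false
set_option Elab.async false

open Cfsg

noncomputable section

namespace Cfsg.Agent.H492.FactsON

open Cfsg.Agent.Lib.PermNet Cfsg.Agent.Lib.PermNetOrbit Cfsg.Agent.Fischer.Fi24RepLib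
  Cfsg.Agent.ONType.RepDef Cfsg.Agent.ONType.Rep Cfsg.Agent.ONType.RepOrbData
  Cfsg.Agent.ONType.RepOrb
open Cfsg.Spor (ON)
open Cfsg.Spor.ON (Gen)

universe u

/-! ### Kernel checks -/

/-- the count of the points of `U` which the word `l` maps into `V`, with all evaluations forced -/
def cnt (l : List Gen) (U V : ℕ) (n : ℕ) : Bool :=
  Nat.beq (pc 17 (Nat.land U (appWord (nw l false) V))) n

/-- the orbit points -/
def wd : Fin 5 → List Gen := ![[], [.g, .c, .g], [.g, .d, .b, .g], [.g, .b, .g], [.g]]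

/-- the masks of the suborbits -/
def UU : Fin 5 → ℕ := ![1, U5586, U6384, U52136, U58653]

/-- the subdegrees -/
def ss : Fin 5 → ℕ := ![1, 5586, 6384, 52136, 58653]

/-- the intersection matrix of the suborbit of length 5586 -/
def PP : Fin 5 → Fin 5 → ℕ := ![![0, 5586, 0, 0, 0], ![1, 364, 216, 2464, 2541], ![0, 189, 301, 2303, 2793], ![0, 264, 282, 2394, 2646], ![0, 242, 304, 2352, 2688]]

theorem c00 : cnt [] U5586 1 0 = true := by decide +kernel
theorem c01 : cnt [] U5586 U5586 5586 = true := by decide +kernel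
theorem c02 : cnt [] U5586 U6384 0 = true := by decide +kernel
theorem c03 : cnt [] U5586 U52136 0 = true := by decide +kernel
theorem c04 : cnt [] U5586 U58653 0 = true := by decide +kernel
theorem c10 : cnt [.g, .c, .g] U5586 1 1 = true := by decide +kernel
theorem c11 : cnt [.g, .c, .g] U5586 U5586 364 = true := by decide +kernel
theorem c12 : cnt [.g, .c, .g] U5586 U6384 216 = true := by decide +kernel
theorem c13 : cnt [.g, .c, .g] U5586 U52136 2464 = true := by decide +kernel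
theorem c14 : cnt [.g, .c, .g] U5586 U58653 2541 = true := by decide +kernel
theorem c20 : cnt [.g, .d, .b, .g] U5586 1 0 = true := by decide +kernel
theorem c21 : cnt [.g, .d, .b, .g] U5586 U5586 189 = true := by decide +kernel
theorem c22 : cnt [.g, .d, .b, .g] U5586 U6384 301 = true := by decide +kernel
theorem c23 : cnt [.g, .d, .b, .g] U5586 U52136 2303 = true := by decide +kernel
theorem c24 : cnt [.g, .d, .b, .g] U5586 U58653 2793 = true := by decide +kernel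
theorem c30 : cnt [.g, .b, .g] U5586 1 0 = true := by decide +kernel
theorem c31 : cnt [.g, .b, .g] U5586 U5586 264 = true := by decide +kernel
theorem c32 : cnt [.g, .b, .g] U5586 U6384 282 = true := by decide +kernel
theorem c33 : cnt [.g, .b, .g] U5586 U52136 2394 = true := by decide +kernel
theorem c34 : cnt [.g, .b, .g] U5586 U58653 2646 = true := by decide +kernel
theorem c40 : cnt [.g] U5586 1 0 = true := by decide +kernel
theorem c41 : cnt [.g] U5586 U5586 242 = true := by decide +kernel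
theorem c42 : cnt [.g] U5586 U6384 304 = true := by decide +kernel
theorem c43 : cnt [.g] U5586 U52136 2352 = true := by decide +kernel
theorem c44 : cnt [.g] U5586 U58653 2688 = true := by decide +kernel
theorem p1 : tb U5586 (ptWord (nw [.g, .c, .g] false) 0) = true := by decide +kernel
theorem p2 : tb U6384 (ptWord (nw [.g, .d, .b, .g] false) 0) = true := by decide +kernel
theorem p3 : tb U52136 (ptWord (nw [.g, .b, .g] false) 0) = true := by decide +kernel
theorem p4 : tb U58653 (ptWord (nw [.g] false) 0) = true := by decide +kernel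

theorem lt1 : Nat.beq (Nat.shiftRight 1 (Nat.pow 2 (17 : ℕ))) 0 = true := by decide +kernel

theorem hU (i : Fin 5) : Nat.beq (Nat.shiftRight (UU i) (Nat.pow 2 (17 : ℕ))) 0 = true := by
  fin_cases i
  · exact lt1
  · exact ltB
  · exact ltC
  · exact ltD
  · exact ltA

theorem lt_of_beq {U : ℕ} (h : Nat.beq (Nat.shiftRight U (Nat.pow 2 (17 : ℕ))) 0 = true) :
    U < 2 ^ 2 ^ 17 := by
  have h1 : U >>> 2 ^ 17 = 0 := Nat.eq_of_beq_eq_true h
  rw [Nat.shiftRight_eq_div_pow] at h1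
  exact (Nat.div_eq_zero_iff_lt (by positivity)).1 h1

theorem mem_bits' {U : ℕ} (h : U < 2 ^ 2 ^ 17) (p : ℕ) : p ∈ bits (2 ^ 17) U ↔ U.testBit p = true := by
  rw [mem_bits]
  refine ⟨fun h => h.2, fun h' => ⟨?_, h'⟩⟩
  by_contra hc
  rw [Nat.testBit_lt_two_pow (lt_of_lt_of_le h (Nat.pow_le_pow_right (by norm_num) (by omega)))] at h'
  exact absurd h' (by simp)

theorem word_nil : word [] = 1 := rfl

/-- the count from the kernel check -/
theorem card_of_cnt {l : List Gen} {U V n : ℕ} (hU : U < 2 ^ 2 ^ 17) (hV : V < 2 ^ 2 ^ 17)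
    (h : cnt l U V n = true) :
    ((bits (2 ^ 17) U).filter (fun y => rho (word l) y ∈ bits (2 ^ 17) V)).card = n := by
  have h1 : pc 17 (Nat.land U (appWord (nw l false) V)) = n := Nat.eq_of_beq_eq_true h
  have h2 : Nat.land U (appWord (nw l false) V) < 2 ^ 2 ^ 17 :=
    lt_of_le_of_lt Nat.and_le_left hU
  refine Eq.trans (congrArg Finset.card ?_) ((pc_eq _ _ h2).symm.trans h1)
  refine Finset.ext fun y => ?_
  rw [Finset.mem_filter, mem_bits' hU, mem_bits' hV, mem_bits' h2]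
  have h3 : (Nat.land U (appWord (nw l false) V)).testBit y =
      (U.testBit y && (appWord (nw l false) V).testBit y) := Nat.testBit_and _ _ _
  rw [h3, testBit_appWord (wok l false), Bool.and_eq_true, rho_word]

/-! ### The action -/

theorem exact : H.index = 122760 ∧ (∀ x, rho x 0 = 0 ↔ x ∈ H) := by
  have h1 : H.index ≤ 122760 := by rw [H_eq]; exact SporRec.ONIndexUpper.index_le
  have h2 : H.index ≠ 0 := by rw [H_eq]; exact SporRec.ONIndexUpper.index_ne_zero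
  exact ⟨(index_and_suborbits h1 h2).1, (index_and_suborbits h1 h2).2.1⟩

theorem card_ON : Nat.card ON = 460815505920 :=
  (SporRec.ONFinal.index_eq SporRec.ONIndexUpper.index_ne_zero SporRec.ONIndexUpper.index_le).2.1

instance finON : Finite ON := Nat.finite_of_card_ne_zero (by rw [card_ON]; norm_num)

/-- An `H`-orbit from any of its points. -/
theorem orb_of {p₀ U q : ℕ} (h : {p : ℕ | ∃ x ∈ H, rho x p₀ = p} = {p | U.testBit p = true})
    (hq : U.testBit q = true) (p : ℕ) : (∃ x ∈ H, rho x q = p) ↔ U.testBit p = true := by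
  have h' : ∀ p, (∃ x ∈ H, rho x p₀ = p) ↔ U.testBit p = true := fun p => by
    have := congrArg (fun s => p ∈ s) h
    simpa using this
  obtain ⟨x, hx, hx'⟩ := (h' q).2 hq
  rw [← h' p]
  constructor
  · rintro ⟨y, hy, rfl⟩
    exact ⟨y * x, H.mul_mem hy hx, by rw [map_mul, Equiv.Perm.mul_apply, hx']⟩
  · rintro ⟨y, hy, rfl⟩
    refine ⟨y * x⁻¹, H.mul_mem hy (H.inv_mem hx), ?_⟩
    rw [map_mul, Equiv.Perm.mul_apply, ← hx', Cfsg.Agent.H492.PermHecke.inv_app]

theorem pt_eq (l : List Gen) (q : ℕ) : ptWord (nw l false) q = rho (word l) q := by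
  rw [ptWord_eq (wok l false), rho_word]

theorem hD (i : Fin 5) (p : ℕ) :
    (∃ x ∈ H, rho x (rho (word (wd i)) 0) = p) ↔ p ∈ bits (2 ^ 17) (UU i) := by
  rw [mem_bits' (lt_of_beq (hU i))]
  fin_cases i
  · show (∃ x ∈ H, rho x (rho (word []) 0) = p) ↔ (1 : ℕ).testBit p = true
    have h1 : (rho (word []) 0 : ℕ) = 0 := by rw [word_nil, map_one]; rfl
    rw [h1]
    constructor
    · rintro ⟨x, hx, rfl⟩
      rw [H_fix x hx]; rfl
    · intro h
      have : p = 0 := by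
        by_contra hc
        have h2 : (2 ^ 0 : ℕ).testBit p = true := h
        rw [Nat.testBit_two_pow] at h2
        have h3 : 0 = p := by simpa using h2
        exact hc h3.symm
      exact ⟨1, H.one_mem, by rw [map_one, this]; rfl⟩
  · refine orb_of orbB ?_ p
    show U5586.testBit (rho (word [.g, .c, .g]) 0) = true
    rw [← pt_eq, ← tb_eq]; exact p1
  · refine orb_of orbC ?_ p
    show U6384.testBit (rho (word [.g, .d, .b, .g]) 0) = true
    rw [← pt_eq, ← tb_eq]; exact p2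
  · refine orb_of orbD ?_ p
    show U52136.testBit (rho (word [.g, .b, .g]) 0) = true
    rw [← pt_eq, ← tb_eq]; exact p3
  · refine orb_of orbA ?_ p
    show U58653.testBit (rho (word [.g]) 0) = true
    rw [← pt_eq, ← tb_eq]; exact p4

theorem hcov (g : ON) : ∃ i, rho g 0 ∈ bits (2 ^ 17) (UU i) := by
  have h1 : rho g 0 ∈ {p : ℕ | ∃ x, rho x 0 = p} := ⟨g, rfl⟩
  rw [orbG] at h1
  have h2 : UG.testBit (rho g 0) = true := h1
  have h3 : ∀ p, UG.testBit p = (U58653.testBit p || (U5586.testBit p || (U6384.testBit p ||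
      (U52136.testBit p || (1 : ℕ).testBit p)))) := by
    intro p
    show (U58653 ||| (U5586 ||| (U6384 ||| (U52136 ||| 1)))).testBit p = _
    simp only [Nat.testBit_or]
  rw [h3] at h2
  simp only [Bool.or_eq_true] at h2
  rcases h2 with h2 | h2 | h2 | h2 | h2
  · exact ⟨4, (mem_bits' (lt_of_beq (hU 4)) _).2 h2⟩
  · exact ⟨1, (mem_bits' (lt_of_beq (hU 1)) _).2 h2⟩
  · exact ⟨2, (mem_bits' (lt_of_beq (hU 2)) _).2 h2⟩
  · exact ⟨3, (mem_bits' (lt_of_beq (hU 3)) _).2 h2⟩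
  · exact ⟨0, (mem_bits' (lt_of_beq (hU 0)) _).2 h2⟩

theorem pc1 : Nat.beq (pc 17 1) (1 : ℕ) = true := by decide +kernel

theorem UU_eq : UU 0 = 1 ∧ UU 1 = U5586 ∧ UU 2 = U6384 ∧ UU 3 = U52136 ∧ UU 4 = U58653 :=
  ⟨rfl, rfl, rfl, rfl, rfl⟩

theorem ss_eq : ss 0 = 1 ∧ ss 1 = 5586 ∧ ss 2 = 6384 ∧ ss 3 = 52136 ∧ ss 4 = 58653 :=
  ⟨rfl, rfl, rfl, rfl, rfl⟩

theorem hpc : pc 17 (UU 0) = ss 0 ∧ pc 17 (UU 1) = ss 1 ∧ pc 17 (UU 2) = ss 2 ∧
    pc 17 (UU 3) = ss 3 ∧ pc 17 (UU 4) = ss 4 := by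
  rw [UU_eq.1, UU_eq.2.1, UU_eq.2.2.1, UU_eq.2.2.2.1, UU_eq.2.2.2.2,
    ss_eq.1, ss_eq.2.1, ss_eq.2.2.1, ss_eq.2.2.2.1, ss_eq.2.2.2.2]
  exact ⟨Nat.eq_of_beq_eq_true pc1, Nat.eq_of_beq_eq_true pcB, Nat.eq_of_beq_eq_true pcC,
    Nat.eq_of_beq_eq_true pcD, Nat.eq_of_beq_eq_true pcA⟩

theorem hsz (i : Fin 5) : (bits (2 ^ 17) (UU i)).card = ss i := by
  rw [← pc_eq _ _ (lt_of_beq (hU i))]
  obtain ⟨h0, h1, h2, h3, h4⟩ := hpc
  fin_cases i
  · exact h0
  · exact h1
  · exact h2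
  · exact h3
  · exact h4

theorem ss_inj : Function.Injective ss := by decide

theorem hk (i j : Fin 5) : ((bits (2 ^ 17) (UU 1)).filter
    (fun y => rho (word (wd i)) y ∈ bits (2 ^ 17) (UU j))).card = PP i j := by
  have h1 := lt_of_beq (hU 1)
  have h2 := lt_of_beq (hU j)
  fin_cases i <;> fin_cases j
  · exact card_of_cnt h1 h2 c00
  · exact card_of_cnt h1 h2 c01
  · exact card_of_cnt h1 h2 c02
  · exact card_of_cnt h1 h2 c03
  · exact card_of_cnt h1 h2 c04
  · exact card_of_cnt h1 h2 c10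
  · exact card_of_cnt h1 h2 c11
  · exact card_of_cnt h1 h2 c12
  · exact card_of_cnt h1 h2 c13
  · exact card_of_cnt h1 h2 c14
  · exact card_of_cnt h1 h2 c20
  · exact card_of_cnt h1 h2 c21
  · exact card_of_cnt h1 h2 c22
  · exact card_of_cnt h1 h2 c23
  · exact card_of_cnt h1 h2 c24
  · exact card_of_cnt h1 h2 c30
  · exact card_of_cnt h1 h2 c31
  · exact card_of_cnt h1 h2 c32
  · exact card_of_cnt h1 h2 c33
  · exact card_of_cnt h1 h2 c34
  · exact card_of_cnt h1 h2 c40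
  · exact card_of_cnt h1 h2 c41
  · exact card_of_cnt h1 h2 c42
  · exact card_of_cnt h1 h2 c43
  · exact card_of_cnt h1 h2 c44

theorem main (v : Fin 5 → ℂ) (μ κ : ℂ) (hv0 : v 0 = 1)
    (hv : ∀ i, ∑ j, (PP i j : ℂ) * v j = μ * v i)
    (hu : ∀ x : Fin 5 → ℂ, (∀ i, ∑ j, (PP i j : ℂ) * x j = μ * x i) → ∀ i, x i = x 0 * v i)
    (hκ : ∑ i, (ss i : ℂ) * v i ^ 2 = κ) (hκ0 : κ ≠ 0) :
    ∃ χ : IrrCharacter ON, (χ : ON → ℂ) 1 * κ = 122760 := by
  obtain ⟨χ, hχ⟩ := Cfsg.Agent.H492.PermHecke.exists_irr_of_perm H rho exact.2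
    (fun i => bits (2 ^ 17) (UU i)) (fun i => word (wd i)) hD hcov ss hsz ss_inj 1 PP hk 0 rfl
    v μ hv0 hv hu hκ hκ0
  refine ⟨χ, ?_⟩
  rw [hχ, exact.1]
  norm_num

theorem sum5 (x : Fin 5 → ℂ) : ∑ i, x i = x 0 + x 1 + x 2 + x 3 + x 4 := by
  simp only [Fin.sum_univ_succ, Fin.sum_univ_zero]
  show x 0 + (x 1 + (x 2 + (x 3 + (x 4 + 0)))) = _
  ring

theorem sum_ss (x : Fin 5 → ℂ) : ∑ i, (ss i : ℂ) * x i = 1 * x 0 + 5586 * x 1 + 6384 * x 2 + 52136 * x 3 + 58653 * x 4 := by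
  rw [sum5]
  show ((1 : ℕ) : ℂ) * x 0 + ((5586 : ℕ) : ℂ) * x 1 + ((6384 : ℕ) : ℂ) * x 2 + ((52136 : ℕ) : ℂ) * x 3 + ((58653 : ℕ) : ℂ) * x 4 = _
  push_cast
  ring

theorem rows (x : Fin 5 → ℂ) :
    ∑ j, (PP 0 j : ℂ) * x j = 0 * x 0 + 5586 * x 1 + 0 * x 2 + 0 * x 3 + 0 * x 4 ∧
    ∑ j, (PP 1 j : ℂ) * x j = 1 * x 0 + 364 * x 1 + 216 * x 2 + 2464 * x 3 + 2541 * x 4 ∧
    ∑ j, (PP 2 j : ℂ) * x j = 0 * x 0 + 189 * x 1 + 301 * x 2 + 2303 * x 3 + 2793 * x 4 ∧
    ∑ j, (PP 3 j : ℂ) * x j = 0 * x 0 + 264 * x 1 + 282 * x 2 + 2394 * x 3 + 2646 * x 4 ∧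
    ∑ j, (PP 4 j : ℂ) * x j = 0 * x 0 + 242 * x 1 + 304 * x 2 + 2352 * x 3 + 2688 * x 4 := by
  refine ⟨?_, ?_, ?_, ?_, ?_⟩
  · rw [sum5]
    show ((0 : ℕ) : ℂ) * x 0 + ((5586 : ℕ) : ℂ) * x 1 + ((0 : ℕ) : ℂ) * x 2 + ((0 : ℕ) : ℂ) * x 3 + ((0 : ℕ) : ℂ) * x 4 = _
    push_cast
    ring
  · rw [sum5]
    show ((1 : ℕ) : ℂ) * x 0 + ((364 : ℕ) : ℂ) * x 1 + ((216 : ℕ) : ℂ) * x 2 + ((2464 : ℕ) : ℂ) * x 3 + ((2541 : ℕ) : ℂ) * x 4 = _
    push_cast
    ring
  · rw [sum5]
    show ((0 : ℕ) : ℂ) * x 0 + ((189 : ℕ) : ℂ) * x 1 + ((301 : ℕ) : ℂ) * x 2 + ((2303 : ℕ) : ℂ) * x 3 + ((2793 : ℕ) : ℂ) * x 4 = _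
    push_cast
    ring
  · rw [sum5]
    show ((0 : ℕ) : ℂ) * x 0 + ((264 : ℕ) : ℂ) * x 1 + ((282 : ℕ) : ℂ) * x 2 + ((2394 : ℕ) : ℂ) * x 3 + ((2646 : ℕ) : ℂ) * x 4 = _
    push_cast
    ring
  · rw [sum5]
    show ((0 : ℕ) : ℂ) * x 0 + ((242 : ℕ) : ℂ) * x 1 + ((304 : ℕ) : ℂ) * x 2 + ((2352 : ℕ) : ℂ) * x 3 + ((2688 : ℕ) : ℂ) * x 4 = _
    push_cast
    ring

/-! ### degree 52668 -/

/-- the eigenvector -/
def vA (i : Fin 5) : ℂ := [(1), (-4/399), (-4/399), (1/931), (1/931)].getD i 0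

theorem vA_eq : vA 0 = (1) ∧ vA 1 = (-4/399) ∧ vA 2 = (-4/399) ∧ vA 3 = (1/931) ∧ vA 4 = (1/931) :=
  ⟨rfl, rfl, rfl, rfl, rfl⟩

theorem exists_52668 :
    ∃ χ : IrrCharacter ON, (χ : ON → ℂ) 1 = (52668 : ℕ) := by
  obtain ⟨e0, e1, e2, e3, e4⟩ := vA_eq
  have key := main vA (-56) (310/133) e0 ?_ ?_ ?_ (by norm_num)
  · obtain ⟨χ, hχ⟩ := key
    refine ⟨χ, ?_⟩
    push_cast
    linear_combination (133/310) * hχ
  · intro i
    obtain ⟨r0, r1, r2, r3, r4⟩ := rows vA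
    fin_cases i
    · show ∑ j, (PP 0 j : ℂ) * vA j = (-56) * vA 0
      rw [r0, e0, e1, e2, e3, e4]
      norm_num
    · show ∑ j, (PP 1 j : ℂ) * vA j = (-56) * vA 1
      rw [r1, e0, e1, e2, e3, e4]
      norm_num
    · show ∑ j, (PP 2 j : ℂ) * vA j = (-56) * vA 2
      rw [r2, e0, e1, e2, e3, e4]
      norm_num
    · show ∑ j, (PP 3 j : ℂ) * vA j = (-56) * vA 3
      rw [r3, e0, e1, e2, e3, e4]
      norm_num
    · show ∑ j, (PP 4 j : ℂ) * vA j = (-56) * vA 4
      rw [r4, e0, e1, e2, e3, e4]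
      norm_num
  · intro x hx
    obtain ⟨r0, r1, r2, r3, r4⟩ := rows x
    have h0 := hx 0
    have h1 := hx 1
    have h2 := hx 2
    have h3 := hx 3
    have h4 := hx 4
    rw [r0] at h0
    rw [r1] at h1
    rw [r2] at h2
    rw [r3] at h3
    rw [r4] at h4
    intro i
    fin_cases i
    · show x 0 = x 0 * vA 0
      rw [e0]
      ring
    · show x 1 = x 0 * vA 1
      rw [e1]
      linear_combination (1/5586) * h0 + (0) * h1 + (0) * h2 + (0) * h3 + (0) * h4
    · show x 2 = x 0 * vA 2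
      rw [e2]
      linear_combination (25/33516) * h0 + (-2/63) * h1 + (-11/882) * h2 + (11/252) * h3 + (0) * h4
    · show x 3 = x 0 * vA 3
      rw [e3]
      linear_combination (709/7116564) * h0 + (-89/13377) * h1 + (-1151/187278) * h2 + (53/4116) * h3 + (0) * h4
    · show x 4 = x 0 * vA 4
      rw [e4]
      linear_combination (-1012/5337423) * h0 + (383/40131) * h1 + (1972/280917) * h2 + (-50/3087) * h3 + (0) * h4
  · rw [sum_ss (fun i => vA i ^ 2), e0, e1, e2, e3, e4]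
    norm_num

/-! ### degree 26752 -/

/-- the eigenvector -/
def vB (i : Fin 5) : ℂ := [(1), (-1/266), (37/2128), (23/7448), (-4/931)].getD i 0

theorem vB_eq : vB 0 = (1) ∧ vB 1 = (-1/266) ∧ vB 2 = (37/2128) ∧ vB 3 = (23/7448) ∧ vB 4 = (-4/931) :=
  ⟨rfl, rfl, rfl, rfl, rfl⟩

theorem exists_26752 :
    ∃ χ : IrrCharacter ON, (χ : ON → ℂ) 1 = (26752 : ℕ) := by
  obtain ⟨e0, e1, e2, e3, e4⟩ := vB_eq
  have key := main vB (-21) (1395/304) e0 ?_ ?_ ?_ (by norm_num)
  · obtain ⟨χ, hχ⟩ := key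
    refine ⟨χ, ?_⟩
    push_cast
    linear_combination (304/1395) * hχ
  · intro i
    obtain ⟨r0, r1, r2, r3, r4⟩ := rows vB
    fin_cases i
    · show ∑ j, (PP 0 j : ℂ) * vB j = (-21) * vB 0
      rw [r0, e0, e1, e2, e3, e4]
      norm_num
    · show ∑ j, (PP 1 j : ℂ) * vB j = (-21) * vB 1
      rw [r1, e0, e1, e2, e3, e4]
      norm_num
    · show ∑ j, (PP 2 j : ℂ) * vB j = (-21) * vB 2
      rw [r2, e0, e1, e2, e3, e4]
      norm_num
    · show ∑ j, (PP 3 j : ℂ) * vB j = (-21) * vB 3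
      rw [r3, e0, e1, e2, e3, e4]
      norm_num
    · show ∑ j, (PP 4 j : ℂ) * vB j = (-21) * vB 4
      rw [r4, e0, e1, e2, e3, e4]
      norm_num
  · intro x hx
    obtain ⟨r0, r1, r2, r3, r4⟩ := rows x
    have h0 := hx 0
    have h1 := hx 1
    have h2 := hx 2
    have h3 := hx 3
    have h4 := hx 4
    rw [r0] at h0
    rw [r1] at h1
    rw [r2] at h2
    rw [r3] at h3
    rw [r4] at h4
    intro i
    fin_cases i
    · show x 0 = x 0 * vB 0
      rw [e0]
      ring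
    · show x 1 = x 0 * vB 1
      rw [e1]
      linear_combination (1/5586) * h0 + (0) * h1 + (0) * h2 + (0) * h3 + (0) * h4
    · show x 2 = x 0 * vB 2
      rw [e2]
      linear_combination (8305/23863392) * h0 + (-211/8544) * h1 + (-869/59808) * h2 + (1001/25632) * h3 + (0) * h4
    · show x 3 = x 0 * vB 3
      rw [e3]
      linear_combination (-2573/83521872) * h0 + (-73/29904) * h1 + (-1151/209328) * h2 + (731/89712) * h3 + (0) * h4
    · show x 4 = x 0 * vB 4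
      rw [e4]
      linear_combination (-1681/62641404) * h0 + (109/22428) * h1 + (1031/156996) * h2 + (-755/67284) * h3 + (0) * h4
  · rw [sum_ss (fun i => vB i ^ 2), e0, e1, e2, e3, e4]
    norm_num

/-! ### degree 32395 -/

/-- the eigenvector -/
def vC (i : Fin 5) : ℂ := [(1), (1/133), (1/133), (-5/931), (3/931)].getD i 0

theorem vC_eq : vC 0 = (1) ∧ vC 1 = (1/133) ∧ vC 2 = (1/133) ∧ vC 3 = (-5/931) ∧ vC 4 = (3/931) :=
  ⟨rfl, rfl, rfl, rfl, rfl⟩

theorem exists_32395 :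
    ∃ χ : IrrCharacter ON, (χ : ON → ℂ) 1 = (32395 : ℕ) := by
  obtain ⟨e0, e1, e2, e3, e4⟩ := vC_eq
  have key := main vC (42) (72/19) e0 ?_ ?_ ?_ (by norm_num)
  · obtain ⟨χ, hχ⟩ := key
    refine ⟨χ, ?_⟩
    push_cast
    linear_combination (19/72) * hχ
  · intro i
    obtain ⟨r0, r1, r2, r3, r4⟩ := rows vC
    fin_cases i
    · show ∑ j, (PP 0 j : ℂ) * vC j = (42) * vC 0
      rw [r0, e0, e1, e2, e3, e4]
      norm_num
    · show ∑ j, (PP 1 j : ℂ) * vC j = (42) * vC 1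
      rw [r1, e0, e1, e2, e3, e4]
      norm_num
    · show ∑ j, (PP 2 j : ℂ) * vC j = (42) * vC 2
      rw [r2, e0, e1, e2, e3, e4]
      norm_num
    · show ∑ j, (PP 3 j : ℂ) * vC j = (42) * vC 3
      rw [r3, e0, e1, e2, e3, e4]
      norm_num
    · show ∑ j, (PP 4 j : ℂ) * vC j = (42) * vC 4
      rw [r4, e0, e1, e2, e3, e4]
      norm_num
  · intro x hx
    obtain ⟨r0, r1, r2, r3, r4⟩ := rows x
    have h0 := hx 0
    have h1 := hx 1
    have h2 := hx 2
    have h3 := hx 3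
    have h4 := hx 4
    rw [r0] at h0
    rw [r1] at h1
    rw [r2] at h2
    rw [r3] at h3
    rw [r4] at h4
    intro i
    fin_cases i
    · show x 0 = x 0 * vC 0
      rw [e0]
      ring
    · show x 1 = x 0 * vC 1
      rw [e1]
      linear_combination (1/5586) * h0 + (0) * h1 + (0) * h2 + (0) * h3 + (0) * h4
    · show x 2 = x 0 * vC 2
      rw [e2]
      linear_combination (-17/276507) * h0 + (-1/99) * h1 + (-8/693) * h2 + (13/594) * h3 + (0) * h4
    · show x 3 = x 0 * vC 3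
      rw [e3]
      linear_combination (-463/6083154) * h0 + (116/53361) * h1 + (-1151/373527) * h2 + (373/320166) * h3 + (0) * h4
    · show x 4 = x 0 * vC 4
      rw [e4]
      linear_combination (3599/63873117) * h0 + (-137/160083) * h1 + (4448/1120581) * h2 + (-1436/480249) * h3 + (0) * h4
  · rw [sum_ss (fun i => vC i ^ 2), e0, e1, e2, e3, e4]
    norm_num

/-! ### degree 10944 -/

/-- the eigenvector -/
def vD (i : Fin 5) : ℂ := [(1), (2/57), (-53/3192), (23/7448), (-4/931)].getD i 0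

theorem vD_eq : vD 0 = (1) ∧ vD 1 = (2/57) ∧ vD 2 = (-53/3192) ∧ vD 3 = (23/7448) ∧ vD 4 = (-4/931) :=
  ⟨rfl, rfl, rfl, rfl, rfl⟩

theorem exists_10944 :
    ∃ χ : IrrCharacter ON, (χ : ON → ℂ) 1 = (10944 : ℕ) := by
  obtain ⟨e0, e1, e2, e3, e4⟩ := vD_eq
  have key := main vD (196) (1705/152) e0 ?_ ?_ ?_ (by norm_num)
  · obtain ⟨χ, hχ⟩ := key
    refine ⟨χ, ?_⟩
    push_cast
    linear_combination (152/1705) * hχ
  · intro i
    obtain ⟨r0, r1, r2, r3, r4⟩ := rows vD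
    fin_cases i
    · show ∑ j, (PP 0 j : ℂ) * vD j = (196) * vD 0
      rw [r0, e0, e1, e2, e3, e4]
      norm_num
    · show ∑ j, (PP 1 j : ℂ) * vD j = (196) * vD 1
      rw [r1, e0, e1, e2, e3, e4]
      norm_num
    · show ∑ j, (PP 2 j : ℂ) * vD j = (196) * vD 2
      rw [r2, e0, e1, e2, e3, e4]
      norm_num
    · show ∑ j, (PP 3 j : ℂ) * vD j = (196) * vD 3
      rw [r3, e0, e1, e2, e3, e4]
      norm_num
    · show ∑ j, (PP 4 j : ℂ) * vD j = (196) * vD 4
      rw [r4, e0, e1, e2, e3, e4]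
      norm_num
  · intro x hx
    obtain ⟨r0, r1, r2, r3, r4⟩ := rows x
    have h0 := hx 0
    have h1 := hx 1
    have h2 := hx 2
    have h3 := hx 3
    have h4 := hx 4
    rw [r0] at h0
    rw [r1] at h1
    rw [r2] at h2
    rw [r3] at h3
    rw [r4] at h4
    intro i
    fin_cases i
    · show x 0 = x 0 * vD 0
      rw [e0]
      ring
    · show x 1 = x 0 * vD 1
      rw [e1]
      linear_combination (1/5586) * h0 + (0) * h1 + (0) * h2 + (0) * h3 + (0) * h4
    · show x 2 = x 0 * vD 2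
      rw [e2]
      linear_combination (-1291/15015168) * h0 + (-1/4032) * h1 + (-289/56448) * h2 + (13/2304) * h3 + (0) * h4
    · show x 3 = x 0 * vD 3
      rw [e3]
      linear_combination (11563/385389312) * h0 + (289/103488) * h1 + (-1151/1448832) * h2 + (-109/59136) * h3 + (0) * h4
    · show x 4 = x 0 * vD 4
      rw [e4]
      linear_combination (-4859/144520992) * h0 + (-89/38808) * h1 + (655/543312) * h2 + (29/22176) * h3 + (0) * h4
  · rw [sum_ss (fun i => vD i ^ 2), e0, e1, e2, e3, e4]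
    norm_num

open Cfsg.Agent.H678.DG in
/-- The degree graph of `ON`. -/
theorem facts_on {S : Type u} [Group S] (h : Cfsg.Spor.IsoON S) : Facts S := by
  obtain ⟨e⟩ := h
  refine Facts.of_equiv e ?_
  refine Facts.of_list (P := [2, 3, 5, 7, 11, 19, 31])
    (D := [52668, 26752, 32395, 10944]) ?_ (by decide)
    (mem_of_card (f := fun _ => 9) ?_ ?_) ?_ (by decide +kernel)
  · intro p hp; fin_cases hp <;> norm_num
  · rw [card_ON]; decide +kernel
  · intro p hp; fin_cases hp <;> norm_num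
  · intro m hm
    simp only [List.mem_cons, List.not_mem_nil, or_false] at hm
    rcases hm with rfl | rfl | rfl | rfl
    · obtain ⟨χ, hχ⟩ := exists_52668
      exact ⟨χ, by rw [Cfsg.Agent.H670.PSing.charDegree_eq_of hχ]⟩
    · obtain ⟨χ, hχ⟩ := exists_26752
      exact ⟨χ, by rw [Cfsg.Agent.H670.PSing.charDegree_eq_of hχ]⟩
    · obtain ⟨χ, hχ⟩ := exists_32395
      exact ⟨χ, by rw [Cfsg.Agent.H670.PSing.charDegree_eq_of hχ]⟩
    · obtain ⟨χ, hχ⟩ := exists_10944
      exact ⟨χ, by rw [Cfsg.Agent.H670.PSing.charDegree_eq_of hχ]⟩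

end Cfsg.Agent.H492.FactsON
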