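import Cfsg.Agent.H492.IMPair_m3
import Cfsg.Agent.H315.Eight.RowJ3
import Cfsg.Agent.Prune
set_option linter.all false
prune_inst 0x7f00000000000000000000000000000000000000000000000000000000000000000000000000000000000000000000000000000000000000000000000000000000000000000000000000000000000000003fffffffffffffffffffffffffffbeffbdffffffff
open scoped Cfsg.Agent.FastGrp

/-!
# Itô-Michler for the third Janko group (helper492)

`im_j3` : for every prime `p` dividing `|J₃|` some irreducible character of `J₃` has degree
divisible by `p`. The degree 3078 of helper417 is divisible by 2, 3 and 19; degrees divisible by 5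
and by 17 exist by linear programming on the same columns of the character table.
-/

set_option autoImplicit false
set_option maxRecDepth 100000

open Cfsg Cfsg.Agent.Characters.Core Cfsg.Agent.H33 Cfsg.Agent.H492.IMTools
open Cfsg.Agent.M23Order.Base
open Cfsg.Agent.H417 Cfsg.Agent.H417.JThreeLP

namespace Cfsg.Agent.H492.IMJ3

universe u

/-- certificate for the prime 5 -/
def y5 : List ℤ := [
  -478061526066570, 177560927172194594750, -130747768482068913785, -246483672223866947370,
  -1190179238694241944385, -21538557727000618725, 819632188496115522530, 0,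
  2827554175549960519680, 34019498805804788115717, -22274280018534566920950,
  251758783857808850024205, -43444195646099160081735, -6871810844948865270570,
  -1060332815831235194880, 2827554175549960519680, 53579863786338772405200,
  128956035366868434148980, 38796632311527658360620, 31649607738353181820104,
  -2474109903606215454720, 2827554175549960519680, -547726891350498340693680,
  2827554175549960519680, 2827554175549960519680, 2827554175549960519680,
  2827554175549960519680, 2827554175549960519680, 2827554175549960519680,
  2827554175549960519680, 2827554175549960519680, 2827554175549960519680,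
  2827554175549960519680, 2827554175549960519680, 2827554175549960519680,
  2827554175549960519680, 2827554175549960519680, 2827554175549960519680,
  2827554175549960519680, 2827554175549960519680, 2263609852448583352320]

/-- certificate for the prime 17 -/
def y17 : List ℤ := [
  6156000, 3965055267, 15848436210, 11217547290, -109745905310, -11217675540, -18735126096,
  48600, 6156000, -128413736775, 2693250, 6156000, 6156000, 6156000, 6156000, 6156000, 6156000,
  6156000, 6156000, 6156000, 6156000, 6156000, 6156000, 6156000, 6156000, 6156000, 6156000,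
  6156000, 6156000, 6156000, 6156000, 6156000, 6156000, 6156000, 6156000, 6156000, 6156000,
  -36410425344000, 6156000, 6156000, 6156000]

section LP

variable {ι : Type*} [Fintype ι] {V : ι → Fin 8 → ℤ}

theorem exists_mod (h : Hyp V) (p : ℤ) (y : List ℤ)
    (hv : (vecs.all fun l => decide (fn l 0 % p = 0) || decide (dot y (feat (fn l)) ≤ 0)) = true)
    (ht : decide (0 < dot y tgt) = true) : ∃ χ, V χ 0 % p = 0 := by
  by_contra hcon
  push Not at hcon
  have h1 := sum_feat h y
  have h2 : ∑ χ, dot y (feat (V χ)) ≤ 0 := by
    refine Finset.sum_nonpos fun χ _ => ?_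
    obtain ⟨l, hl, hχ⟩ := h.mem χ
    have h3 := List.all_eq_true.1 hv l hl
    rw [Bool.or_eq_true, decide_eq_true_iff, decide_eq_true_iff] at h3
    rcases h3 with h3 | h3
    · exact absurd (by rw [hχ]; exact h3) (hcon χ)
    · rw [hχ]; exact h3
  rw [decide_eq_true_iff] at ht
  omega

theorem mod_five (h : Hyp V) : ∃ χ, V χ 0 % 5 = 0 :=
  exists_mod h 5 y5 (by decide +kernel) (by decide +kernel)

theorem mod_seventeen (h : Hyp V) : ∃ χ, V χ 0 % 17 = 0 :=
  exists_mod h 17 y17 (by decide +kernel) (by decide +kernel)

end LP

theorem dg_eq_charDegree {K : Type u} [Group K] (χ : IrrCharacter K) :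
    dg χ = charDegree (χ : K → ℂ) := rfl

theorem im_j3 {S : Type u} [Group S] (h : Spor.IsoJ3 S) {p : ℕ} [hp : Fact p.Prime]
    (hpS : p ∣ Nat.card S) : IM p S := by
  have hcard := (H898.J3Cent.base h).2.1
  have hfin : Finite S := Nat.finite_of_card_ne_zero (by rw [hcard]; norm_num)
  have := finite_irr (G := S)
  let _ := Fintype.ofFinite (IrrCharacter S)
  rw [hcard] at hpS
  have hbig : ∀ q : ℕ, q ∣ 3078 → IM q S := by
    intro q hq
    obtain ⟨χ, hχ⟩ := (JThreeDeg.max_degree h).1
    exact ⟨χ, by rw [← dg_eq_charDegree, hχ]; exact hq⟩
  obtain ⟨V, hdg, hV⟩ := JThreeDeg.hyp h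
  rcases H898.J3Cent.prime_dvd_card hp.out hpS with rfl | rfl | rfl | rfl | rfl
  · exact hbig 2 (by norm_num)
  · exact hbig 3 (by norm_num)
  · obtain ⟨χ, hχ⟩ := mod_five hV
    refine ⟨χ, ?_⟩
    rw [← dg_eq_charDegree]
    have := hdg χ
    omega
  · obtain ⟨χ, hχ⟩ := mod_seventeen hV
    refine ⟨χ, ?_⟩
    rw [← dg_eq_charDegree]
    have := hdg χ
    omega
  · exact hbig 19 (by norm_num)

end Cfsg.Agent.H492.IMJ3
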