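import Cfsg.Agent.H492.IMPair_m3
import Cfsg.Agent.H714.SporRows
import Cfsg.Agent.H514.OrdJ1
import Cfsg.Agent.Prune
set_option linter.all false
prune_inst 0x7f00000000000000000000000000000000000000000000000000000000000000000000000000000000000000000000000000000000000000000000000000000000000000000000000000000000000000003fffffffffffffffffffffffffffbeffbdffffffff
open scoped Cfsg.Agent.FastGrp

/-!
# Itô-Michler for the first Janko group (helper492)

`im_j1` : for every prime `p` dividing `|J₁|` some irreducible character of `J₁` has degree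
divisible by `p`.
-/

set_option autoImplicit false

open Cfsg Cfsg.Agent.H713.Count Cfsg.Agent.H33 Cfsg.Agent.H492.IMTools
open Cfsg.Agent.H713 Cfsg.Agent.H665.NoPQ

namespace Cfsg.Agent.H492.IMJ1

universe u

theorem card_j1 : Nat.card Spor.J1 = 175560 := H714.SporRows.card_j1

theorem finite_j1 : Finite Spor.J1 := Nat.finite_of_card_ne_zero (by rw [card_j1]; norm_num)

theorem ord (n : ℕ) (hn : n ∈ ({1, 2, 3, 5, 6, 7, 10, 11, 15, 19} : Finset ℕ)) :
    ∃ g : Spor.J1, orderOf g = n := (H413.JOneSpec.exists_orderOf_iff n).2 hn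

theorem spec (g : Spor.J1) : orderOf g ∈ ({1, 2, 3, 5, 6, 7, 10, 11, 15, 19} : Finset ℕ) :=
  (H413.JOneSpec.exists_orderOf_iff _).1 ⟨g, rfl⟩

theorem spec_of {P : ℕ → Prop} (h : ∀ n ∈ ({1, 2, 3, 5, 6, 7, 10, 11, 15, 19} : Finset ℕ), P n)
    (g : Spor.J1) : P (orderOf g) := h _ (spec g)

theorem self_cent {p : ℕ} [hp : Fact p.Prime] (hG : (Nat.card Spor.J1).factorization p = 1)
    (h : ∀ n ∈ ({1, 2, 3, 5, 6, 7, 10, 11, 15, 19} : Finset ℕ), p ∣ n → n = p) {x : Spor.J1}
    (hx : orderOf x = p) : Nat.card (Subgroup.centralizer ({x} : Set Spor.J1)) = p := by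
  have := finite_j1
  exact H713.card_centralizer_of_orders hG (fun y hy => h _ (spec y) hy) hx

theorem fact_one {p : ℕ} [Fact p.Prime] (h1 : p ∣ 175560) (h2 : ¬ p * p ∣ 175560) :
    (Nat.card Spor.J1).factorization p = 1 := by
  rw [card_j1]; exact H713.factorization_eq_one h1 h2

theorem fus7 {x : Spor.J1} (hx : orderOf x = 7) :
    Nat.card (Subgroup.centralizer ({x} : Set Spor.J1)) = 7 ∧
      haveI : Fact (Nat.Prime 7) := ⟨by norm_num⟩
      (fus (p := 7) x).card = 6 := by
  have : Fact (Nat.Prime 7) := ⟨by norm_num⟩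
  have := finite_j1
  have hG := fact_one (p := 7) (by norm_num) (by norm_num)
  have hc := self_cent hG (by decide) hx
  refine ⟨hc, (card_fus_eq hG hx (c := 1) (by rw [hc]) (e := 6) ?_).1⟩
  rw [card_j1]
  decide

theorem two : IM 2 Spor.J1 := by
  have : Fact (Nat.Prime 7) := ⟨by norm_num⟩
  have := finite_j1
  obtain ⟨x, hx⟩ := ord 7 (by decide)
  obtain ⟨hc, hf⟩ := fus7 hx
  have hxp : x ^ 7 = 1 := orderOf_dvd_iff_pow_eq_one.1 (dvd_of_eq hx)
  refine IM_two_of_real (x := x) ?_ (isConj_inv_of_even (p := 7) hxp ?_) ?_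
  · rintro rfl; rw [orderOf_one] at hx; omega
  · rw [hf]; decide
  · rw [hc]; decide

theorem seven : IM 7 Spor.J1 := by
  have : Fact (Nat.Prime 7) := ⟨by norm_num⟩
  have := finite_j1
  obtain ⟨x, hx⟩ := ord 7 (by decide)
  obtain ⟨hc, -⟩ := fus7 hx
  refine IM_of_hasDZ (hasDZ_of_orders (fact_one (by norm_num) (by norm_num)) hx hc
    {1, 2, 3, 5, 6, 10, 11, 15, 19} (fun n hn => ⟨?_, ord n ?_⟩) ?_) (by rw [card_j1]; norm_num)
  · revert n; decide
  · revert n; decide
  · rw [card_j1]; decide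

theorem nineteen : IM 19 Spor.J1 := by
  have : Fact (Nat.Prime 19) := ⟨by norm_num⟩
  have := finite_j1
  exact IM_of_hasDZ H714.SporRows.hasDZ_nineteen (by rw [card_j1]; norm_num)

theorem sing19 {y : Spor.J1} (hy : orderOf y = 19) :
    haveI : Fact (Nat.Prime 19) := ⟨by norm_num⟩
    (sing 19 y).card = 3 := by
  have : Fact (Nat.Prime 19) := ⟨by norm_num⟩
  have := finite_j1
  have hG := fact_one (p := 19) (by norm_num) (by norm_num)
  have hc := self_cent hG (by decide) hy
  have h := (card_fus_eq hG hy (c := 1) (by rw [hc]) (e := 6) (by rw [card_j1]; decide)).2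
  show (sing 19 y).card = 3
  omega

theorem eleven : IM 11 Spor.J1 := by
  have : Fact (Nat.Prime 11) := ⟨by norm_num⟩
  have : Fact (Nat.Prime 19) := ⟨by norm_num⟩
  have := finite_j1
  obtain ⟨x, hx⟩ := ord 11 (by decide)
  obtain ⟨y, hy⟩ := ord 19 (by decide)
  have hG := fact_one (p := 11) (by norm_num) (by norm_num)
  have hc := self_cent hG (by decide) hx
  obtain ⟨h1, h2⟩ := card_fus_eq hG hx (c := 1) (by rw [hc]) (e := 10) (by rw [card_j1]; decide)
  have h3 := card_classes_ge hy {1, 2, 3, 5, 6, 7, 10, 11, 15} (fun n hn => ⟨?_, ord n ?_⟩)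
  · rw [sing19 hy] at h3
    have h5 : ({1, 2, 3, 5, 6, 7, 10, 11, 15} : Finset ℕ).card = 9 := by decide
    rw [h5] at h3
    refine IM_of_hasDZ (hasDZ_of_card_classes hG hx (c := 1) (by rw [hc]) ?_)
      (by rw [card_j1]; norm_num)
    rw [h1]
    omega
  · revert n; decide
  · revert n; decide

theorem three : IM 3 Spor.J1 := by
  have : Fact (Nat.Prime 3) := ⟨by norm_num⟩
  have : Fact (Nat.Prime 19) := ⟨by norm_num⟩
  have := finite_j1
  obtain ⟨x, hx⟩ := ord 3 (by decide)
  obtain ⟨y, hy⟩ := ord 19 (by decide)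
  have hG := fact_one (p := 3) (by norm_num) (by norm_num)
  have hc := H514.OC.J1.card_cent_three hx
  obtain ⟨h1, -⟩ := card_fus_eq hG hx (c := 10) (by rw [hc]) (e := 2) (by rw [card_j1]; decide)
  have h2 := numCls_le_dihedral hx (q := 5) (by norm_num) (by norm_num) (by norm_num) (by norm_num)
    (by rw [hc]) (spec_of (P := fun n => n ≠ 3 * (2 * 5)) (by decide))
  refine IM_of_orders_sing hG hx (e := 2) (m := 4) (by rw [h1]) (by omega) (r := 19) (by norm_num) hy
    {1, 2, 5, 7, 10, 11} (fun n hn => ⟨?_, ?_, ord n ?_⟩) ?_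
  · revert n; decide
  · revert n; decide
  · revert n; decide
  · rw [sing19 hy]; decide

theorem five : IM 5 Spor.J1 := by
  have : Fact (Nat.Prime 5) := ⟨by norm_num⟩
  have := finite_j1
  obtain ⟨x, hx⟩ := ord 5 (by decide)
  have hG := fact_one (p := 5) (by norm_num) (by norm_num)
  have hc := H514.OC.J1.card_cent_five hx
  obtain ⟨h1, -⟩ := card_fus_eq hG hx (c := 6) (by rw [hc]) (e := 2) (by rw [card_j1]; decide)
  have h2 := numCls_le_dihedral hx (q := 3) (by norm_num) (by norm_num) (by norm_num) (by norm_num)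
    (by rw [hc]) (spec_of (P := fun n => n ≠ 5 * (2 * 3)) (by decide))
  refine IM_of_orders_elt hG hx (e := 2) (m := 3) (by rw [h1]) (by omega)
    {1, 2, 3, 6, 7, 11, 19} (fun n hn => ⟨?_, ord n ?_⟩) ?_
  · revert n; decide
  · revert n; decide
  · decide

theorem im_j1 {S : Type u} [Group S] (h : Spor.IsoJ1 S) {p : ℕ} [hp : Fact p.Prime]
    (hpS : p ∣ Nat.card S) : IM p S := by
  obtain ⟨e⟩ := h
  rw [Nat.card_congr e.toEquiv, card_j1] at hpS
  refine IM.of_equiv e ?_
  rcases H514.OC.J1.prime_cases hp.out hpS with rfl | rfl | rfl | rfl | rfl | rfl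
  · exact two
  · exact three
  · exact five
  · exact seven
  · exact eleven
  · exact nineteen

end Cfsg.Agent.H492.IMJ1
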