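import Cfsg.Agent.H492.FactsTh
import Cfsg.Agent.H492.SphVal
import Cfsg.Agent.Th.Main1700
import Cfsg.Agent.FastGrp
import Cfsg.Agent.Prune
set_option linter.all false

section
prune_inst 0x7ffffffbffefffffffff7e3fffdffffff7eceffffffffbcbffebebbfffbf7fb7ffcdffaf9febfaffdfffe29430f87bd3fffffffffc6ffc7ffffdfff45ffbffcfffffbda951969c341fbe6ffff3fb77ae7f3fffffffffffffffffffffffffffffffffffffffff

-- part: H492/ThLineData
section
prune_inst 0x400100000000001c00020000008131000000000300014144000408048003200106014050020001d6b0e07840c00000000039001000002000b2004003000004256ae6963cbe04190000c04885180c00000000000000000000000000000000000000000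
set_option linter.all false
open scoped Cfsg.Agent.FastGrp

/-- decoders of the packed data (elaboration time only) -/
private noncomputable def pk61d (b S i : Nat) : Nat := Nat.mod (Nat.shiftRight S (Nat.mul b i)) (Nat.shiftLeft (nat_lit 1) b)
private noncomputable def pk61f {α : Type} (t : Nat) (f : Nat → α) : α := Nat.rec (f Nat.zero) (fun k _ => f (Nat.succ k)) t
private noncomputable def pk61l {α : Type} (f : Nat → α) (s e : Nat) (tl : List α) : List α :=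
  pk61f e fun e => Nat.rec tl (fun k ih => List.cons (pk61f (Nat.sub e (Nat.succ k)) f) ih) (Nat.sub e s)
private noncomputable def lq26ecf6dcd275 {T : Sort _} (f :
    (type_of% @_root_.List.cons.{0}) →
    ((List Nat) → (List Nat)) →
    (type_of% @_root_.List.nil.{0}) →
    ((List (List Nat)) → (List (List Nat))) →
    (type_of% @_root_.Matrix.vecCons.{0}) →
    (type_of% @_root_.Matrix.vecEmpty.{0}) → T) : T :=
  f (@_root_.List.cons.{0}) (fun x => x) (@_root_.List.nil.{0}) (fun x => x) (@_root_.Matrix.vecCons.{0}) (@_root_.Matrix.vecEmpty.{0})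

/-!
# The lines of the geometry of the Thompson group: data (helper492)

* `kap` : for the 13 orbits of `3D4(2):3` on the lines (cosets of `C = 2^(1+8).A9`), the labels of the 120 points
  of the line; `KP_gl`, `KP_st` : they are compatible with the certificate;
* `OT`, `OW` : the 56 points of the base line in the orbit of length 45864, and words;
* `LQ` : for each flag the labels of its 56 neighbours;
* `TT` : the intersection matrix of the orbital of length 45864.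
-/

set_option autoImplicit false
set_option maxRecDepth 100000
set_option linter.style.longLine false

namespace Cfsg.Agent.H492.ThLineData

open Cfsg.Agent.Th.Word Cfsg.Agent.Th.KOracle Cfsg.Agent.Th.COracleDef Cfsg.Agent.Th.FactData
open Cfsg.Agent.Th.FlagData Cfsg.Agent.Th.FlagCover Cfsg.Agent.Th.CoverData
open Cfsg.Agent.Th.PathCover (unl)
open Cfsg.Agent.H492.ThOrb

/-- `tr act (iw w)` -/
def tri (act : ℕ → ℕ → ℕ) (w : List ℕ) (q : ℕ) : ℕ := List.rec q (fun x _ ih => act (invL x) ih) w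

theorem tri_eq (act : ℕ → ℕ → ℕ) (w : List ℕ) (q : ℕ) : tri act w q = tr act (iw w) q := by
  induction w with
  | nil => rfl
  | cons x w ih =>
    rw [iw_cons, tr_append]
    show act (invL x) (tri act w q) = _
    rw [ih]
    rfl

/-- the labels of the points of the lines -/
def kap : List (List ℕ) :=
  (by
  refine (?fq9001 : ((pk61l (fun i1 => (pk61l (fun i2 => (pk61d (nat_lit 4) 
    (nat_lit 0x99999a699999696699699a799796998a6899898989899969979899899999687799779a997988998999999999996996999999969999999999999999999998999a9a79799999aa998969988989999989999939899979999969999899999999889999969939999999999999999a9999969999a999899a77999499989a9999999999a999994999998789989999999a9997a699a9999a9689979949898999a49999a899699999999996999999969999999999999a899699a9a9a9999a99999999939999999999999a999949999389999999989939998989989999989899999999999999aa993999989a99a93a99a39a899894a99999999897969989969999669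976a999a9769698699999889969a999997999999896698a99999998a993988696999966998999999977699899999396969999399399996999999999999999999999999999999999999999999999999999999999999999999996999969996999999699969999999999996569969969666699666999699999996699969996999699996999996999999966999969696966996699999999669699669996999999699999999999996596689999a99a9a66899999999999999999969999999999998999989989989999999999999999999999a99699999a9999999a997999999a8aa884477497799899a99a9a778999a99aa889989889979a99888898999988988888998888989999a988999a899aa9a799aa9aa9a99aaaa979aa9a9a9aa99147719999999599999955999599999966669969999999969969999999999999999999999969999999999999999999999999559999999995599333333999339998999aa9a99a998aaa748aa499999889a94789989989988949884988488898988989a89989a98997aaa9aa33997aa9aa99737997333a9aa9944271333133332332323313333333333333333333333333333333133331331331333333333333333333333323333333323333333233233333321221111221222121222222222212222112211111111122121211111111111111111111111111111121111122111222222222222222222222222222222222211220)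 i2)) (Nat.mul (nat_lit 120) i1) (Nat.mul (nat_lit 120) (Nat.succ i1)) List.nil)) (nat_lit 0) (nat_lit 13) List.nil) : List (List ℕ))
    = ?xq9001 → (List (List ℕ))) ?hq9001; (case hq9001 => (set_option maxRecDepth 1000000 in set_option simprocs false in conv => lhs; reduce; dsimp only)); intro _; exact ?xq9001 : List (List ℕ))

/-- the label of the point `q` of the line `j` -/
def KP (j q : ℕ) : ℕ := (kap.getD j []).getD q 0

/-- the 56 points -/
def OT : List ℕ :=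
  (by
  refine (?fq9002 : ((pk61l (fun i1 => (pk61d (nat_lit 7) 
    (nat_lit 0xe9cb3e2c37aedcb76acd8af5a9d19f3a6cc972a4c88f1a2c4870a0c07ef9ebc76e9cb86ed9ab466c982f5cb5629509c203) i1)) (nat_lit 0) (nat_lit 56) List.nil) : List ℕ)
    = ?xq9002 → (List ℕ)) ?hq9002; (case hq9002 => (set_option maxRecDepth 1000000 in set_option simprocs false in conv => lhs; reduce; dsimp only)); intro _; exact ?xq9002 : List ℕ)

/-- words for the 56 points -/
noncomputable def OW : List (List ℕ) :=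
  (by
  refine (?fq9003 : ((pk61l (fun i1 => ((fun g1 : Nat → Nat => pk61l (fun i2 => (pk61d (nat_lit 4) 
    (nat_lit 0xb47b4b4577bb47b45b47578bb4759bb477bb477b7b457b6b475b6b47b79b478b7b475b4b457b79b45b659b4757bb475bb45b78b45b68b45b77b45b7b47b6b4b75b47b46b4758bb4756bb475b7b478bb457b45b47b69b478b6b47bb4b65b4b657b477b6b4577b6b478b4b457b78b45b66b457bb457b7b45b65b45b6b4b66b4b78b4b68b4b77b4b6b47b7b47b77b457b4b457b46b47b66b45b75b4b7b45bb4b) i2)) (g1 i1) (g1 (Nat.succ i1)) List.nil) fun j => (pk61d (nat_lit 9) 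
    (nat_lit 0x13d9c4ca59258fc6a290e84409f8f677ba1c4dd6bb4596c660af16cb0552913e984923110833e9dce06a31974b0522611c843d1c0cc5e2a120782e110581c0600) j))) (nat_lit 0) (nat_lit 56) List.nil) : List (List ℕ))
    = ?xq9003 → (List (List ℕ))) ?hq9003; (case hq9003 => (set_option maxRecDepth 1000000 in set_option simprocs false in conv => lhs; reduce; dsimp only)); intro _; exact ?xq9003 : List (List ℕ))

/-- the word of `t` -/
def tw : List ℕ := [11, 4, 11]

/-- the labels of the neighbours of the flags -/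
noncomputable def LQ : List (List ℕ) :=
  let y0 : List (List ℕ) := (by
  refine (?fq9004 : (pk61l (fun i0 => (pk61l (fun i1 => (Nat.add (nat_lit 6) (pk61d (nat_lit 3) 
    (nat_lit 0x6db2db6186c36db6db6c36db6db6c169b6d37196d26d96db0d46c37132db6ca6db6836db4d86dc4d86db6db69b6986db69065b4094db6dc6d96db6cb6db6db2db69961b6db6926db0db4e12db6236db61b6db4db6db6d94c06d941b6cb6d260341b4db6db61b65b71969b6db69b6496830db6d969a6db6db6db0e36cb6d30ca0db6436c46c045a69b6db6db65b6d869b6dc6c271b4da6db8c36d86c321b4db69a6d86cb6e26db65b6db6da6db2d30db6d36d061a4da69b6db69a6db8db6c30db21860b6d32dc6e369301b6db69b6db4c86d371b6d34db69b4db6586c20d96db6e36d865b4db7186db65b71369a65b0db6da71b6db6c05036db6d30cb61b6d36db6834906c24db6c361c6cb61b6db69a4db65b71b6db6da6136d87186d361b68b6c46dc09a6db6d96da6980036c30d92c36da6db6d368b6da6db8c46d96da2d96db0d921b6db0db6936d36da4036db2c3) i1))) (Nat.mul (nat_lit 56) i0) (Nat.mul (nat_lit 56) (Nat.succ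 i0)) List.nil)) (nat_lit 0) (nat_lit 16) List.nil : List (List ℕ))
    = ?xq9004 → (List (List ℕ))) ?hq9004; (case hq9004 => (set_option maxRecDepth 1000000 in set_option simprocs false in conv => lhs; reduce; dsimp only)); intro _; exact ?xq9004 : List (List ℕ))
  let y1 : List (List ℕ) := (by
  refine (?fq9005 : (fun tl : List (List ℕ) => pk61l (fun i0 => (pk61l (fun i1 => (Nat.add (nat_lit 3) (pk61d (nat_lit 3) 
    (nat_lit 0xdb6d76db6daed36cf6db66f46f6daefb69b6daedb6cdedb5774db6db6db6d76db6fae8f4db5db399e766de3db6df6faedb6db67b6db3736da4db4db4cf6bbbdb39b6db6faed76cf6db66f3d26da79bcdb69b6db6fbd9b6cf6db67b6db5db3daed5edb67b67b6db4db6d5edb3daecf6da67b69b6db68f6db3cdedf6db67adaeecf6db6d9edb6db6db69b3db3fb6d36dbecf6daddb5db6d9ed36db6df6cdedaedb6db6d5ececdb69b6db5b76dbddde9a6db6d5edb6db6cf6daedb6d26cf6d34d26db67b5d36db7df6df6bb6db6da67b3d9e8f6db4db4db3b76bae7b6cf5d76cdebb6d9edb6bb5daedb6db5d77cf69f69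747a6cee7b6daedb6db6db6d769be7b6db6d9edb6db6bb6d73bb5cf37b6db6db6dbcdb6db6d9edb6db6dbedb6bb47b3bb695eceeef6db6db3d9ed9bd76d9e7b6d34db3db6d74daed9dd36db6df7933daf76dbaed9ed35daedb6764da4df4d6ddb6bb7db6db5db6bb6da6fb6d75db6bb6db6dbe7bedb7d76daedb6b86db4db6bb6fb6d37d36d9edacc31db6db6c36dbe7b6fb4f76db6d9edb6be9df6b76d9edb6dbed76db6db47b6db6db7d76daed36d76db0bbfbb6db6db5daedb5f36db7db6b37daedb6db6db61b7cf5dfedb5cf6c1edb6bf6d66bb6d9edb6db61a6d77db1d76d76db6db4da6db6d76dbedb0deedb5d85d1fdb6fb6db67b7db6db6fb61f6db6d75db5b35bb6db69b6dbedb5db61b6df3db6d7edb6db61f6db5d766fcd75) i1))) (Nat.mul (nat_lit 56) i0) (Nat.mul (nat_lit 56) (Nat.succ i0)) List.nil)) (nat_lit 0) (nat_lit 25) tl)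
    = ?xq9005 → (List (List ℕ))) ?hq9005; (case hq9005 => (set_option maxRecDepth 1000000 in set_option simprocs false in conv => lhs; reduce; dsimp only)); intro _; exact ?xq9005 y0 : List (List ℕ))
  let y2 : List (List ℕ) := (by
  refine (?fq9006 : (fun tl : List (List ℕ) => pk61l (fun i0 => (pk61l (fun i1 => (Nat.add (nat_lit 3) (pk61d (nat_lit 3) 
    (nat_lit 0xdb5daebb5da6db5dfedb6db7db6735db6db6db7db01b6db6db6daedb6d70fb5faedbed7699cdb6db5db4b36bf5d36fb6db6db0db6df6bb6db3db6b76db6dbedb7db6d9ebb6db6b86bb6dbebb3db4db6db6df6db6db6fb4c3e776db6fb5db6d76fb3bb6deedb67b6c76db6daedbddbbc76db5db7d7e9b6d36db6db6db6bb6db6db6db67b4d73bb69aec35db3d76db4da5db6df7db6cf7db6d7edb69b6db6d749aed9edaedf6bb6bb3db6daedf6bb6d36db6db5db7db6bf5df6db4bb31b6db6db6fbe1b6db6dad7b7db59b77b6d869b6d5dc76fb6db69b6bb57aedb7db5daecdedb6da6db6db5fb4d84db6db6d76db6db4db6dbdd30db62f6db5d9edb6db6db6db6fb6daefc6db6db6db6d76dae776db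69b3da7db6db6a76db7db07b69b6dafdb6daebb6ba6db6a36db6cf6d9ec36df3c76db6f2fdf6db6db4d76d75dbebf1d2efb6da6d86db6db6bb5cf6db6bb6db6da6db6db6dbedb69b3f76db6db6db63f6db6b6ed3ed76db6db4df5db6db5da67cefb6bb6db5db7db6db6daed367f6befd6dd36db6d19df4db5dbebf6bafdaeda5d5ddb6db5da6fb6db6db7db67b6df5db3d75da4db678ef36cf6db57b6d6ed36db6da5da6dbedaedb6db6de7db6db6d763aedb6da3d761b6db7db6da6bb6bb6bb6bb51b6f34da6db6f73db6db61aef76db6db6db6db69b6d66c36d77daeb76db3d34db6fb67b3d76db6db5d36bb6fb6db6db6daedb6df5da6d9ec6e9b6c3e) i1))) (Nat.mul (nat_lit 56) i0) (Nat.mul (nat_lit 56) (Nat.succ i0)) List.nil)) (nat_lit 0) (nat_lit 25) tl)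
    = ?xq9006 → (List (List ℕ))) ?hq9006; (case hq9006 => (set_option maxRecDepth 1000000 in set_option simprocs false in conv => lhs; reduce; dsimp only)); intro _; exact ?xq9006 y1 : List (List ℕ))
  let y3 : List (List ℕ) := (by
  refine (?fq9007 : (fun tl : List (List ℕ) => pk61l (fun i0 => (pk61l (fun i1 => (Nat.add (nat_lit 3) (pk61d (nat_lit 3) 
    (nat_lit 0xfb6c76d7bdb6976db6d76bbe9b6db6d86db59b6db61b6da6d76bb59f6d77da6d8edb67b6db6db6dbed76db6dbed76d36db6bb6d9fdb6db69b4fbefa6fb6cf6db6db6db6d76db4d36d75db6db66367b6db1db6ff6db6db6db6db6db6db6df7bb5db6b36ba6db6db6db6db69dece6db6dbfd75db6fb6dbedb6936db6fb6db6db6d36d86dbedbecf6d75db6cf6db5db6df6d76db6db3db6db6c36db6db6db6d76db5d37dbedb6ddedadd86db6db6db6d5fdbedb6d76db5db6db6bb68f6df6db6fb67b6daebb6d769addaddb6a76db6db6d9edae1b67b6db6d76db6db4c7ddb6d26db6db6d9ddb61b6d6dd6edb5c36db5db6daedb6db6db6db6fb1df6daedb6cf6db6d76db6db6d75df6db4db0db6cf1db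6da77b6db6db6af6db6d76d36dae376bb5db6bb6bbedae9bedb6db6af6d76bb6cf6736db7db6db6b9edb6db69b6db6db6df6d9edb4f06df3da6d75db6db6db6f37db6db6db6db3db4daedbebb6dbbbb6db6c36bb6df6db5db6db6db6d86db6d347aedb6c2fdb67b6d0edb6d6edaedb6db6db6f76db5db6da6bb17b6daed9ddaedb5db6bb3daedb6baddb3db6dbdd86db666edae7bec36b85daedb6db5bb6db6b36b76d76db67a5cf6db6db5d5edb6faedb69b6db6dabdb6db6d36dbedb66f6dfeba6136faed26db6fb6d36db6db6db3db6db67bedb6dbefb4db6df4fb7da6daedb6db6d9ddb6ce6fb6fbedb6cf6db6db5d70f86db3fb6db6db679edb6b76) i1))) (Nat.mul (nat_lit 56) i0) (Nat.mul (nat_lit 56) (Nat.succ i0)) List.nil)) (nat_lit 0) (nat_lit 25) tl)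
    = ?xq9007 → (List (List ℕ))) ?hq9007; (case hq9007 => (set_option maxRecDepth 1000000 in set_option simprocs false in conv => lhs; reduce; dsimp only)); intro _; exact ?xq9007 y2 : List (List ℕ))
  let y4 : List (List ℕ) := (by
  refine (?fq9008 : (fun tl : List (List ℕ) => pk61l (fun i0 => (pk61l (fun i1 => (Nat.add (nat_lit 3) (pk61d (nat_lit 3) 
    (nat_lit 0xdb6db6b76db6d76df6da6db6da6db6db6bb6db6fb6df61b6db6da6cf5d3fdb6db7d8efb6db67e61b7db6bf6dfed36fb6d3ed9e9b6db6db5db6cf6db6db7da6db6db6db6db6db6defdb6bb6df6bb6c36d86bb6fb6bb6bb5baedaed86bb69b6d9edb5db6db6b76d98da67bedb5db6ceedb6b9dd767b5db6db6db6d76e76d713b6d26db6db6d3edb6fb6ccddb3baedb6db6db6e76d1edbedb7cf6ef6db7da63f7db67b6db6bb6db7da6db6dbe9b37b5fb4db6d7bdb3fb6fb7db6db6fb6dbedb6d9ddb6db6df6d5fef6db6db5db3db5d75de4db6dbedf6df5fb6afedb6daedb5b363b6db6db6db6d9e7b69b7db6d5ebb6fb6df6c6edb6bb6db6df6bb6db7bb6bb6df5fb6db67f6d76da6d36cded8ed767b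6da6db6d2ed36db62f6db6d8ddb6df6bbedf6db7db5d9edb6db6db6db6db7d8edbebb6dbebb6db6db63b6df6db69b6db6db6dbed8edb6bb6db6bb6db6df3bb7d9ed8dccedb6dbed757f6d9edb7fb6f9edb6df6daedb6d8fdb6fb6db5dae9b7db1db6db3d76db6db6d9dfb4cf1db6db6db6bb7db7db6daedf6db6db5db6db6d1edb6db6b76db6d76df6da6db6da6db6db6bb6db6fb6db6db6b76cf39b6db6db6df6db7d76d8fdb6db6db6bb6ff6db6d763b7db6db6d6edf6b9f9b6db67b6db6db6db6db6db6db3d77cdedb7d36db6973daedb6bb6db6db3db67b6db6db1d8edf3d6fdb6db6d9edb6dbfd76d36d9ed9edbed8d7b6fb6dbedb6fb3d8edb5e76) i1))) (Nat.mul (nat_lit 56) i0) (Nat.mul (nat_lit 56) (Nat.succ i0)) List.nil)) (nat_lit 0) (nat_lit 25) tl)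
    = ?xq9008 → (List (List ℕ))) ?hq9008; (case hq9008 => (set_option maxRecDepth 1000000 in set_option simprocs false in conv => lhs; reduce; dsimp only)); intro _; exact ?xq9008 y3 : List (List ℕ))
  let y5 : List (List ℕ) := (by
  refine (?fq9009 : (fun tl : List (List ℕ) => pk61l (fun i0 => (pk61l (fun i1 => (Nat.add (nat_lit 3) (pk61d (nat_lit 3) 
    (nat_lit 0xdb5daebb6676db3d353b6db6db6db6bced9edae7b5d76d76d767b6db6fb6af7d76daedaed89db6cf6d5edf6db6db6dbe7b5dffd9edb4dae99edb6dfedb7cf6dfedf56f6fb6db6db6fb6daddb6d76d77db6d76db6c76ddedb3db6dbcdb5daedb6db63b6fb6daefb59b6bfe3b6b2ed76df6d3bdbedb7ceed363aebb73b7bbddb6e36db6faeb76daedb0db5dfedb71bedb6daed86db6df51b6df6dbeb4edaedf6bb6db6fbec36d86db6fb6db6c77bbedaedb7dbe236fb6db6bb5db6db61b6db6db6c37176df6fb6db61b6faedf63b5daedb6d7edb6daeb86b86d86dbedf6db6db6bf6bf6bb7df0db6bc6df5bb6fb6dfedb61b6db6bb1db6db6db6db7db1db6db6db5db5c4edaed80db6db6db6db6b76bb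6db6df63b6db6c3edaedf7dbebb6db6db6b761b6bb61f6fb6db6db7db6fb6daebb6bbedb5dbebb6daedb6dbedb6dbed76db5db7fb7dbedaed86d881b5bb6db6fb6db7d81d76bb5e37db7dbe1b0db61ae1b63b6db6fb6daedb6db7db6db6f77db5df61b6db6bf13b0df6db6db6d8ebb6b76db6dbedf6fb7c36df51f6bb6db6d86f76d77fb63b6d6edb6db6db6fb7db6db0db0db5d87bb6db6db5db6db6dbedb6e6ebb6c30fb7dbedbeda8fb6c36d86df6db1d76feedb6d45db6dbedb6df6daed76d76daedaedb61b6db6db5d86db6a76daedb6db0db6daebb5db6d76bf6db6dbedfedb6db7db6daedf6bb6db6c36db0db7df6bbfd76df6d86dae1b7d76db5) i1))) (Nat.mul (nat_lit 56) i0) (Nat.mul (nat_lit 56) (Nat.succ i0)) List.nil)) (nat_lit 0) (nat_lit 25) tl)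
    = ?xq9009 → (List (List ℕ))) ?hq9009; (case hq9009 => (set_option maxRecDepth 1000000 in set_option simprocs false in conv => lhs; reduce; dsimp only)); intro _; exact ?xq9009 y4 : List (List ℕ))
  let y6 : List (List ℕ) := (by
  refine (?fq9010 : (fun tl : List (List ℕ) => pk61l (fun i0 => (pk61l (fun i1 => (Nat.add (nat_lit 3) (pk61d (nat_lit 3) 
    (nat_lit 0xfb6db6db71b6db6d8edb6bfefb6db6bb1daeda8dbedb7db6db6db6fb7db7db6dbedf6db6db7db6db6df6fbedb6db6036db7df6fb6db6fb6db6db0db6db6ff0db6db6ff0db6dbedf6df7db61b6db6d861f6db6fb6baddb6db5db5db6db0d86c2ec00db6db6db6db6d89db0db6db6db63b6c2edb6db5d86daebb5db6baedb69b676ed9edb3d76d1edb3a269b3db6bb6d36daed33db6dc4b9ed5ebb6db6debfb3d366e6db67abdb5cdedb6736baefb6bb6db692e7b6db5d7e79edb6db6df3ceedb3d837f6db6cded2ed1eb76d75cf6db3db6f1fdb6db6db3db37b4d1edb6db6db61f70fbdb6df6936736b85cf6db5ff61b6cfed33d769b6b9e6f6db6db5cfedb7bb5d76bb6de67b6f76706db6daed9ed9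ecf3bb66f61b5db3bb6dbbfb69abdb4dae9b3dbedb6daefb37b6fb4ae6ceedb6afebb7d70d9edb5db3db6db6cf6daeda6dbcd9efbed9e95edb0daddaedb6cf67aeaf6bb6d2ed76d06de37bbdb67b6db6babdb6db6dbebb67e6deedb6cf6bb6fb6cdedb57b6db3b46db4da6bb6db8db0daedbeaeb773db6d36db4fb6db6cf67638f5d9edb6dfecf5db6d9bbf7d5edb5db5c1edb4db679e7767b5bad1b6bb3db6bb6db6bb6d9ecf6db6cdecded76b767aedb6d76d9bcf6db67b5db6198d5eb9e99efaecf6cf57a8f9ebb5db7db67bedb3dac7b6db0db6db6b76b76db6bb3db37b6db6d9ddb6db5d76db68f67b6db6d86d86db39add36d5ed75db6db5db6934) i1))) (Nat.mul (nat_lit 56) i0) (Nat.mul (nat_lit 56) (Nat.succ i0)) List.nil)) (nat_lit 0) (nat_lit 25) tl)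
    = ?xq9010 → (List (List ℕ))) ?hq9010; (case hq9010 => (set_option maxRecDepth 1000000 in set_option simprocs false in conv => lhs; reduce; dsimp only)); intro _; exact ?xq9010 y5 : List (List ℕ))
  let y7 : List (List ℕ) := (by
  refine (?fq9011 : (fun tl : List (List ℕ) => pk61l (fun i0 => (pk61l (fun i1 => (Nat.add (nat_lit 3) (pk61d (nat_lit 3) 
    (nat_lit 0xbb6d9bbb5db6da3da6fb3fb3db6deddb3af67b76f6d1efb3db77aedaedb6db5daecf6d9bdbcdb4d6b79eda3d35cecd76d366dece6cebcf6d9cdb3cdedb6d5dcf7cf6dabbb5d36db7db5cf4ceed9ecf6df4bb3db3db6cf6f367868f3db6cf6d9ed9edb7db7db67367a7db6cffdb6db6da6cf6da6db6da37f6cfed1ecf67b6daecf68feda6d5edb6b767bedb69b6db5cf5fb6db6db6d9ed9edb6db6cf3db67b6db6db6cdedb6db61b6db6db6db6cf6db6d9ed9edb6db6cd67b6db6d9e7b61b6db6db6db6db67b6c36db6db6db6cdedb6db6cf6db6db6db6db6db6d9edb21b6d9edb6cf6db66367b61b6db6db3db6db6db6db6cf6db6cb6db6db67b619bdb6d9edb6db3db6db6db0db6db3d96db3db6db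6db6db6db3db6db67b6db6db6db6cf6db6c167b6db6db6db6db6db6db6db0db6cdedb6db6db6cf2db6db67b67b2db67b6db6db6db6db6c36db6db6db6db67b3db6db3db6db6d9edb61b6db6db6db6db6cf6db6db6db6db6cf6db6db6db6db6db6db6db6db6db3db6db6796db6db6db6db67b6db6db6db6d9edb6cf6db2db6db6db6db6db6db6db6db6db6db6cf6db619edb6d9edb6db6db6db6db6cf6d9bd9edb6db6d9edb6db6db3d83db6db3db67b6db6cf6db6db6db679edb6db3db6db6d9edb6db67b3db6db67b61b6db67b6cf6db6db3db6db67b6d9edb6db3db6db0db6db6c36db6db6db67b6db6db0db6db6db6db6db6db3cf6db6db6db6db6db3) i1))) (Nat.mul (nat_lit 56) i0) (Nat.mul (nat_lit 56) (Nat.succ i0)) List.nil)) (nat_lit 0) (nat_lit 25) tl)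
    = ?xq9011 → (List (List ℕ))) ?hq9011; (case hq9011 => (set_option maxRecDepth 1000000 in set_option simprocs false in conv => lhs; reduce; dsimp only)); intro _; exact ?xq9011 y6 : List (List ℕ))
  let y8 : List (List ℕ) := (by
  refine (?fq9012 : (fun tl : List (List ℕ) => pk61l (fun i0 => (pk61l (fun i1 => (pk61d (nat_lit 4) 
    (nat_lit 0x99999999999999999999999999699999996999999999999999999999699999999999996999999996969999999999699999999999999969999996999999999996999999999999399996999999399999999999699999999999999999999999999999966999999999996959999999999999999993999999993999999999999999999999999999999999999999999699999999699999999999999999999999999999999999999999999999665999699999696999696669699999999666999999966999669696969699999699999969999969669669696995999999669999999969969966669699999999999969999699699996666999999699969999999999969999999966969699699999699999999996999669699669999699666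69669969969996666999999669999999999999999999699969966969999969699666669999669699699666669669999996669966696996969999966999699969999699999699999996699996969966999999998999989999999aa9999a9999969a89999699a88999999998999999a99994969999989a99a99999699a9996a98999699998499998aa999999899989a9999999a9999769999999699996a8996998999998a7999898a999a989999999989994999799999899999946aa9999979699999999999949998a99696a9997999897a9999999a99499989999999999899899949a99989a9996999979998a946999999999999999979989999a9a9a999999999999999999999a9999a99a99a99999999999999999977999896999998999849999969999999499999998969989699998999999996999999999999699a979a99a9999997a99999996999999699aa99898999999999999999999999899998998998999999999999999999448aa9a7999989988919899979aa98a818899a889a78a997aa8898998aa9aaaa88889a98aa9999998aa8a89aa8aaaa999989999998899a9977) i1)) (Nat.mul (nat_lit 56) i0) (Nat.mul (nat_lit 56) (Nat.succ i0)) List.nil))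 (nat_lit 0) (nat_lit 25) tl)
    = ?xq9012 → (List (List ℕ))) ?hq9012; (case hq9012 => (set_option maxRecDepth 1000000 in set_option simprocs false in conv => lhs; reduce; dsimp only)); intro _; exact ?xq9012 y7 : List (List ℕ))
  (by
  refine (?fq9013 : (fun tl : List (List ℕ) => pk61l (fun i0 => (pk61l (fun i1 => (pk61d (nat_lit 4) 
    (nat_lit 0x9a9aa99988aa9897a8999a99a97987a979aa88a99887898899aa799999a99989897988aaa9aa9a99947999a9a79a88988919898989a799a9999999999999999999999999999999999999999999999999999999119889988998988999888898999988988888998888989999988998991499999999999995999999999995959999999995959959999595999999399999999999999999969695399699999953999999599996959999399996939999999969999999999939993999699999999999999999996399959399999999599999999999399939995999999999999999999953999999666699699996996999999999999999999999996999999999999989a794988898917783a49a89a8838a999899aa99a9934979999894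9983948998a899399999a9999948a8488839999999aaaaa88aa8aa14a7a877999978997889789898a9899a89a88a998999989799998788aaaaa9aa9999a998a999a99949a8984a94a99a489844899a48489a99aa97384aa44a8a7948a7798989999982aa3999a9a98a988889a98a99917a7aaa9999aa99aaa9aa9a9a79a997a97aa799a9999a9a9999aaaa77a99a938949a999aaa8794a4998398729a7a9997889899948999a9aa37aa9a348997a9897a49a9a99a8388938a9998894898a8994989aa793a997a38998a9897a9899999aa9389938997a8898989a9a9889a9aa7289848499999889489899899889498849884888989889898998989944333333333333323333333333323233333333323233233332323333333333223333333333333333332311331133331133333233333333233213133333333333333333333313333133133133333333333333333311222222111122112221221212212112212222112111121211112222221221122112122111222212111122122222112222121111122112111011111111111111111111111111111111111111111111111111111111) i1)) (Nat.mul (nat_lit 56) i0) (Nat.mul (nat_lit 56) (Nat.succ i0)) List.nil))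 (nat_lit 0) (nat_lit 25) tl)
    = ?xq9013 → (List (List ℕ))) ?hq9013; (case hq9013 => (set_option maxRecDepth 1000000 in set_option simprocs false in conv => lhs; reduce; dsimp only)); intro _; exact ?xq9013 y8 : List (List ℕ))

/-- the intersection matrix -/
def TT : Fin 11 → Fin 11 → ℕ := (beta% delta% lq26ecf6dcd275 fun _ _ _ _ vqc4 vqc5 =>
    (vqc4 (vqc4 0 (vqc4 45864 (vqc4 0 (vqc4 0 (vqc4 0 (vqc4 0 (vqc4 0 (vqc4 0 (vqc4 0 (vqc4 0 (vqc4 0 vqc5)))))))))))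
    (vqc4 (vqc4 1 (vqc4 684 (vqc4 27 (vqc4 864 (vqc4 2816 (vqc4 0 (vqc4 0 (vqc4 0 (vqc4 20736 (vqc4 20736 (vqc4 0 vqc5)))))))))))
    (vqc4 (vqc4 0 (vqc4 72 (vqc4 480 (vqc4 2304 (vqc4 0 (vqc4 0 (vqc4 0 (vqc4 6144 (vqc4 0 (vqc4 18432 (vqc4 18432 vqc5)))))))))))
    (vqc4 (vqc4 0 (vqc4 18 (vqc4 18 (vqc4 1380 (vqc4 720 (vqc4 48 (vqc4 1776 (vqc4 1008 (vqc4 3312 (vqc4 34560 (vqc4 3024 vqc5)))))))))))
    (vqc4 (vqc4 0 (vqc4 99 (vqc4 0 (vqc4 1215 (vqc4 1134 (vqc4 0 (vqc4 1458 (vqc4 486 (vqc4 6966 (vqc4 33048 (vqc4 1458 vqc5)))))))))))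
    (vqc4 (vqc4 0 (vqc4 0 (vqc4 0 (vqc4 588 (vqc4 0 (vqc4 588 (vqc4 2352 (vqc4 0 (vqc4 0 (vqc4 42336 (vqc4 0 vqc5)))))))))))
    (vqc4 (vqc4 0 (vqc4 0 (vqc4 0 (vqc4 444 (vqc4 216 (vqc4 48 (vqc4 4332 (vqc4 1944 (vqc4 3672 (vqc4 33264 (vqc4 1944 vqc5)))))))))))
    (vqc4 (vqc4 0 (vqc4 0 (vqc4 21 (vqc4 441 (vqc4 126 (vqc4 0 (vqc4 3402 (vqc4 3570 (vqc4 1638 (vqc4 32004 (vqc4 4662 vqc5)))))))))))
    (vqc4 (vqc4 0 (vqc4 81 (vqc4 0 (vqc4 621 (vqc4 774 (vqc4 0 (vqc4 2754 (vqc4 702 (vqc4 7290 (vqc4 32508 (vqc4 1134 vqc5)))))))))))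
    (vqc4 (vqc4 0 (vqc4 9 (vqc4 3 (vqc4 720 (vqc4 408 (vqc4 72 (vqc4 2772 (vqc4 1524 (vqc4 3612 (vqc4 34224 (vqc4 2520 vqc5)))))))))))
    (vqc4 (vqc4 0 (vqc4 0 (vqc4 39 (vqc4 819 (vqc4 234 (vqc4 0 (vqc4 2106 (vqc4 2886 (vqc4 1638 (vqc4 32760 (vqc4 5382 vqc5))))))))))) vqc5))))))))))))

private noncomputable def _root_.Cfsg.Agent.KOb51a057.k0 : ((x0 : Prop) → ((@Decidable @x0) → @Bool)) := @(fun (x0 : Prop) (x1 : @Decidable @x0) => @Decidable.rec.{1} @x0 @(fun (x2 : @Decidable @x0) => @Bool) @(fun (x2 : @Not @x0) => @Bool.false) @(fun (x2 : x0) => @Bool.true) @x1)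
private theorem _root_.Cfsg.Agent.KOb51a057.e0 : @Decidable.decide = @_root_.Cfsg.Agent.KOb51a057.k0 := by delta _root_.Cfsg.Agent.KOb51a057.k0; rfl'
private noncomputable def _root_.Cfsg.Agent.KOb51a057.k1l (n : Nat) (P : ∀ k, k < n → Prop) (H : ∀ k h, Decidable (P k h)) (m : Nat) : m ≤ n → Bool := @Nat.rec (fun m => m ≤ n → Bool) (fun _ => true) (fun k ih h => @Decidable.rec (P k h) (fun _ => Bool) (fun _ => false) (fun _ => ih (Nat.le_of_succ_le h)) (H k h)) m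
private theorem _root_.Cfsg.Agent.KOb51a057.k1ls (n : Nat) (P : ∀ k, k < n → Prop) (H : ∀ k h, Decidable (P k h)) (m : Nat) : ∀ h : m ≤ n, _root_.Cfsg.Agent.KOb51a057.k1l n P H m h = true ↔ ∀ k (g : k < m), P k (Nat.lt_of_lt_of_le g h) := by induction m with | zero => exact fun _ => ⟨fun _ _ g => absurd g (Nat.not_lt_zero _), fun _ => rfl⟩ | succ m ih => intro h; show @Decidable.rec (P m h) (fun _ => Bool) (fun _ => false) (fun _ => _root_.Cfsg.Agent.KOb51a057.k1l n P H m (Nat.le_of_succ_le h)) (H m h) = true ↔ _; cases H m h with | isFalse q => exact ⟨fun g => absurd g Bool.false_ne_true, fun g => absurd (g m (Nat.lt_succ_self m)) q⟩ | isTrue q => exact ⟨fun g k hk => (Nat.lt_succ_iff_lt_or_eq.1 hk).elim ((ih _).1 g k) fun e => by subst e; exact q, fun g => (ih _).2 fun k hk => g k (Nat.lt_succ_of_lt hk)⟩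
private noncomputable def _root_.Cfsg.Agent.KOb51a057.k1 (n : Nat) (P : ∀ k, k < n → Prop) (H : ∀ k h, Decidable (P k h)) : Decidable (∀ k h, P k h) := @Bool.rec (fun b => _root_.Cfsg.Agent.KOb51a057.k1l n P H n (Nat.le_refl n) = b → Decidable (∀ k h, P k h)) (fun g => isFalse fun q => Bool.false_ne_true (g.symm.trans ((_root_.Cfsg.Agent.KOb51a057.k1ls n P H n _).2 fun k h => q k h))) (fun g => isTrue fun k h => (_root_.Cfsg.Agent.KOb51a057.k1ls n P H n _).1 g k h) (_root_.Cfsg.Agent.KOb51a057.k1l n P H n (Nat.le_refl n)) rfl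
private theorem _root_.Cfsg.Agent.KOb51a057.e1 : @Nat.decidableBallLT = @_root_.Cfsg.Agent.KOb51a057.k1 := funext fun _ => funext fun _ => funext fun _ => Subsingleton.elim _ _
private theorem _root_.Cfsg.Agent.KOb51a057.e2.{ku, kv} {α : Type kv} {M : List α → Sort ku} (φ : ∀ l, M l) {z : M List.nil} {s : ∀ a l, M l → M (List.cons a l)} (h0 : φ List.nil = z) (hs : ∀ a l, φ (List.cons a l) = s a l (φ l)) (l : List α) : φ l = @List.rec α M z s l := List.rec h0 (fun a l ih => (hs a l).trans (congrArg (s a l) ih)) l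
private noncomputable def _root_.Cfsg.Agent.KOb51a057.k3.{ku0} : ((x0 : Sort (ku0+1)) → ((x1 : (x0 → Prop)) → ((@DecidablePred.{(ku0+1)} @x0 @x1) → ((x3 : @List.{ku0} @x0) → @Decidable ((x4 : x0) → ((@Membership.mem.{ku0, ku0} @x0 (@List.{ku0} @x0) (@List.instMembership.{ku0} @x0) @x3 @x4) → @x1 @x4)))))) := @(fun (x0 : Sort (ku0+1)) (x1 : (x0 → Prop)) (x2 : @DecidablePred.{(ku0+1)} @x0 @x1) (x3 : @List.{ku0} @x0) => @List.rec.{1, ku0} @x0 @(fun (x4 : @List.{ku0} @x0) => @Decidable ((x5 : x0) → ((@Membership.mem.{ku0, ku0} @x0 (@List.{ku0} @x0) (@List.instMembership.{ku0} @x0) @x4 @x5) → @x1 @x5))) (@Decidable.isTrue ((x4 : x0) → ((@Membership.mem.{ku0, ku0} @x0 (@List.{ku0} @x0) (@List.instMembership.{ku0} @x0) (@List.nil.{ku0} @x0) @x4) → @x1 @x4)) (@List.decidableBAll._proof_1.{ku0} @x0 @x1)) @(fun (x4 : x0) (x5 : @List.{ku0} @x0) (x6 : @Decidable ((x6 : x0) → ((@Membership.mem.{ku0, ku0} @x0 (@List.{ku0}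 @x0) (@List.instMembership.{ku0} @x0) @x5 @x6) → @x1 @x6))) => @Decidable.rec.{1} (@x1 @x4) @(fun (x7 : @Decidable (@x1 @x4)) => @Decidable ((x8 : x0) → ((@Membership.mem.{ku0, ku0} @x0 (@List.{ku0} @x0) (@List.instMembership.{ku0} @x0) (@List.cons.{ku0} @x0 @x4 @x5) @x8) → @x1 @x8))) @(fun (x7 : @Not (@x1 @x4)) => @Decidable.isFalse ((x8 : x0) → ((@Membership.mem.{ku0, ku0} @x0 (@List.{ku0} @x0) (@List.instMembership.{ku0} @x0) (@List.cons.{ku0} @x0 @x4 @x5) @x8) → @x1 @x8)) (@List.decidableBAll._proof_4.{ku0} @x0 @x1 @x4 @x5 @x7)) @(fun (x7 : @x1 @x4) => @Decidable.rec.{1} ((x8 : x0) → ((@Membership.mem.{ku0, ku0} @x0 (@List.{ku0} @x0) (@List.instMembership.{ku0} @x0) @x5 @x8) → @x1 @x8)) @(fun (x8 : @Decidable ((x8 : x0) → ((@Membership.mem.{ku0, ku0} @x0 (@List.{ku0} @x0) (@List.instMembership.{ku0} @x0) @x5 @x8) → @x1 @x8))) => @Decidable ((x9 : x0) → ((@Membership.mem.{ku0, ku0} @x0 (@List.{ku0}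 @x0) (@List.instMembership.{ku0} @x0) (@List.cons.{ku0} @x0 @x4 @x5) @x9) → @x1 @x9))) @(fun (x8 : @Not ((x8 : x0) → ((@Membership.mem.{ku0, ku0} @x0 (@List.{ku0} @x0) (@List.instMembership.{ku0} @x0) @x5 @x8) → @x1 @x8))) => @Decidable.isFalse ((x9 : x0) → ((@Membership.mem.{ku0, ku0} @x0 (@List.{ku0} @x0) (@List.instMembership.{ku0} @x0) (@List.cons.{ku0} @x0 @x4 @x5) @x9) → @x1 @x9)) (@List.decidableBAll._proof_3.{ku0} @x0 @x1 @x4 @x5 @x8)) @(fun (x8 : ((x8 : x0) → ((@Membership.mem.{ku0, ku0} @x0 (@List.{ku0} @x0) (@List.instMembership.{ku0} @x0) @x5 @x8) → @x1 @x8))) => @Decidable.isTrue ((x9 : x0) → ((@Membership.mem.{ku0, ku0} @x0 (@List.{ku0} @x0) (@List.instMembership.{ku0} @x0) (@List.cons.{ku0} @x0 @x4 @x5) @x9) → @x1 @x9)) (@List.decidableBAll._proof_2.{ku0} @x0 @x1 @x4 @x5 @x7 @x8)) @x6) (@x2 @x4)) @x3)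
private theorem _root_.Cfsg.Agent.KOb51a057.e3.{ku0} : @List.decidableBAll.{ku0} = @_root_.Cfsg.Agent.KOb51a057.k3.{ku0} := by delta _root_.Cfsg.Agent.KOb51a057.k3; funext a0 a1 a2 a3; refine (_root_.Cfsg.Agent.KOb51a057.e2 (fun a3 => @List.decidableBAll.{ku0} a0 a1 a2 a3) ?_ (fun c0 c1 => ?_) a3 :) <;> (rfl')
private noncomputable def _root_.Cfsg.Agent.KOb51a057.k4 : ((x0 : @Nat) → ((x1 : @Nat) → @Decidable (@Eq.{1} @Nat @x0 @x1))) := @(fun (x0 : @Nat) (x1 : @Nat) => @Bool.rec.{1} @(fun (x2 : @Bool) => ((@Eq.{1} @Bool (@Nat.beq @x0 @x1) @x2) → @Decidable (@Eq.{1} @Nat @x0 @x1))) @(fun (x2 : @Eq.{1} @Bool (@Nat.beq @x0 @x1) @Bool.false) => @Decidable.isFalse (@Eq.{1} @Nat @x0 @x1) (@Nat.ne_of_beq_eq_false @x0 @x1 @x2)) @(fun (x2 : @Eq.{1} @Bool (@Nat.beq @x0 @x1) @Bool.true) => @Decidable.isTrue (@Eq.{1} @Nat @x0 @x1) (@Nat.eq_of_beq_eq_true @x0 @x1 @x2)) (@Nat.beq @x0 @x1) (@Eq.refl.{1} @Bool (@Nat.beq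 @x0 @x1)))
private theorem _root_.Cfsg.Agent.KOb51a057.e4 : @Nat.decEq = @_root_.Cfsg.Agent.KOb51a057.k4 := by delta _root_.Cfsg.Agent.KOb51a057.k4; rfl'
private noncomputable def _root_.Cfsg.Agent.KOb51a057.k5 : @DecidableEq.{1} @Nat := @Cfsg.Agent.KOb51a057.k4
private theorem _root_.Cfsg.Agent.KOb51a057.e5 : @instDecidableEqNat = @_root_.Cfsg.Agent.KOb51a057.k5 := by delta _root_.Cfsg.Agent.KOb51a057.k5; rewrite [← Cfsg.Agent.KOb51a057.e4]; rfl'
private noncomputable def _root_.Cfsg.Agent.KOb51a057.k7.{ku0} : ((x0 : Sort (ku0+1)) → ((@List.{ku0} @x0) → (@Nat → @Option.{ku0} @x0))) := @(fun (x0 : Sort (ku0+1)) (x1 : @List.{ku0} @x0) (x2 : @Nat) => @List.rec.{(ku0+1), ku0} @x0 @(fun (x3 : @List.{ku0} @x0) => (@Nat → @Option.{ku0} @x0)) @(fun (x3 : @Nat) => @Option.none.{ku0} @x0) @(fun (x3 : x0) (x4 : @List.{ku0} @x0) (x5 : (@Nat → @Option.{ku0} @x0)) (x6 : @Nat) => @Nat.rec.{(ku0+1)} @(fun (x7 : @Nat)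 => @Option.{ku0} @x0) (@Option.some.{ku0} @x0 @x3) @(fun (x7 : @Nat) (x8 : @Option.{ku0} @x0) => @x5 @x7) @x6) @x1 @x2)
private theorem _root_.Cfsg.Agent.KOb51a057.e7.{ku0} : @List.get?Internal.{ku0} = @_root_.Cfsg.Agent.KOb51a057.k7.{ku0} := by delta _root_.Cfsg.Agent.KOb51a057.k7; funext a0 a1 a2; refine (congrFun (_root_.Cfsg.Agent.KOb51a057.e2 (fun a1 a2 => @List.get?Internal.{ku0} a0 a1 a2) ?_ (fun c0 c1 => ?_) a1) a2 :) <;> [(funext b0; (rfl')); (funext b0; (cases b0 with | @zero  => (rfl') | @succ b0_0 => (rfl')))]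
private noncomputable def _root_.Cfsg.Agent.KOb51a057.k8 : (by first | exact type_of% @Cfsg.Agent.H492.ThLineData.KP | exact Unit : Sort _) := by first | (refine @Subtype.val _ (fun g => @Cfsg.Agent.H492.ThLineData.KP = @g) (@Subtype.mk _ _ (@(fun (x0 : @Nat) (x1 : @Nat) => @Option.rec.{1, 0} @Nat @(fun (x2 : @Option.{0} @Nat) => @Nat) (nat_lit 0) @(fun (x2 : @Nat) => x2) (@Cfsg.Agent.KOb51a057.k7.{0} @Nat (@Option.rec.{1, 0} (@List.{0} @Nat) @(fun (x2 : @Option.{0} (@List.{0} @Nat)) => @List.{0} @Nat) (@List.nil.{0} @Nat) @(fun (x2 : @List.{0} @Nat) => x2) (@Cfsg.Agent.KOb51a057.k7.{0} (@List.{0} @Nat) @Cfsg.Agent.H492.ThLineData.kap @x0)) @x1))) ?_); rewrite [← Cfsg.Agent.KOb51a057.e7.{0}]; (try delta Cfsg.Agent.H492.ThLineData.KP); (try generalize @Cfsg.Agent.H492.ThLineData.kap = g0); rfl') | exact @Cfsg.Agent.H492.ThLineData.KP | exact ()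
private theorem _root_.Cfsg.Agent.KOb51a057.e8 : (by first | exact @Cfsg.Agent.H492.ThLineData.KP = @_root_.Cfsg.Agent.KOb51a057.k8 | exact True : Prop) := by first | (delta _root_.Cfsg.Agent.KOb51a057.k8; exact @Subtype.property _ (fun g => @Cfsg.Agent.H492.ThLineData.KP = @g) _) | rfl | trivial
private noncomputable def _root_.Cfsg.Agent.KOb51a057.k9 : (by first | exact type_of% @Cfsg.Agent.Th.Word.invL | exact Unit : Sort _) := by first | (refine @Subtype.val _ (fun g => @Cfsg.Agent.Th.Word.invL = @g) (@Subtype.mk _ _ (@(fun (x0 : @Nat) => @Bool.rec.{1} @(fun (x1 : @Bool) => @Nat) (@Bool.rec.{1} @(fun (x1 : @Bool) => @Nat) (@Bool.rec.{1} @(fun (x1 : @Bool) => @Nat) (@Bool.rec.{1} @(fun (x1 : @Bool) => @Nat) (@Bool.rec.{1} @(fun (x1 : @Bool) => @Nat) (@Bool.rec.{1} @(fun (x1 : @Bool) => @Nat) @x0 (nat_lit 10) (@Nat.beq @x0 (nat_lit 11))) (nat_lit 11) (@Nat.beq @x0 (nat_lit 10))) (nat_lit 8) (@Nat.beq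 @x0 (nat_lit 9))) (nat_lit 9) (@Nat.beq @x0 (nat_lit 8))) (nat_lit 6) (@Nat.beq @x0 (nat_lit 7))) (nat_lit 7) (@Nat.beq @x0 (nat_lit 6)))) ?_); rfl') | exact @Cfsg.Agent.Th.Word.invL | exact ()
private theorem _root_.Cfsg.Agent.KOb51a057.e9 : (by first | exact @Cfsg.Agent.Th.Word.invL = @_root_.Cfsg.Agent.KOb51a057.k9 | exact True : Prop) := by first | (delta _root_.Cfsg.Agent.KOb51a057.k9; exact @Subtype.property _ (fun g => @Cfsg.Agent.Th.Word.invL = @g) _) | rfl | trivial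
private noncomputable def _root_.Cfsg.Agent.KOb51a057.k10 : (by first | exact type_of% @Cfsg.Agent.H492.ThLineData.tri | exact Unit : Sort _) := by first | (refine @Subtype.val _ (fun g => @Cfsg.Agent.H492.ThLineData.tri = @g) (@Subtype.mk _ _ (@(fun (x0 : (@Nat → (@Nat → @Nat))) (x1 : @List.{0} @Nat) (x2 : @Nat) => @List.rec.{1, 0} @Nat @(fun (x3 : @List.{0} @Nat) => @Nat) @x2 @(fun (x3 : @Nat) (x4 : @List.{0} @Nat) (x5 : @Nat) => @x0 (@Cfsg.Agent.KOb51a057.k9 @x3) @x5) @x1)) ?_); rewrite [← Cfsg.Agent.KOb51a057.e9]; (try delta Cfsg.Agent.H492.ThLineData.tri); (try generalize @Cfsg.Agent.Th.Word.invL = g0); rfl') | exact @Cfsg.Agent.H492.ThLineData.tri | exact ()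
private theorem _root_.Cfsg.Agent.KOb51a057.e10 : (by first | exact @Cfsg.Agent.H492.ThLineData.tri = @_root_.Cfsg.Agent.KOb51a057.k10 | exact True : Prop) := by first | (delta _root_.Cfsg.Agent.KOb51a057.k10; exact @Subtype.property _ (fun g => @Cfsg.Agent.H492.ThLineData.tri = @g) _) | rfl | trivial
private noncomputable def _root_.Cfsg.Agent.KOb51a057.k11 : (by first | exact type_of% @Cfsg.Agent.Th.COracleDef.act120 | exact Unit : Sort _) := by first | (refine @Subtype.val _ (fun g => @Cfsg.Agent.Th.COracleDef.act120 = @g) (@Subtype.mk _ _ (@(fun (x0 : @Nat) (x1 : @Nat) => @Nat.land (@Nat.shiftRight @Cfsg.Agent.Th.COracleDef.T120 (@Nat.mul (nat_lit 8) (@Nat.add (@Nat.mul (nat_lit 128) @x0) @x1))) (nat_lit 255))) ?_); (try delta Cfsg.Agent.Th.COracleDef.act120); (try generalize @Cfsg.Agent.Th.COracleDef.T120 = g0); rfl') | exact @Cfsg.Agent.Th.COracleDef.act120 | exact ()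
private theorem _root_.Cfsg.Agent.KOb51a057.e11 : (by first | exact @Cfsg.Agent.Th.COracleDef.act120 = @_root_.Cfsg.Agent.KOb51a057.k11 | exact True : Prop) := by first | (delta _root_.Cfsg.Agent.KOb51a057.k11; exact @Subtype.property _ (fun g => @Cfsg.Agent.Th.COracleDef.act120 = @g) _) | rfl | trivial
private noncomputable def _root_.Cfsg.Agent.KOb51a057.k12 : (by first | exact type_of% @Cfsg.Agent.Th.Word.unp | exact Unit : Sort _) := by first | (refine @Subtype.val _ (fun g => @Cfsg.Agent.Th.Word.unp = @g) (@Subtype.mk _ _ (@(fun (x0 : @Nat) => @Nat.rec.{1} @(fun (x1 : @Nat) => (@Nat → @List.{0} @Nat)) @(fun (x1 : @Nat) => @List.nil.{0} @Nat) @(fun (x1 : @Nat) (x2 : (@Nat → @List.{0} @Nat)) (x3 : @Nat) => @Bool.rec.{1} @(fun (x4 : @Bool) => @List.{0} @Nat) (@List.cons.{0} @Nat (@Nat.land @x3 (nat_lit 15)) (@x2 (@Nat.div @x3 (nat_lit 16)))) (@List.nil.{0} @Nat) (@Nat.beq @x3 (nat_lit 0))) @x0)) ?_);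 rfl') | exact @Cfsg.Agent.Th.Word.unp | exact ()
private theorem _root_.Cfsg.Agent.KOb51a057.e12 : (by first | exact @Cfsg.Agent.Th.Word.unp = @_root_.Cfsg.Agent.KOb51a057.k12 | exact True : Prop) := by first | (delta _root_.Cfsg.Agent.KOb51a057.k12; exact @Subtype.property _ (fun g => @Cfsg.Agent.Th.Word.unp = @g) _) | rfl | trivial
private noncomputable def _root_.Cfsg.Agent.KOb51a057.oEq.{ku} (α : Sort ku) (a b : Nat) (f t : α) : α := @Decidable.rec (a = b) (fun _ => α) (fun _ => f) (fun _ => t) (Nat.decEq a b)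
private noncomputable def _root_.Cfsg.Agent.KOb51a057.k13.{ku} (α : Sort ku) (a b : Nat) (f t : α) : α := @Bool.rec (fun _ => α) f t (Nat.beq a b)
private theorem _root_.Cfsg.Agent.KOb51a057.e13.{ku} : @_root_.Cfsg.Agent.KOb51a057.oEq.{ku} = @_root_.Cfsg.Agent.KOb51a057.k13.{ku} := funext fun α => funext fun a => funext fun b => funext fun f => funext fun t => by delta _root_.Cfsg.Agent.KOb51a057.oEq _root_.Cfsg.Agent.KOb51a057.k13; cases h : Nat.beq a b <;> cases Nat.decEq a b <;> rename_i g <;> first | rfl | exact absurd g (Nat.ne_of_beq_eq_false h) | exact absurd (Nat.eq_of_beq_eq_true h) g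
private noncomputable def _root_.Cfsg.Agent.KOb51a057.k14 : (by first | exact type_of% @Cfsg.Agent.Lib.PathCheck.len | exact Unit : Sort _) := by first | (refine @Subtype.val _ (fun g => @Cfsg.Agent.Lib.PathCheck.len = @g) (@Subtype.mk _ _ (@(fun (x0 : @Nat) => @Cfsg.Agent.KOb51a057.k13.{1} @Nat @x0 (nat_lit 0) (@Nat.add (@Nat.div (@Nat.log2 @x0) (nat_lit 4)) (nat_lit 1)) (nat_lit 0))) ?_); rewrite [← Cfsg.Agent.KOb51a057.e13.{1}]; rfl') | exact @Cfsg.Agent.Lib.PathCheck.len | exact ()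
private theorem _root_.Cfsg.Agent.KOb51a057.e14 : (by first | exact @Cfsg.Agent.Lib.PathCheck.len = @_root_.Cfsg.Agent.KOb51a057.k14 | exact True : Prop) := by first | (delta _root_.Cfsg.Agent.KOb51a057.k14; exact @Subtype.property _ (fun g => @Cfsg.Agent.Lib.PathCheck.len = @g) _) | rfl | trivial
private noncomputable def _root_.Cfsg.Agent.KOb51a057.k15 : (by first | exact type_of% @Cfsg.Agent.Th.PathCover.unl | exact Unit : Sort _) := by first | (refine @Subtype.val _ (fun g => @Cfsg.Agent.Th.PathCover.unl = @g) (@Subtype.mk _ _ (@(fun (x0 : @Nat) => @Cfsg.Agent.KOb51a057.k12 (@Cfsg.Agent.KOb51a057.k14 @x0) @x0)) ?_); rewrite [← Cfsg.Agent.KOb51a057.e14, ← Cfsg.Agent.KOb51a057.e12]; (try delta Cfsg.Agent.Th.PathCover.unl); (try generalize @Cfsg.Agent.Th.Word.unp = g0); (try generalize @Cfsg.Agent.Lib.PathCheck.len = g1); rfl') | exact @Cfsg.Agent.Th.PathCover.unl | exact ()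
private theorem _root_.Cfsg.Agent.KOb51a057.e15 : (by first | exact @Cfsg.Agent.Th.PathCover.unl = @_root_.Cfsg.Agent.KOb51a057.k15 | exact True : Prop) := by first | (delta _root_.Cfsg.Agent.KOb51a057.k15; exact @Subtype.property _ (fun g => @Cfsg.Agent.Th.PathCover.unl = @g) _) | rfl | trivial

theorem KP_gl : ∀ j < 13, ∀ i ∈ gl (j + 11), KP j (tri act120 (unl (tab i).w2) 0) = (tab i).n1 := by
  (first | (refine of_decide_eq_true ?_; rewrite [Cfsg.Agent.KOb51a057.e0, Cfsg.Agent.KOb51a057.e1, Cfsg.Agent.KOb51a057.e3.{0}, Cfsg.Agent.KOb51a057.e5, Cfsg.Agent.KOb51a057.e8, Cfsg.Agent.KOb51a057.e10, Cfsg.Agent.KOb51a057.e11, Cfsg.Agent.KOb51a057.e15]; decide +kernel) | decide +kernel)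

theorem KP_st : ∀ j < 13, ∀ i ∈ st (j + 11), ∀ q < 120, KP j (tr act120 (unl (tab i).w1) q) = KP j q := by
  (first | (refine of_decide_eq_true ?_; rewrite [Cfsg.Agent.KOb51a057.e0, Cfsg.Agent.KOb51a057.e1, Cfsg.Agent.KOb51a057.e3.{0}, Cfsg.Agent.KOb51a057.e5, Cfsg.Agent.KOb51a057.e8, Cfsg.Agent.KOb51a057.e11, Cfsg.Agent.KOb51a057.e15]; decide +kernel) | decide +kernel)

theorem f_mem : ∀ p ∈ AL, p.2.f ∈ gl (p.1 + 11) := by decide +kernel

private noncomputable def _root_.Cfsg.Agent.KOb51a057.k16.{ku0} : ((x0 : Sort (ku0+1)) → ((@List.{ku0} @x0) → ((@List.{ku0} @x0) → @List.{ku0} @x0))) := @(fun (x0 : Sort (ku0+1)) (x1 : @List.{ku0} @x0) (x2 : @List.{ku0} @x0) => @List.rec.{(ku0+1), ku0} @x0 @(fun (x3 : @List.{ku0} @x0) => ((@List.{ku0} @x0) → @List.{ku0} @x0)) @(fun (x3 : @List.{ku0} @x0) => x3) @(fun (x3 : x0) (x4 : @List.{ku0} @x0) (x5 : ((@List.{ku0} @x0) → @List.{ku0} @x0)) (x6 : @List.{ku0} @x0)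 => @List.cons.{ku0} @x0 @x3 (@x5 @x6)) @x1 @x2)
private theorem _root_.Cfsg.Agent.KOb51a057.e16.{ku0} : @List.append.{ku0} = @_root_.Cfsg.Agent.KOb51a057.k16.{ku0} := by delta _root_.Cfsg.Agent.KOb51a057.k16; funext a0 a1 a2; refine (congrFun (_root_.Cfsg.Agent.KOb51a057.e2 (fun a1 a2 => @List.append.{ku0} a0 a1 a2) ?_ (fun c0 c1 => ?_) a1) a2 :) <;> (rfl')
private noncomputable def _root_.Cfsg.Agent.KOb51a057.k17.{ku0} : ((x0 : Sort (ku0+1)) → ((@List.{ku0} (@List.{ku0} @x0)) → @List.{ku0} @x0)) := @(fun (x0 : Sort (ku0+1)) (x1 : @List.{ku0} (@List.{ku0} @x0)) => @List.rec.{(ku0+1), ku0} (@List.{ku0} @x0) @(fun (x2 : @List.{ku0} (@List.{ku0} @x0)) => @List.{ku0} @x0) (@List.nil.{ku0} @x0) @(fun (x2 : @List.{ku0} @x0) (x3 : @List.{ku0} (@List.{ku0} @x0)) (x4 : @List.{ku0} @x0) => @Cfsg.Agent.KOb51a057.k16.{ku0} @x0 @x2 @x4) @x1)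
private theorem _root_.Cfsg.Agent.KOb51a057.e17.{ku0} : @List.flatten.{ku0} = @_root_.Cfsg.Agent.KOb51a057.k17.{ku0} := by delta _root_.Cfsg.Agent.KOb51a057.k17; rewrite [← Cfsg.Agent.KOb51a057.e16.{ku0}]; funext a0 a1; refine (_root_.Cfsg.Agent.KOb51a057.e2 (fun a1 => @List.flatten.{ku0} a0 a1) ?_ (fun c0 c1 => ?_) a1 :) <;> (rfl')
private noncomputable def _root_.Cfsg.Agent.KOb51a057.k18.{ku0, ku1} : ((x0 : Sort (ku0+1)) → ((x1 : Sort (ku1+1)) → ((x0 → x1) → ((@List.{ku0} @x0) → @List.{ku1} @x1)))) := @(fun (x0 : Sort (ku0+1)) (x1 : Sort (ku1+1)) (x2 : (x0 → x1)) (x3 : @List.{ku0} @x0) => @List.rec.{(ku1+1), ku0} @x0 @(fun (x4 : @List.{ku0} @x0) => @List.{ku1} @x1) (@List.nil.{ku1} @x1) @(fun (x4 : x0) (x5 : @List.{ku0} @x0) (x6 : @List.{ku1} @x1) => @List.cons.{ku1} @x1 (@x2 @x4) @x6) @x3)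
private theorem _root_.Cfsg.Agent.KOb51a057.e18.{ku0, ku1} : @List.map.{ku0, ku1} = @_root_.Cfsg.Agent.KOb51a057.k18.{ku0, ku1} := by delta _root_.Cfsg.Agent.KOb51a057.k18; funext a0 a1 a2 a3; refine (_root_.Cfsg.Agent.KOb51a057.e2 (fun a3 => @List.map.{ku0, ku1} a0 a1 a2 a3) ?_ (fun c0 c1 => ?_) a3 :) <;> (rfl')
private noncomputable def _root_.Cfsg.Agent.KOb51a057.k19.{ku0, ku1} : ((x0 : Sort (ku0+1)) → ((x1 : Sort (ku1+1)) → ((x0 → @List.{ku1} @x1) → ((@List.{ku0} @x0) → @List.{ku1} @x1)))) := @(fun (x0 : Sort (ku0+1)) (x1 : Sort (ku1+1)) (x2 : (x0 → @List.{ku1} @x1)) (x3 : @List.{ku0} @x0) => @Cfsg.Agent.KOb51a057.k17.{ku1} @x1 (@Cfsg.Agent.KOb51a057.k18.{ku0, ku1} @x0 (@List.{ku1} @x1) @x2 @x3))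
private theorem _root_.Cfsg.Agent.KOb51a057.e19.{ku0, ku1} : @List.flatMap.{ku0, ku1} = @_root_.Cfsg.Agent.KOb51a057.k19.{ku0, ku1} := by delta _root_.Cfsg.Agent.KOb51a057.k19; rewrite [← Cfsg.Agent.KOb51a057.e18.{ku0, ku1}, ← Cfsg.Agent.KOb51a057.e17.{ku1}]; rfl'
private noncomputable def _root_.Cfsg.Agent.KOb51a057.k20 : (by first | exact type_of% @Cfsg.Agent.Th.FlagData.FL | exact Unit : Sort _) := by first | (refine @Subtype.val _ (fun g => @Cfsg.Agent.Th.FlagData.FL = @g) (@Subtype.mk _ _ (@(fun (x0 : @Nat) => @Decidable.rec.{1} (@Eq.{1} @Nat @x0 (@OfNat.ofNat.{0} @Nat (nat_lit 11) (@instOfNatNat (nat_lit 11)))) @(fun (x1 : @Decidable (@Eq.{1} @Nat @x0 (@OfNat.ofNat.{0} @Nat (nat_lit 11) (@instOfNatNat (nat_lit 11))))) => @List.{0} @Cfsg.Agent.Th.FlagData.FE) @(fun (x1 : @Not (@Eq.{1} @Nat @x0 (@OfNat.ofNat.{0} @Nat (nat_lit 11) (@instOfNatNat (nat_lit 11))))) => @Decidable.rec.{1} (@Eq.{1} @Nat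 @x0 (@OfNat.ofNat.{0} @Nat (nat_lit 12) (@instOfNatNat (nat_lit 12)))) @(fun (x2 : @Decidable (@Eq.{1} @Nat @x0 (@OfNat.ofNat.{0} @Nat (nat_lit 12) (@instOfNatNat (nat_lit 12))))) => @List.{0} @Cfsg.Agent.Th.FlagData.FE) @(fun (x2 : @Not (@Eq.{1} @Nat @x0 (@OfNat.ofNat.{0} @Nat (nat_lit 12) (@instOfNatNat (nat_lit 12))))) => @Decidable.rec.{1} (@Eq.{1} @Nat @x0 (@OfNat.ofNat.{0} @Nat (nat_lit 13) (@instOfNatNat (nat_lit 13)))) @(fun (x3 : @Decidable (@Eq.{1} @Nat @x0 (@OfNat.ofNat.{0} @Nat (nat_lit 13) (@instOfNatNat (nat_lit 13))))) => @List.{0} @Cfsg.Agent.Th.FlagData.FE) @(fun (x3 : @Not (@Eq.{1} @Nat @x0 (@OfNat.ofNat.{0} @Nat (nat_lit 13) (@instOfNatNat (nat_lit 13))))) => @Decidable.rec.{1} (@Eq.{1} @Nat @x0 (@OfNat.ofNat.{0} @Nat (nat_lit 14) (@instOfNatNat (nat_lit 14)))) @(fun (x4 : @Decidable (@Eq.{1} @Nat @x0 (@OfNat.ofNat.{0} @Nat (nat_lit 14) (@instOfNatNat (nat_lit 14))))) => @List.{0}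 @Cfsg.Agent.Th.FlagData.FE) @(fun (x4 : @Not (@Eq.{1} @Nat @x0 (@OfNat.ofNat.{0} @Nat (nat_lit 14) (@instOfNatNat (nat_lit 14))))) => @Decidable.rec.{1} (@Eq.{1} @Nat @x0 (@OfNat.ofNat.{0} @Nat (nat_lit 15) (@instOfNatNat (nat_lit 15)))) @(fun (x5 : @Decidable (@Eq.{1} @Nat @x0 (@OfNat.ofNat.{0} @Nat (nat_lit 15) (@instOfNatNat (nat_lit 15))))) => @List.{0} @Cfsg.Agent.Th.FlagData.FE) @(fun (x5 : @Not (@Eq.{1} @Nat @x0 (@OfNat.ofNat.{0} @Nat (nat_lit 15) (@instOfNatNat (nat_lit 15))))) => @Decidable.rec.{1} (@Eq.{1} @Nat @x0 (@OfNat.ofNat.{0} @Nat (nat_lit 16) (@instOfNatNat (nat_lit 16)))) @(fun (x6 : @Decidable (@Eq.{1} @Nat @x0 (@OfNat.ofNat.{0} @Nat (nat_lit 16) (@instOfNatNat (nat_lit 16))))) => @List.{0} @Cfsg.Agent.Th.FlagData.FE) @(fun (x6 : @Not (@Eq.{1} @Nat @x0 (@OfNat.ofNat.{0} @Nat (nat_lit 16) (@instOfNatNat (nat_lit 16))))) => @Decidable.rec.{1} (@Eq.{1} @Nat @x0 (@OfNat.ofNat.{0} @Nat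 (nat_lit 17) (@instOfNatNat (nat_lit 17)))) @(fun (x7 : @Decidable (@Eq.{1} @Nat @x0 (@OfNat.ofNat.{0} @Nat (nat_lit 17) (@instOfNatNat (nat_lit 17))))) => @List.{0} @Cfsg.Agent.Th.FlagData.FE) @(fun (x7 : @Not (@Eq.{1} @Nat @x0 (@OfNat.ofNat.{0} @Nat (nat_lit 17) (@instOfNatNat (nat_lit 17))))) => @Decidable.rec.{1} (@Eq.{1} @Nat @x0 (@OfNat.ofNat.{0} @Nat (nat_lit 18) (@instOfNatNat (nat_lit 18)))) @(fun (x8 : @Decidable (@Eq.{1} @Nat @x0 (@OfNat.ofNat.{0} @Nat (nat_lit 18) (@instOfNatNat (nat_lit 18))))) => @List.{0} @Cfsg.Agent.Th.FlagData.FE) @(fun (x8 : @Not (@Eq.{1} @Nat @x0 (@OfNat.ofNat.{0} @Nat (nat_lit 18) (@instOfNatNat (nat_lit 18))))) => @Decidable.rec.{1} (@Eq.{1} @Nat @x0 (@OfNat.ofNat.{0} @Nat (nat_lit 19) (@instOfNatNat (nat_lit 19)))) @(fun (x9 : @Decidable (@Eq.{1} @Nat @x0 (@OfNat.ofNat.{0} @Nat (nat_lit 19) (@instOfNatNat (nat_lit 19))))) => @List.{0} @Cfsg.Agent.Th.FlagData.FE)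 @(fun (x9 : @Not (@Eq.{1} @Nat @x0 (@OfNat.ofNat.{0} @Nat (nat_lit 19) (@instOfNatNat (nat_lit 19))))) => @Decidable.rec.{1} (@Eq.{1} @Nat @x0 (@OfNat.ofNat.{0} @Nat (nat_lit 20) (@instOfNatNat (nat_lit 20)))) @(fun (x10 : @Decidable (@Eq.{1} @Nat @x0 (@OfNat.ofNat.{0} @Nat (nat_lit 20) (@instOfNatNat (nat_lit 20))))) => @List.{0} @Cfsg.Agent.Th.FlagData.FE) @(fun (x10 : @Not (@Eq.{1} @Nat @x0 (@OfNat.ofNat.{0} @Nat (nat_lit 20) (@instOfNatNat (nat_lit 20))))) => @Decidable.rec.{1} (@Eq.{1} @Nat @x0 (@OfNat.ofNat.{0} @Nat (nat_lit 21) (@instOfNatNat (nat_lit 21)))) @(fun (x11 : @Decidable (@Eq.{1} @Nat @x0 (@OfNat.ofNat.{0} @Nat (nat_lit 21) (@instOfNatNat (nat_lit 21))))) => @List.{0} @Cfsg.Agent.Th.FlagData.FE) @(fun (x11 : @Not (@Eq.{1} @Nat @x0 (@OfNat.ofNat.{0} @Nat (nat_lit 21) (@instOfNatNat (nat_lit 21))))) => @Decidable.rec.{1} (@Eq.{1} @Nat @x0 (@OfNat.ofNat.{0} @Nat (nat_lit 22) (@instOfNatNat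 (nat_lit 22)))) @(fun (x12 : @Decidable (@Eq.{1} @Nat @x0 (@OfNat.ofNat.{0} @Nat (nat_lit 22) (@instOfNatNat (nat_lit 22))))) => @List.{0} @Cfsg.Agent.Th.FlagData.FE) @(fun (x12 : @Not (@Eq.{1} @Nat @x0 (@OfNat.ofNat.{0} @Nat (nat_lit 22) (@instOfNatNat (nat_lit 22))))) => @Decidable.rec.{1} (@Eq.{1} @Nat @x0 (@OfNat.ofNat.{0} @Nat (nat_lit 23) (@instOfNatNat (nat_lit 23)))) @(fun (x13 : @Decidable (@Eq.{1} @Nat @x0 (@OfNat.ofNat.{0} @Nat (nat_lit 23) (@instOfNatNat (nat_lit 23))))) => @List.{0} @Cfsg.Agent.Th.FlagData.FE) @(fun (x13 : @Not (@Eq.{1} @Nat @x0 (@OfNat.ofNat.{0} @Nat (nat_lit 23) (@instOfNatNat (nat_lit 23))))) => @List.nil.{0} @Cfsg.Agent.Th.FlagData.FE) @(fun (x13 : @Eq.{1} @Nat @x0 (@OfNat.ofNat.{0} @Nat (nat_lit 23) (@instOfNatNat (nat_lit 23)))) => @Eq.rec.{1, 1} @Nat (nat_lit 23) @(fun (x14 : @Nat) (x15 : @Eq.{1} @Nat (@OfNat.ofNat.{0} @Nat (nat_lit 23) (@instOfNatNat (nat_lit 23)))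 @x14) => @List.{0} @Cfsg.Agent.Th.FlagData.FE) @Cfsg.Agent.Th.FlagData.FL23 @x0 (@Eq.symm.{1} @Nat @x0 (@OfNat.ofNat.{0} @Nat (nat_lit 23) (@instOfNatNat (nat_lit 23))) @x13)) (@Cfsg.Agent.KOb51a057.k4 @x0 (nat_lit 23))) @(fun (x12 : @Eq.{1} @Nat @x0 (@OfNat.ofNat.{0} @Nat (nat_lit 22) (@instOfNatNat (nat_lit 22)))) => @Eq.rec.{1, 1} @Nat (nat_lit 22) @(fun (x13 : @Nat) (x14 : @Eq.{1} @Nat (@OfNat.ofNat.{0} @Nat (nat_lit 22) (@instOfNatNat (nat_lit 22))) @x13) => @List.{0} @Cfsg.Agent.Th.FlagData.FE) @Cfsg.Agent.Th.FlagData.FL22 @x0 (@Eq.symm.{1} @Nat @x0 (@OfNat.ofNat.{0} @Nat (nat_lit 22) (@instOfNatNat (nat_lit 22))) @x12)) (@Cfsg.Agent.KOb51a057.k4 @x0 (nat_lit 22))) @(fun (x11 : @Eq.{1} @Nat @x0 (@OfNat.ofNat.{0} @Nat (nat_lit 21) (@instOfNatNat (nat_lit 21)))) => @Eq.rec.{1, 1} @Nat (nat_lit 21) @(fun (x12 : @Nat) (x13 : @Eq.{1} @Nat (@OfNat.ofNat.{0} @Nat (nat_lit 21) (@instOfNatNat (nat_lit 21)))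 @x12) => @List.{0} @Cfsg.Agent.Th.FlagData.FE) @Cfsg.Agent.Th.FlagData.FL21 @x0 (@Eq.symm.{1} @Nat @x0 (@OfNat.ofNat.{0} @Nat (nat_lit 21) (@instOfNatNat (nat_lit 21))) @x11)) (@Cfsg.Agent.KOb51a057.k4 @x0 (nat_lit 21))) @(fun (x10 : @Eq.{1} @Nat @x0 (@OfNat.ofNat.{0} @Nat (nat_lit 20) (@instOfNatNat (nat_lit 20)))) => @Eq.rec.{1, 1} @Nat (nat_lit 20) @(fun (x11 : @Nat) (x12 : @Eq.{1} @Nat (@OfNat.ofNat.{0} @Nat (nat_lit 20) (@instOfNatNat (nat_lit 20))) @x11) => @List.{0} @Cfsg.Agent.Th.FlagData.FE) @Cfsg.Agent.Th.FlagData.FL20 @x0 (@Eq.symm.{1} @Nat @x0 (@OfNat.ofNat.{0} @Nat (nat_lit 20) (@instOfNatNat (nat_lit 20))) @x10)) (@Cfsg.Agent.KOb51a057.k4 @x0 (nat_lit 20))) @(fun (x9 : @Eq.{1} @Nat @x0 (@OfNat.ofNat.{0} @Nat (nat_lit 19) (@instOfNatNat (nat_lit 19)))) => @Eq.rec.{1, 1} @Nat (nat_lit 19) @(fun (x10 : @Nat) (x11 : @Eq.{1} @Nat (@OfNat.ofNat.{0} @Nat (nat_lit 19) (@instOfNatNat (nat_lit 19)))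 @x10) => @List.{0} @Cfsg.Agent.Th.FlagData.FE) @Cfsg.Agent.Th.FlagData.FL19 @x0 (@Eq.symm.{1} @Nat @x0 (@OfNat.ofNat.{0} @Nat (nat_lit 19) (@instOfNatNat (nat_lit 19))) @x9)) (@Cfsg.Agent.KOb51a057.k4 @x0 (nat_lit 19))) @(fun (x8 : @Eq.{1} @Nat @x0 (@OfNat.ofNat.{0} @Nat (nat_lit 18) (@instOfNatNat (nat_lit 18)))) => @Eq.rec.{1, 1} @Nat (nat_lit 18) @(fun (x9 : @Nat) (x10 : @Eq.{1} @Nat (@OfNat.ofNat.{0} @Nat (nat_lit 18) (@instOfNatNat (nat_lit 18))) @x9) => @List.{0} @Cfsg.Agent.Th.FlagData.FE) @Cfsg.Agent.Th.FlagData.FL18 @x0 (@Eq.symm.{1} @Nat @x0 (@OfNat.ofNat.{0} @Nat (nat_lit 18) (@instOfNatNat (nat_lit 18))) @x8)) (@Cfsg.Agent.KOb51a057.k4 @x0 (nat_lit 18))) @(fun (x7 : @Eq.{1} @Nat @x0 (@OfNat.ofNat.{0} @Nat (nat_lit 17) (@instOfNatNat (nat_lit 17)))) => @Eq.rec.{1, 1} @Nat (nat_lit 17) @(fun (x8 : @Nat) (x9 : @Eq.{1} @Nat (@OfNat.ofNat.{0} @Nat (nat_lit 17) (@instOfNatNat (nat_lit 17))) @x8)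 => @List.{0} @Cfsg.Agent.Th.FlagData.FE) @Cfsg.Agent.Th.FlagData.FL17 @x0 (@Eq.symm.{1} @Nat @x0 (@OfNat.ofNat.{0} @Nat (nat_lit 17) (@instOfNatNat (nat_lit 17))) @x7)) (@Cfsg.Agent.KOb51a057.k4 @x0 (nat_lit 17))) @(fun (x6 : @Eq.{1} @Nat @x0 (@OfNat.ofNat.{0} @Nat (nat_lit 16) (@instOfNatNat (nat_lit 16)))) => @Eq.rec.{1, 1} @Nat (nat_lit 16) @(fun (x7 : @Nat) (x8 : @Eq.{1} @Nat (@OfNat.ofNat.{0} @Nat (nat_lit 16) (@instOfNatNat (nat_lit 16))) @x7) => @List.{0} @Cfsg.Agent.Th.FlagData.FE) @Cfsg.Agent.Th.FlagData.FL16 @x0 (@Eq.symm.{1} @Nat @x0 (@OfNat.ofNat.{0} @Nat (nat_lit 16) (@instOfNatNat (nat_lit 16))) @x6)) (@Cfsg.Agent.KOb51a057.k4 @x0 (nat_lit 16))) @(fun (x5 : @Eq.{1} @Nat @x0 (@OfNat.ofNat.{0} @Nat (nat_lit 15) (@instOfNatNat (nat_lit 15)))) => @Eq.rec.{1, 1} @Nat (nat_lit 15) @(fun (x6 : @Nat) (x7 : @Eq.{1} @Nat (@OfNat.ofNat.{0} @Nat (nat_lit 15) (@instOfNatNat (nat_lit 15))) @x6) => @List.{0}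 @Cfsg.Agent.Th.FlagData.FE) @Cfsg.Agent.Th.FlagData.FL15 @x0 (@Eq.symm.{1} @Nat @x0 (@OfNat.ofNat.{0} @Nat (nat_lit 15) (@instOfNatNat (nat_lit 15))) @x5)) (@Cfsg.Agent.KOb51a057.k4 @x0 (nat_lit 15))) @(fun (x4 : @Eq.{1} @Nat @x0 (@OfNat.ofNat.{0} @Nat (nat_lit 14) (@instOfNatNat (nat_lit 14)))) => @Eq.rec.{1, 1} @Nat (nat_lit 14) @(fun (x5 : @Nat) (x6 : @Eq.{1} @Nat (@OfNat.ofNat.{0} @Nat (nat_lit 14) (@instOfNatNat (nat_lit 14))) @x5) => @List.{0} @Cfsg.Agent.Th.FlagData.FE) @Cfsg.Agent.Th.FlagData.FL14 @x0 (@Eq.symm.{1} @Nat @x0 (@OfNat.ofNat.{0} @Nat (nat_lit 14) (@instOfNatNat (nat_lit 14))) @x4)) (@Cfsg.Agent.KOb51a057.k4 @x0 (nat_lit 14))) @(fun (x3 : @Eq.{1} @Nat @x0 (@OfNat.ofNat.{0} @Nat (nat_lit 13) (@instOfNatNat (nat_lit 13)))) => @Eq.rec.{1, 1} @Nat (nat_lit 13) @(fun (x4 : @Nat) (x5 : @Eq.{1} @Nat (@OfNat.ofNat.{0} @Nat (nat_lit 13) (@instOfNatNat (nat_lit 13))) @x4) => @List.{0} @Cfsg.Agent.Th.FlagData.FE)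 @Cfsg.Agent.Th.FlagData.FL13 @x0 (@Eq.symm.{1} @Nat @x0 (@OfNat.ofNat.{0} @Nat (nat_lit 13) (@instOfNatNat (nat_lit 13))) @x3)) (@Cfsg.Agent.KOb51a057.k4 @x0 (nat_lit 13))) @(fun (x2 : @Eq.{1} @Nat @x0 (@OfNat.ofNat.{0} @Nat (nat_lit 12) (@instOfNatNat (nat_lit 12)))) => @Eq.rec.{1, 1} @Nat (nat_lit 12) @(fun (x3 : @Nat) (x4 : @Eq.{1} @Nat (@OfNat.ofNat.{0} @Nat (nat_lit 12) (@instOfNatNat (nat_lit 12))) @x3) => @List.{0} @Cfsg.Agent.Th.FlagData.FE) @Cfsg.Agent.Th.FlagData.FL12 @x0 (@Eq.symm.{1} @Nat @x0 (@OfNat.ofNat.{0} @Nat (nat_lit 12) (@instOfNatNat (nat_lit 12))) @x2)) (@Cfsg.Agent.KOb51a057.k4 @x0 (nat_lit 12))) @(fun (x1 : @Eq.{1} @Nat @x0 (@OfNat.ofNat.{0} @Nat (nat_lit 11) (@instOfNatNat (nat_lit 11)))) => @Eq.rec.{1, 1} @Nat (nat_lit 11) @(fun (x2 : @Nat) (x3 : @Eq.{1} @Nat (@OfNat.ofNat.{0} @Nat (nat_lit 11) (@instOfNatNat (nat_lit 11))) @x2) => @List.{0} @Cfsg.Agent.Th.FlagData.FE) @Cfsg.Agent.Th.FlagData.FL11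 @x0 (@Eq.symm.{1} @Nat @x0 (@OfNat.ofNat.{0} @Nat (nat_lit 11) (@instOfNatNat (nat_lit 11))) @x1)) (@Cfsg.Agent.KOb51a057.k4 @x0 (nat_lit 11)))) ?_); rewrite [← Cfsg.Agent.KOb51a057.e4]; (try delta Cfsg.Agent.Th.FlagData.FL); (try generalize @Cfsg.Agent.Th.FlagData.FL23 = g0); (try generalize @Cfsg.Agent.Th.FlagData.FL22 = g1); (try generalize @Cfsg.Agent.Th.FlagData.FL21 = g2); (try generalize @Cfsg.Agent.Th.FlagData.FL20 = g3); (try generalize @Cfsg.Agent.Th.FlagData.FL19 = g4); (try generalize @Cfsg.Agent.Th.FlagData.FL18 = g5); (try generalize @Cfsg.Agent.Th.FlagData.FL17 = g6); (try generalize @Cfsg.Agent.Th.FlagData.FL16 = g7); (try generalize @Cfsg.Agent.Th.FlagData.FL15 = g8); (try generalize @Cfsg.Agent.Th.FlagData.FL14 = g9); (try generalize @Cfsg.Agent.Th.FlagData.FL13 = g10); (try generalize @Cfsg.Agent.Th.FlagData.FL12 = g11); (try generalize @Cfsg.Agent.Th.FlagData.FL11 = g12); rfl') |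 exact @Cfsg.Agent.Th.FlagData.FL | exact ()
private theorem _root_.Cfsg.Agent.KOb51a057.e20 : (by first | exact @Cfsg.Agent.Th.FlagData.FL = @_root_.Cfsg.Agent.KOb51a057.k20 | exact True : Prop) := by first | (delta _root_.Cfsg.Agent.KOb51a057.k20; exact @Subtype.property _ (fun g => @Cfsg.Agent.Th.FlagData.FL = @g) _) | rfl | trivial
private theorem _root_.Cfsg.Agent.KOb51a057.e21.{ku} {M : Nat → Sort ku} (φ : ∀ n, M n) {z : M Nat.zero} {s : ∀ n, M n → M (Nat.succ n)} (h0 : φ Nat.zero = z) (hs : ∀ n, φ (Nat.succ n) = s n (φ n)) (n : Nat) : φ n = @Nat.rec M z s n := Nat.rec h0 (fun n ih => (hs n).trans (congrArg (s n) ih)) n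
private noncomputable def _root_.Cfsg.Agent.KOb51a057.k22 : (@Nat → ((@List.{0} @Nat) → @List.{0} @Nat)) := @(fun (x0 : @Nat) (x1 : @List.{0} @Nat) => @Nat.rec.{1} @(fun (x2 : @Nat) => ((@List.{0} @Nat) → @List.{0} @Nat)) @(fun (x2 : @List.{0} @Nat) => x2) @(fun (x2 : @Nat) (x3 : ((@List.{0} @Nat) → @List.{0} @Nat)) (x4 : @List.{0} @Nat) => @x3 (@List.cons.{0} @Nat @x2 @x4)) @x0 @x1)
private theorem _root_.Cfsg.Agent.KOb51a057.e22 : @List.range.loop = @_root_.Cfsg.Agent.KOb51a057.k22 := by delta _root_.Cfsg.Agent.KOb51a057.k22; funext a0 a1; refine (congrFun (_root_.Cfsg.Agent.KOb51a057.e21 (fun a0 a1 => @List.range.loop a0 a1) ?_ (fun c0 => ?_) a0) a1 :) <;> (rfl')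
private noncomputable def _root_.Cfsg.Agent.KOb51a057.k23 : (@Nat → @List.{0} @Nat) := @(fun (x0 : @Nat) => @Cfsg.Agent.KOb51a057.k22 @x0 (@List.nil.{0} @Nat))
private theorem _root_.Cfsg.Agent.KOb51a057.e23 : @List.range = @_root_.Cfsg.Agent.KOb51a057.k23 := by delta _root_.Cfsg.Agent.KOb51a057.k23; rewrite [← Cfsg.Agent.KOb51a057.e22]; rfl'
private noncomputable def _root_.Cfsg.Agent.KOb51a057.k28.{ku0} : ((x0 : Sort (ku0+1)) → ((@DecidableEq.{(ku0+1)} @x0) → ((x2 : @List.{ku0} @x0) → ((x3 : @List.{ku0} @x0) → @Decidable (@Eq.{(ku0+1)} (@List.{ku0} @x0) @x2 @x3))))) := @(fun (x0 : Sort (ku0+1)) (x1 : @DecidableEq.{(ku0+1)} @x0) (x2 : @List.{ku0} @x0) (x3 : @List.{ku0} @x0) => @List.rec.{(ku0+1), ku0} @x0 @(fun (x4 : @List.{ku0} @x0) => ((x5 : @List.{ku0} @x0) → @Decidable (@Eq.{(ku0+1)} (@List.{ku0} @x0) @x4 @x5))) @(fun (x4 : @List.{ku0} @x0) => @List.rec.{1, ku0} @x0 @(fun (x5 : @List.{ku0} @x0)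 => @Decidable (@Eq.{(ku0+1)} (@List.{ku0} @x0) (@List.nil.{ku0} @x0) @x5)) (@Decidable.isTrue (@Eq.{(ku0+1)} (@List.{ku0} @x0) (@List.nil.{ku0} @x0) (@List.nil.{ku0} @x0)) (@List.hasDecEq._proof_1.{ku0} @x0)) @(fun (x5 : x0) (x6 : @List.{ku0} @x0) (x7 : @Decidable (@Eq.{(ku0+1)} (@List.{ku0} @x0) (@List.nil.{ku0} @x0) @x6)) => @Decidable.isFalse (@Eq.{(ku0+1)} (@List.{ku0} @x0) (@List.nil.{ku0} @x0) (@List.cons.{ku0} @x0 @x5 @x6)) (@List.hasDecEq._proof_3.{ku0} @x0 @x5 @x6)) @x4) @(fun (x4 : x0) (x5 : @List.{ku0} @x0) (x6 : ((x6 : @List.{ku0} @x0) → @Decidable (@Eq.{(ku0+1)} (@List.{ku0} @x0) @x5 @x6))) (x7 : @List.{ku0} @x0) => @List.rec.{1, ku0} @x0 @(fun (x8 : @List.{ku0} @x0) => @Decidable (@Eq.{(ku0+1)} (@List.{ku0} @x0) (@List.cons.{ku0} @x0 @x4 @x5) @x8)) (@Decidable.isFalse (@Eq.{(ku0+1)} (@List.{ku0} @x0) (@List.cons.{ku0} @x0 @x4 @x5) (@List.nil.{ku0} @x0)) (@List.hasDecEq._proof_2.{ku0} @x0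 @x4 @x5)) @(fun (x8 : x0) (x9 : @List.{ku0} @x0) (x10 : @Decidable (@Eq.{(ku0+1)} (@List.{ku0} @x0) (@List.cons.{ku0} @x0 @x4 @x5) @x9)) => @Decidable.rec.{1} (@Eq.{(ku0+1)} @x0 @x4 @x8) @(fun (x11 : @Decidable (@Eq.{(ku0+1)} @x0 @x4 @x8)) => @Decidable (@Eq.{(ku0+1)} (@List.{ku0} @x0) (@List.cons.{ku0} @x0 @x4 @x5) (@List.cons.{ku0} @x0 @x8 @x9))) @(fun (x11 : @Not (@Eq.{(ku0+1)} @x0 @x4 @x8)) => @Decidable.isFalse (@Eq.{(ku0+1)} (@List.{ku0} @x0) (@List.cons.{ku0} @x0 @x4 @x5) (@List.cons.{ku0} @x0 @x8 @x9)) (@List.hasDecEq._proof_6.{ku0} @x0 @x4 @x5 @x8 @x9 @x11)) @(fun (x11 : @Eq.{(ku0+1)} @x0 @x4 @x8) => @Decidable.rec.{1} (@Eq.{(ku0+1)} (@List.{ku0} @x0) @x5 @x9) @(fun (x12 : @Decidable (@Eq.{(ku0+1)} (@List.{ku0} @x0) @x5 @x9)) => @Decidable (@Eq.{(ku0+1)} (@List.{ku0} @x0) (@List.cons.{ku0} @x0 @x4 @x5) (@List.cons.{ku0} @x0 @x8 @x9))) @(fun (x12 : @Not (@Eq.{(ku0+1)} (@List.{ku0} @x0) @x5 @x9))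 => @Decidable.isFalse (@Eq.{(ku0+1)} (@List.{ku0} @x0) (@List.cons.{ku0} @x0 @x4 @x5) (@List.cons.{ku0} @x0 @x8 @x9)) (@List.hasDecEq._proof_5.{ku0} @x0 @x4 @x5 @x8 @x9 @x12)) @(fun (x12 : @Eq.{(ku0+1)} (@List.{ku0} @x0) @x5 @x9) => @Decidable.isTrue (@Eq.{(ku0+1)} (@List.{ku0} @x0) (@List.cons.{ku0} @x0 @x4 @x5) (@List.cons.{ku0} @x0 @x8 @x9)) (@List.hasDecEq._proof_4.{ku0} @x0 @x4 @x5 @x8 @x9 @x11 @x12)) (@x6 @x9)) (@x1 @x4 @x8)) @x7) @x2 @x3)
private theorem _root_.Cfsg.Agent.KOb51a057.e28.{ku0} : @List.hasDecEq.{ku0} = @_root_.Cfsg.Agent.KOb51a057.k28.{ku0} := by delta _root_.Cfsg.Agent.KOb51a057.k28; funext a0 a1 a2 a3; refine (congrFun (_root_.Cfsg.Agent.KOb51a057.e2 (fun a2 a3 => @List.hasDecEq.{ku0} a0 a1 a2 a3) ?_ (fun c0 c1 => ?_) a2) a3 :) <;> [(funext b0; (cases b0 with | @nil  => (rfl') | @cons b0_0 b0_1 => (rfl'))); (funext b0; (cases b0 with | @nil  => (rfl') | @cons b0_0 b0_1 => (rfl')))]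
private noncomputable def _root_.Cfsg.Agent.KOb51a057.k29.{ku0} : ((x0 : Sort (ku0+1)) → ((@DecidableEq.{(ku0+1)} @x0) → @DecidableEq.{(ku0+1)} (@List.{ku0} @x0))) := @(fun (x0 : Sort (ku0+1)) (x1 : @DecidableEq.{(ku0+1)} @x0) (x2 : @List.{ku0} @x0) (x3 : @List.{ku0} @x0) => @List.rec.{1, ku0} @x0 @(fun (x4 : @List.{ku0} @x0) => @Decidable (@Eq.{(ku0+1)} (@List.{ku0} @x0) @x4 @x3)) (@List.rec.{1, ku0} @x0 @(fun (x4 : @List.{ku0} @x0) => @Decidable (@Eq.{(ku0+1)} (@List.{ku0} @x0) (@List.nil.{ku0} @x0) @x4)) (@Decidable.isTrue (@Eq.{(ku0+1)} (@List.{ku0} @x0) (@List.nil.{ku0} @x0) (@List.nil.{ku0} @x0)) (@List.hasDecEq._proof_1.{ku0} @x0)) @(fun (x4 : x0) (x5 : @List.{ku0} @x0) (x6 : @Decidable (@Eq.{(ku0+1)} (@List.{ku0} @x0) (@List.nil.{ku0} @x0) @x5)) => @Decidable.isFalse (@Eq.{(ku0+1)} (@List.{ku0} @x0) (@List.nil.{ku0} @x0) (@List.cons.{ku0} @x0 @x4 @x5)) (@List.hasDecEq._proof_3.{ku0} @x0 @x4 @x5))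 @x3) @(fun (x4 : x0) (x5 : @List.{ku0} @x0) (x6 : @Decidable (@Eq.{(ku0+1)} (@List.{ku0} @x0) @x5 @x3)) => @List.rec.{1, ku0} @x0 @(fun (x7 : @List.{ku0} @x0) => @Decidable (@Eq.{(ku0+1)} (@List.{ku0} @x0) (@List.cons.{ku0} @x0 @x4 @x5) @x7)) (@Decidable.isFalse (@Eq.{(ku0+1)} (@List.{ku0} @x0) (@List.cons.{ku0} @x0 @x4 @x5) (@List.nil.{ku0} @x0)) (@List.hasDecEq._proof_2.{ku0} @x0 @x4 @x5)) @(fun (x7 : x0) (x8 : @List.{ku0} @x0) (x9 : @Decidable (@Eq.{(ku0+1)} (@List.{ku0} @x0) (@List.cons.{ku0} @x0 @x4 @x5) @x8)) => @Decidable.rec.{1} (@Eq.{(ku0+1)} @x0 @x4 @x7) @(fun (x10 : @Decidable (@Eq.{(ku0+1)} @x0 @x4 @x7)) => @Decidable (@Eq.{(ku0+1)} (@List.{ku0} @x0) (@List.cons.{ku0} @x0 @x4 @x5) (@List.cons.{ku0} @x0 @x7 @x8))) @(fun (x10 : @Not (@Eq.{(ku0+1)} @x0 @x4 @x7)) => @Decidable.isFalse (@Eq.{(ku0+1)} (@List.{ku0} @x0) (@List.cons.{ku0} @x0 @x4 @x5) (@List.cons.{ku0} @x0 @x7 @x8)) (@List.hasDecEq._proof_6.{ku0}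 @x0 @x4 @x5 @x7 @x8 @x10)) @(fun (x10 : @Eq.{(ku0+1)} @x0 @x4 @x7) => @Decidable.rec.{1} (@Eq.{(ku0+1)} (@List.{ku0} @x0) @x5 @x8) @(fun (x11 : @Decidable (@Eq.{(ku0+1)} (@List.{ku0} @x0) @x5 @x8)) => @Decidable (@Eq.{(ku0+1)} (@List.{ku0} @x0) (@List.cons.{ku0} @x0 @x4 @x5) (@List.cons.{ku0} @x0 @x7 @x8))) @(fun (x11 : @Not (@Eq.{(ku0+1)} (@List.{ku0} @x0) @x5 @x8)) => @Decidable.isFalse (@Eq.{(ku0+1)} (@List.{ku0} @x0) (@List.cons.{ku0} @x0 @x4 @x5) (@List.cons.{ku0} @x0 @x7 @x8)) (@List.hasDecEq._proof_5.{ku0} @x0 @x4 @x5 @x7 @x8 @x11)) @(fun (x11 : @Eq.{(ku0+1)} (@List.{ku0} @x0) @x5 @x8) => @Decidable.isTrue (@Eq.{(ku0+1)} (@List.{ku0} @x0) (@List.cons.{ku0} @x0 @x4 @x5) (@List.cons.{ku0} @x0 @x7 @x8)) (@List.hasDecEq._proof_4.{ku0} @x0 @x4 @x5 @x7 @x8 @x10 @x11)) (@Cfsg.Agent.KOb51a057.k28.{ku0} @x0 @x1 @x5 @x8)) (@x1 @x4 @x7)) @x3) @x2)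
private theorem _root_.Cfsg.Agent.KOb51a057.e29.{ku0} : @instDecidableEqList.{ku0} = @_root_.Cfsg.Agent.KOb51a057.k29.{ku0} := by delta _root_.Cfsg.Agent.KOb51a057.k29; rewrite [← Cfsg.Agent.KOb51a057.e28.{ku0}]; rfl'

private noncomputable def row (x : ℕ) : ℕ :=
  Nat.mod (Nat.shiftRight T120 (Nat.mul 1024 (invL x))) (Nat.shiftLeft 1 2048)

private noncomputable def wd {β : Type} (w : List ℕ) : ((ℕ → ℕ) → β) → β :=
  List.rec (fun k => k fun q => q) (fun x _ ih k => Nat.rec (k fun q => q) (fun t _ =>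
    ih fun f => k fun q => Nat.land (Nat.shiftRight t (Nat.mul 8 (f q))) 255) (Nat.succ (row x))) w

private theorem row_eq (x q : ℕ) (h : q < 256) : Nat.land (Nat.shiftRight (row x) (Nat.mul 8 q)) 255 = act120 (invL x) q := by
  show ((T120 >>> (1024 * invL x)) % (1 <<< 2048)) >>> (8 * q) &&& (2 ^ 8 - 1) = T120 >>> (8 * (128 * invL x + q)) &&& (2 ^ 8 - 1)
  refine Nat.eq_of_testBit_eq fun i => ?_
  rw [Nat.one_shiftLeft]
  simp only [Nat.testBit_and, Nat.testBit_shiftRight, Nat.testBit_mod_two_pow, Nat.testBit_two_pow_sub_one]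
  by_cases hi : i < 8
  · rw [decide_eq_true (show 8 * q + i < 2048 by omega), Bool.true_and,
      show 1024 * invL x + (8 * q + i) = 8 * (128 * invL x + q) + i by omega]
  · rw [decide_eq_false hi, Bool.and_false, Bool.and_false]

private theorem wd_spec {β : Type} (w : List ℕ) : ∃ f : ℕ → ℕ, (∀ q < 256, f q = tri act120 w q ∧ f q < 256) ∧
    ∀ k : (ℕ → ℕ) → β, wd w k = k f := by
  induction w with
  | nil => exact ⟨fun q => q, fun q h => ⟨rfl, h⟩, fun _ => rfl⟩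
  | cons x w ih =>
    obtain ⟨f, h1, h2⟩ := ih
    refine ⟨fun q => Nat.land (Nat.shiftRight (row x) (Nat.mul 8 (f q))) 255, fun q h => ⟨?_, ?_⟩, fun k => h2 _⟩
    · exact (row_eq x _ (h1 q h).2).trans (congrArg (act120 (invL x)) (h1 q h).1)
    · exact Nat.lt_succ_of_le Nat.and_le_right

private noncomputable def rowQ (p : ℕ × FE) : List ℕ :=
  Nat.rec [] (fun j _ => wd (unl (tab p.2.f).w2) fun f =>
    List.rec [] (fun q _ ih => Nat.rec 0 (fun m _ => KP j m) (Nat.succ (f q)) :: ih) OT) (Nat.succ p.1)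

private theorem rowQ_eq : (fun p : ℕ × FE => OT.map (fun q => KP p.1 (tri act120 (unl (tab p.2.f).w2) q))) = rowQ := by
  funext p
  obtain ⟨f, h1, h2⟩ := wd_spec (β := List ℕ) (unl (tab p.2.f).w2)
  refine Eq.trans ?_ (h2 _).symm
  have h3 : ∀ q ∈ OT, q < 256 := by decide +kernel
  revert h3
  generalize OT = l
  intro h3
  induction l with
  | nil => rfl
  | cons q l ih =>
    rw [List.map_cons, ih fun a ha => h3 a (List.mem_cons_of_mem _ ha), ← (h1 q (h3 q List.mem_cons_self)).1]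

theorem LQ_eq : AL.map (fun p => OT.map (fun q => KP p.1 (tri act120 (unl (tab p.2.f).w2) q))) = LQ := by
  rw [rowQ_eq]
  refine of_decide_eq_true ?_
  delta Cfsg.Agent.H492.ThOrb.AL rowQ
  rewrite [Cfsg.Agent.KOb51a057.e0, Cfsg.Agent.KOb51a057.e29.{0}, Cfsg.Agent.KOb51a057.e5, Cfsg.Agent.KOb51a057.e18.{0, 0}, Cfsg.Agent.KOb51a057.e8, Cfsg.Agent.KOb51a057.e15, Cfsg.Agent.KOb51a057.e19.{0, 0}, Cfsg.Agent.KOb51a057.e20, Cfsg.Agent.KOb51a057.e23]
  decide +kernel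

theorem OW_len : OW.length = 56 := by decide +kernel

theorem OW_C : ∀ w ∈ OW, ∀ x ∈ w, isC x = true := by decide +kernel

theorem OW_eq : OW.map (fun w => tri act120 w 0) = OT := by decide +kernel

theorem OW_K : ∀ w ∈ OW, KP 0 (tr act120 w 0) = 1 := by decide +kernel

theorem tw_C : ∀ x ∈ tw, isC x = true := by decide +kernel

theorem tw_mem : tri act120 tw 0 ∈ OT := by decide +kernel

theorem tw_K : KP 0 (tr act120 tw 0) = 1 := by decide +kernel

private noncomputable def _root_.Cfsg.Agent.KOb51a057.k24 : ((x0 : @Bool) → ((x1 : @Bool) → @Decidable (@Eq.{1} @Bool @x0 @x1))) := @(fun (x0 : @Bool) (x1 : @Bool) => @Bool.rec.{1} @(fun (x2 : @Bool) => @Decidable (@Eq.{1} @Bool @x2 @x1)) (@Bool.rec.{1} @(fun (x2 : @Bool) => @Decidable (@Eq.{1} @Bool @Bool.false @x2)) (@Decidable.isTrue (@Eq.{1} @Bool @Bool.false @Bool.false) (@rfl.{1} @Bool @Bool.false)) (@Decidable.isFalse (@Eq.{1} @Bool @Bool.false @Bool.true)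 @(fun (x2 : @Eq.{1} @Bool @Bool.false @Bool.true) => @Bool.noConfusion.{0} @False @Bool.false @Bool.true @x2)) @x1) (@Bool.rec.{1} @(fun (x2 : @Bool) => @Decidable (@Eq.{1} @Bool @Bool.true @x2)) (@Decidable.isFalse (@Eq.{1} @Bool @Bool.true @Bool.false) @(fun (x2 : @Eq.{1} @Bool @Bool.true @Bool.false) => @Bool.noConfusion.{0} @False @Bool.true @Bool.false @x2)) (@Decidable.isTrue (@Eq.{1} @Bool @Bool.true @Bool.true) (@rfl.{1} @Bool @Bool.true)) @x1) @x0)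
private theorem _root_.Cfsg.Agent.KOb51a057.e24 : @Bool.decEq = @_root_.Cfsg.Agent.KOb51a057.k24 := by delta _root_.Cfsg.Agent.KOb51a057.k24; rfl'
private noncomputable def _root_.Cfsg.Agent.KOb51a057.k26.{ku0} : ((x0 : Sort (ku0+1)) → ((x1 : @BEq.{ku0} @x0) → ((@LawfulBEq.{ku0} @x0 @x1) → ((x3 : x0) → ((x4 : @List.{ku0} @x0) → @Decidable (@Membership.mem.{ku0, ku0} @x0 (@List.{ku0} @x0) (@List.instMembership.{ku0} @x0) @x4 @x3)))))) := @(fun (x0 : Sort (ku0+1)) (x1 : @BEq.{ku0} @x0) (x2 : @LawfulBEq.{ku0} @x0 @x1) (x3 : x0) (x4 : @List.{ku0} @x0) => @Decidable.rec.{1} (@Eq.{1} @Bool (@List.elem.{ku0} @x0 @x1 @x3 @x4) @Bool.true) @(fun (x5 : @Decidable (@Eq.{1} @Bool (@List.elem.{ku0} @x0 @x1 @x3 @x4) @Bool.true)) => @Decidable (@Membership.mem.{ku0, ku0} @x0 (@List.{ku0} @x0) (@List.instMembership.{ku0} @x0) @x4 @x3)) @(fun (x5 : @Not (@Eq.{1} @Bool (@List.elem.{ku0} @x0 @x1 @x3 @x4) @Bool.true)) =>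 @Decidable.isFalse (@Membership.mem.{ku0, ku0} @x0 (@List.{ku0} @x0) (@List.instMembership.{ku0} @x0) @x4 @x3) (@decidable_of_decidable_of_iff._proof_1 (@Eq.{1} @Bool (@List.elem.{ku0} @x0 @x1 @x3 @x4) @Bool.true) (@Membership.mem.{ku0, ku0} @x0 (@List.{ku0} @x0) (@List.instMembership.{ku0} @x0) @x4 @x3) (@List.instDecidableMemOfLawfulBEq._proof_1.{ku0} @x0 @x1 @x2 @x3 @x4) @x5)) @(fun (x5 : @Eq.{1} @Bool (@List.elem.{ku0} @x0 @x1 @x3 @x4) @Bool.true) => @Decidable.isTrue (@Membership.mem.{ku0, ku0} @x0 (@List.{ku0} @x0) (@List.instMembership.{ku0} @x0) @x4 @x3) (@Iff.mp (@Eq.{1} @Bool (@List.elem.{ku0} @x0 @x1 @x3 @x4) @Bool.true) (@Membership.mem.{ku0, ku0} @x0 (@List.{ku0} @x0) (@List.instMembership.{ku0} @x0) @x4 @x3) (@List.instDecidableMemOfLawfulBEq._proof_1.{ku0} @x0 @x1 @x2 @x3 @x4) @x5)) (@Cfsg.Agent.KOb51a057.k24 (@List.elem.{ku0} @x0 @x1 @x3 @x4) @Bool.true))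
private theorem _root_.Cfsg.Agent.KOb51a057.e26.{ku0} : @List.instDecidableMemOfLawfulBEq.{ku0} = @_root_.Cfsg.Agent.KOb51a057.k26.{ku0} := by delta _root_.Cfsg.Agent.KOb51a057.k26; rewrite [← Cfsg.Agent.KOb51a057.e24]; rfl'
private noncomputable def _root_.Cfsg.Agent.KOb51a057.k30 : ((x0 : Prop) → ((x1 : (x0 → Prop)) → ((@Decidable @x0) → (((x3 : x0) → @Decidable (@x1 @x3)) → @Decidable ((x4 : x0) → @x1 @x4))))) := @(fun (x0 : Prop) (x1 : (x0 → Prop)) (x2 : @Decidable @x0) (x3 : ((x3 : x0) → @Decidable (@x1 @x3))) => @Decidable.rec.{1} @x0 @(fun (x4 : @Decidable @x0) => @Decidable ((x5 : x0) → @x1 @x5)) @(fun (x4 : @Not @x0) => @Decidable.isTrue ((x5 : x0) → @x1 @x5) (@forall_prop_decidable._proof_2 @x0 @x1 @x4)) @(fun (x4 : x0) => @Decidable.rec.{1} (@x1 @x4) @(fun (x5 : @Decidable (@x1 @x4)) => @Decidable ((x6 : x0) → @x1 @x6)) @(fun (x5 : @Not (@x1 @x4)) => @Decidable.isFalse ((x6 : x0) → @x1 @x6)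 (@decidable_of_decidable_of_iff._proof_1 (@x1 @x4) ((x6 : x0) → @x1 @x6) (@forall_prop_decidable._proof_1 @x0 @x1 @x4) @x5)) @(fun (x5 : @x1 @x4) => @Decidable.isTrue ((x6 : x0) → @x1 @x6) (@Iff.mp (@x1 @x4) ((x6 : x0) → @x1 @x6) (@forall_prop_decidable._proof_1 @x0 @x1 @x4) @x5)) (@x3 @x4)) @x2)
private theorem _root_.Cfsg.Agent.KOb51a057.e30 : @forall_prop_decidable = @_root_.Cfsg.Agent.KOb51a057.k30 := by delta _root_.Cfsg.Agent.KOb51a057.k30; rfl'
private noncomputable def _root_.Cfsg.Agent.KOb51a057.k31 : @DecidableEq.{1} @Bool := @Cfsg.Agent.KOb51a057.k24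
private theorem _root_.Cfsg.Agent.KOb51a057.e31 : @instDecidableEqBool = @_root_.Cfsg.Agent.KOb51a057.k31 := by delta _root_.Cfsg.Agent.KOb51a057.k31; rewrite [← Cfsg.Agent.KOb51a057.e24]; rfl'
private noncomputable def _root_.Cfsg.Agent.KOb51a057.k32 : (by first | exact type_of% @Cfsg.Agent.Th.Word.isK | exact Unit : Sort _) := by first | (refine @Subtype.val _ (fun g => @Cfsg.Agent.Th.Word.isK = @g) (@Subtype.mk _ _ (@(fun (x0 : @Nat) => @Bool.rec.{1} @(fun (x1 : @Bool) => @Bool) @Bool.false (@Nat.ble @x0 (nat_lit 9)) (@Nat.ble (nat_lit 1) @x0))) ?_); rfl') | exact @Cfsg.Agent.Th.Word.isK | exact ()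
private theorem _root_.Cfsg.Agent.KOb51a057.e32 : (by first | exact @Cfsg.Agent.Th.Word.isK = @_root_.Cfsg.Agent.KOb51a057.k32 | exact True : Prop) := by first | (delta _root_.Cfsg.Agent.KOb51a057.k32; exact @Subtype.property _ (fun g => @Cfsg.Agent.Th.Word.isK = @g) _) | rfl | trivial
private noncomputable def _root_.Cfsg.Agent.KOb51a057.k33 : (by first | exact type_of% @Cfsg.Agent.Th.Word.isB | exact Unit : Sort _) := by first | (refine @Subtype.val _ (fun g => @Cfsg.Agent.Th.Word.isB = @g) (@Subtype.mk _ _ (@(fun (x0 : @Nat) => @Bool.rec.{1} @(fun (x1 : @Bool) => @Bool) @Bool.false (@Bool.rec.{1} @(fun (x1 : @Bool) => @Bool) (@Nat.ble (nat_lit 3) @x0) @Bool.true (@Nat.ble @x0 (nat_lit 1))) (@Cfsg.Agent.KOb51a057.k32 @x0))) ?_); rewrite [← Cfsg.Agent.KOb51a057.e32]; (try delta Cfsg.Agent.Th.Word.isB); (try generalize @Cfsg.Agent.Th.Word.isK = g0); rfl') | exact @Cfsg.Agent.Th.Word.isB | exact ()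
private theorem _root_.Cfsg.Agent.KOb51a057.e33 : (by first | exact @Cfsg.Agent.Th.Word.isB = @_root_.Cfsg.Agent.KOb51a057.k33 | exact True : Prop) := by first | (delta _root_.Cfsg.Agent.KOb51a057.k33; exact @Subtype.property _ (fun g => @Cfsg.Agent.Th.Word.isB = @g) _) | rfl | trivial

theorem OT_B : ∀ q ∈ OT, ∀ x < 16, isB x = true → act120 x q ∈ OT := by (first | (refine of_decide_eq_true ?_; rewrite [Cfsg.Agent.KOb51a057.e0, Cfsg.Agent.KOb51a057.e3.{0}, Cfsg.Agent.KOb51a057.e1, Cfsg.Agent.KOb51a057.e30, Cfsg.Agent.KOb51a057.e31, Cfsg.Agent.KOb51a057.e33, Cfsg.Agent.KOb51a057.e26.{0}, Cfsg.Agent.KOb51a057.e11]; decide +kernel) | decide +kernel)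

theorem isB_lt : ∀ x, isB x = true → x < 16 := by
  intro x h
  have := (isB_iff x).1 h
  omega

/-- counting in a list -/
def cnt (l : List ℕ) (i : ℕ) : ℕ := List.rec 0 (fun x _ ih => bif Nat.beq x i then Nat.succ ih else ih) l

/-- the number of the elements of the label `i'` at distance one from the flags of label `i`, weighted -/
noncomputable def MM (i i' : ℕ) : ℕ := ((tN.zip LQ).map fun p => bif Nat.beq p.1.1 i then p.1.2.2 * cnt p.2 i' else 0).sum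

private noncomputable def _root_.Cfsg.Agent.KOb51a057.k34 : ((x0 : @Nat) → ((x1 : ((@Fin @x0) → Prop)) → ((@DecidablePred.{1} (@Fin @x0) @x1) → @Decidable ((x3 : @Fin @x0) → @x1 @x3)))) := @(fun (x0 : @Nat) (x1 : ((@Fin @x0) → Prop)) (x2 : @DecidablePred.{1} (@Fin @x0) @x1) => @Decidable.rec.{1} ((x3 : @Nat) → ((x4 : @LT.lt.{0} @Nat @instLTNat @x3 @x0) → @x1 (@Fin.mk @x0 @x3 @x4))) @(fun (x3 : @Decidable ((x3 : @Nat) → ((x4 : @LT.lt.{0} @Nat @instLTNat @x3 @x0) → @x1 (@Fin.mk @x0 @x3 @x4)))) => @Decidable ((x4 : @Fin @x0) → @x1 @x4)) @(fun (x3 : @Not ((x3 : @Nat) → ((x4 : @LT.lt.{0} @Nat @instLTNat @x3 @x0) → @x1 (@Fin.mk @x0 @x3 @x4)))) => @Decidable.isFalse ((x4 : @Fin @x0) → @x1 @x4) (@decidable_of_decidable_of_iff._proof_1 ((x4 : @Nat) → ((x5 : @LT.lt.{0} @Nat @instLTNat @x4 @x0) → @x1 (@Fin.mk @x0 @x4 @x5))) ((x4 : @Fin @x0) → @x1 @x4) (@Nat.decidableForallFin._proof_1 @x0 @x1) @x3)) @(fun (x3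 : ((x3 : @Nat) → ((x4 : @LT.lt.{0} @Nat @instLTNat @x3 @x0) → @x1 (@Fin.mk @x0 @x3 @x4)))) => @Decidable.isTrue ((x4 : @Fin @x0) → @x1 @x4) (@Iff.mp ((x4 : @Nat) → ((x5 : @LT.lt.{0} @Nat @instLTNat @x4 @x0) → @x1 (@Fin.mk @x0 @x4 @x5))) ((x4 : @Fin @x0) → @x1 @x4) (@Nat.decidableForallFin._proof_1 @x0 @x1) @x3)) (@Cfsg.Agent.KOb51a057.k1 @x0 @(fun (x3 : @Nat) (x4 : @LT.lt.{0} @Nat @instLTNat @x3 @x0) => @x1 (@Fin.mk @x0 @x3 @x4)) @(fun (x3 : @Nat) (x4 : @LT.lt.{0} @Nat @instLTNat @x3 @x0) => @x2 (@Fin.mk @x0 @x3 @x4))))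
private theorem _root_.Cfsg.Agent.KOb51a057.e34 : @Nat.decidableForallFin = @_root_.Cfsg.Agent.KOb51a057.k34 := by delta _root_.Cfsg.Agent.KOb51a057.k34; rewrite [← Cfsg.Agent.KOb51a057.e1]; rfl'
private noncomputable def _root_.Cfsg.Agent.KOb51a057.k35.{ku0, ku1} : ((x0 : Sort (ku0+1)) → ((x1 : Sort (ku1+1)) → ((x0 → (x1 → x1)) → (x1 → ((@List.{ku0} @x0) → x1))))) := @(fun (x0 : Sort (ku0+1)) (x1 : Sort (ku1+1)) (x2 : (x0 → (x1 → x1))) (x3 : x1) (x4 : @List.{ku0} @x0) => @List.rec.{(ku1+1), ku0} @x0 @(fun (x5 : @List.{ku0} @x0) => x1) @x3 @(fun (x5 : x0) (x6 : @List.{ku0} @x0) (x7 : x1) => @x2 @x5 @x7) @x4)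
private theorem _root_.Cfsg.Agent.KOb51a057.e35.{ku0, ku1} : @List.foldr.{ku0, ku1} = @_root_.Cfsg.Agent.KOb51a057.k35.{ku0, ku1} := by delta _root_.Cfsg.Agent.KOb51a057.k35; funext a0 a1 a2 a3 a4; refine (_root_.Cfsg.Agent.KOb51a057.e2 (fun a4 => @List.foldr.{ku0, ku1} a0 a1 a2 a3 a4) ?_ (fun c0 c1 => ?_) a4 :) <;> (rfl')
private noncomputable def _root_.Cfsg.Agent.KOb51a057.k36 : (by first | exact type_of% @Cfsg.Agent.H492.ThLineData.cnt | exact Unit : Sort _) := by first | (refine @Subtype.val _ (fun g => @Cfsg.Agent.H492.ThLineData.cnt = @g) (@Subtype.mk _ _ (@(fun (x0 : @List.{0} @Nat) (x1 : @Nat) => @List.rec.{1, 0} @Nat @(fun (x2 : @List.{0} @Nat) => @Nat) (nat_lit 0) @(fun (x2 : @Nat) (x3 : @List.{0} @Nat) (x4 : @Nat) => @Bool.rec.{1} @(fun (x5 : @Bool) => @Nat) @x4 (@Nat.succ @x4) (@Nat.beq @x2 @x1)) @x0)) ?_); rfl') | exact @Cfsg.Agent.H492.ThLineData.cnt | exact ()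
private theorem _root_.Cfsg.Agent.KOb51a057.e36 : (by first | exact @Cfsg.Agent.H492.ThLineData.cnt = @_root_.Cfsg.Agent.KOb51a057.k36 | exact True : Prop) := by first | (delta _root_.Cfsg.Agent.KOb51a057.k36; exact @Subtype.property _ (fun g => @Cfsg.Agent.H492.ThLineData.cnt = @g) _) | rfl | trivial
private noncomputable def _root_.Cfsg.Agent.KOb51a057.k38.{ku0, ku1, ku2} : ((x0 : Sort (ku0+1)) → ((x1 : Sort (ku1+1)) → ((x2 : Sort (ku2+1)) → ((x0 → (x1 → x2)) → ((@List.{ku0} @x0) → ((@List.{ku1} @x1) → @List.{ku2} @x2)))))) := @(fun (x0 : Sort (ku0+1)) (x1 : Sort (ku1+1)) (x2 : Sort (ku2+1)) (x3 : (x0 → (x1 → x2))) (x4 : @List.{ku0} @x0) (x5 : @List.{ku1} @x1) => @List.rec.{(max (ku1+1) (ku2+1)), ku0} @x0 @(fun (x6 : @List.{ku0} @x0) => ((@List.{ku1} @x1) → @List.{ku2} @x2)) @(fun (x6 : @List.{ku1} @x1) => @List.nil.{ku2} @x2) @(fun (x6 : x0) (x7 : @List.{ku0} @x0) (x8 : ((@List.{ku1} @x1) → @List.{ku2}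 @x2)) (x9 : @List.{ku1} @x1) => @List.rec.{(ku2+1), ku1} @x1 @(fun (x10 : @List.{ku1} @x1) => @List.{ku2} @x2) (@List.nil.{ku2} @x2) @(fun (x10 : x1) (x11 : @List.{ku1} @x1) (x12 : @List.{ku2} @x2) => @List.cons.{ku2} @x2 (@x3 @x6 @x10) (@x8 @x11)) @x9) @x4 @x5)
private theorem _root_.Cfsg.Agent.KOb51a057.e38.{ku0, ku1, ku2} : @List.zipWith.{ku0, ku1, ku2} = @_root_.Cfsg.Agent.KOb51a057.k38.{ku0, ku1, ku2} := by delta _root_.Cfsg.Agent.KOb51a057.k38; funext a0 a1 a2 a3 a4 a5; refine (congrFun (_root_.Cfsg.Agent.KOb51a057.e2 (fun a4 a5 => @List.zipWith.{ku0, ku1, ku2} a0 a1 a2 a3 a4 a5) ?_ (fun c0 c1 => ?_) a4) a5 :) <;> [(funext b0; (rfl')); (funext b0; (cases b0 with | @nil  => (rfl') | @cons b0_0 b0_1 => (rfl')))]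
private noncomputable def _root_.Cfsg.Agent.KOb51a057.k39 : (by first | exact type_of% @Cfsg.Agent.H492.ThLineData.MM | exact Unit : Sort _) := by first | (refine @Subtype.val _ (fun g => @Cfsg.Agent.H492.ThLineData.MM = @g) (@Subtype.mk _ _ (@(fun (x0 : @Nat) (x1 : @Nat) => @Cfsg.Agent.KOb51a057.k35.{0, 0} @Nat @Nat @(fun (x2 : @Nat) (x3 : @Nat) => @Nat.add @x2 @x3) (nat_lit 0) (@Cfsg.Agent.KOb51a057.k18.{0, 0} (@Prod.{0, 0} (@Prod.{0, 0} @Nat (@Prod.{0, 0} @Nat @Nat)) (@List.{0} @Nat)) @Nat @(fun (x2 : @Prod.{0, 0} (@Prod.{0, 0} @Nat (@Prod.{0, 0} @Nat @Nat)) (@List.{0} @Nat)) => @Bool.rec.{1} @(fun (x3 : @Bool) => @Nat) (nat_lit 0) (@Nat.mul (@Prod.snd.{0, 0} @Nat @Nat (@Prod.snd.{0, 0} @Nat (@Prod.{0, 0} @Nat @Nat) (@Prod.fst.{0, 0} (@Prod.{0, 0} @Nat (@Prod.{0, 0} @Nat @Nat)) (@List.{0} @Nat) @x2))) (@Cfsg.Agent.KOb51a057.k36 (@Prod.snd.{0, 0} (@Prod.{0, 0} @Nat (@Prod.{0, 0} @Nat @Nat)) (@List.{0}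 @Nat) @x2) @x1)) (@Nat.beq (@Prod.fst.{0, 0} @Nat (@Prod.{0, 0} @Nat @Nat) (@Prod.fst.{0, 0} (@Prod.{0, 0} @Nat (@Prod.{0, 0} @Nat @Nat)) (@List.{0} @Nat) @x2)) @x0)) (@Cfsg.Agent.KOb51a057.k38.{0, 0, 0} (@Prod.{0, 0} @Nat (@Prod.{0, 0} @Nat @Nat)) (@List.{0} @Nat) (@Prod.{0, 0} (@Prod.{0, 0} @Nat (@Prod.{0, 0} @Nat @Nat)) (@List.{0} @Nat)) (@Prod.mk.{0, 0} (@Prod.{0, 0} @Nat (@Prod.{0, 0} @Nat @Nat)) (@List.{0} @Nat)) @Cfsg.Agent.H492.ThOrb.tN @Cfsg.Agent.H492.ThLineData.LQ)))) ?_); rewrite [← Cfsg.Agent.KOb51a057.e38.{0, 0, 0}, ← Cfsg.Agent.KOb51a057.e36, ← Cfsg.Agent.KOb51a057.e18.{0, 0}, ← Cfsg.Agent.KOb51a057.e35.{0, 0}]; (try delta Cfsg.Agent.H492.ThLineData.MM); (try generalize @Cfsg.Agent.H492.ThLineData.cnt = g0); (try generalize @Cfsg.Agent.H492.ThOrb.tN = g1); (try generalize @Cfsg.Agent.H492.ThLineData.LQ = g2); rfl') | exact @Cfsg.Agent.H492.ThLineData.MM | exact ()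
private theorem _root_.Cfsg.Agent.KOb51a057.e39 : (by first | exact @Cfsg.Agent.H492.ThLineData.MM = @_root_.Cfsg.Agent.KOb51a057.k39 | exact True : Prop) := by first | (delta _root_.Cfsg.Agent.KOb51a057.k39; exact @Subtype.property _ (fun g => @Cfsg.Agent.H492.ThLineData.MM = @g) _) | rfl | trivial
private noncomputable def _root_.Cfsg.Agent.KOb51a057.k40.{ku0} : ((x0 : @Nat) → ((x1 : ((@Fin (@HAdd.hAdd.{0, 0, 0} @Nat @Nat @Nat (@instHAdd.{0} @Nat @instAddNat) @x0 (@OfNat.ofNat.{0} @Nat (nat_lit 1) (@instOfNatNat (nat_lit 1))))) → Sort ku0)) → ((@x1 (@OfNat.ofNat.{0} (@Fin (@HAdd.hAdd.{0, 0, 0} @Nat @Nat @Nat (@instHAdd.{0} @Nat @instAddNat) @x0 (@OfNat.ofNat.{0} @Nat (nat_lit 1) (@instOfNatNat (nat_lit 1))))) (nat_lit 0) (@Fin.instOfNat (@HAdd.hAdd.{0, 0, 0} @Nat @Nat @Nat (@instHAdd.{0} @Nat @instAddNat) @x0 (@OfNat.ofNat.{0} @Nat (nat_lit 1) (@instOfNatNat (nat_lit 1)))) (@instNeZeroNatHAdd_1 @x0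 (@OfNat.ofNat.{0} @Nat (nat_lit 1) (@instOfNatNat (nat_lit 1))) (@Nat.instNeZeroSucc (@OfNat.ofNat.{0} @Nat (nat_lit 0) (@instOfNatNat (nat_lit 0))))) (nat_lit 0)))) → (((x3 : @Fin @x0) → ((@x1 (@Fin.castSucc @x0 @x3)) → @x1 (@Fin.succ @x0 @x3))) → ((x4 : @Nat) → ((x5 : @LT.lt.{0} @Nat @instLTNat @x4 (@HAdd.hAdd.{0, 0, 0} @Nat @Nat @Nat (@instHAdd.{0} @Nat @instAddNat) @x0 (@OfNat.ofNat.{0} @Nat (nat_lit 1) (@instOfNatNat (nat_lit 1))))) → @x1 (@Fin.mk (@HAdd.hAdd.{0, 0, 0} @Nat @Nat @Nat (@instHAdd.{0} @Nat @instAddNat) @x0 (@OfNat.ofNat.{0} @Nat (nat_lit 1) (@instOfNatNat (nat_lit 1)))) @x4 @x5))))))) := @(fun (x0 : @Nat) (x1 : ((@Fin (@HAdd.hAdd.{0, 0, 0} @Nat @Nat @Nat (@instHAdd.{0} @Nat @instAddNat) @x0 (@OfNat.ofNat.{0} @Nat (nat_lit 1) (@instOfNatNat (nat_lit 1))))) → Sort ku0)) (x2 : @x1 (@OfNat.ofNat.{0} (@Fin (@HAdd.hAdd.{0, 0, 0} @Nat @Nat @Nat (@instHAdd.{0} @Nat @instAddNat) @x0 (@OfNat.ofNat.{0}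 @Nat (nat_lit 1) (@instOfNatNat (nat_lit 1))))) (nat_lit 0) (@Fin.instOfNat (@HAdd.hAdd.{0, 0, 0} @Nat @Nat @Nat (@instHAdd.{0} @Nat @instAddNat) @x0 (@OfNat.ofNat.{0} @Nat (nat_lit 1) (@instOfNatNat (nat_lit 1)))) (@Fin.succRec._proof_1 @x0) (nat_lit 0)))) (x3 : ((x3 : @Fin @x0) → ((@x1 (@Fin.castSucc @x0 @x3)) → @x1 (@Fin.succ @x0 @x3)))) (x4 : @Nat) (x5 : @LT.lt.{0} @Nat @instLTNat @x4 (@HAdd.hAdd.{0, 0, 0} @Nat @Nat @Nat (@instHAdd.{0} @Nat @instAddNat) @x0 (@OfNat.ofNat.{0} @Nat (nat_lit 1) (@instOfNatNat (nat_lit 1))))) => @Nat.rec.{ku0} @(fun (x6 : @Nat) => ((x7 : @LT.lt.{0} @Nat @instLTNat @x6 (@HAdd.hAdd.{0, 0, 0} @Nat @Nat @Nat (@instHAdd.{0} @Nat @instAddNat) @x0 (@OfNat.ofNat.{0} @Nat (nat_lit 1) (@instOfNatNat (nat_lit 1))))) → @x1 (@Fin.mk (@HAdd.hAdd.{0, 0, 0} @Nat @Nat @Nat (@instHAdd.{0} @Nat @instAddNat) @x0 (@OfNat.ofNat.{0} @Nat (nat_lit 1) (@instOfNatNat (nat_lit 1)))) @x6 @x7)))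 @(fun (x6 : @LT.lt.{0} @Nat @instLTNat @Nat.zero (@HAdd.hAdd.{0, 0, 0} @Nat @Nat @Nat (@instHAdd.{0} @Nat @instAddNat) @x0 (@OfNat.ofNat.{0} @Nat (nat_lit 1) (@instOfNatNat (nat_lit 1))))) => @Eq.rec.{ku0, (ku0+1)} (Sort ku0) (@x1 (@OfNat.ofNat.{0} (@Fin (@HAdd.hAdd.{0, 0, 0} @Nat @Nat @Nat (@instHAdd.{0} @Nat @instAddNat) @x0 (@OfNat.ofNat.{0} @Nat (nat_lit 1) (@instOfNatNat (nat_lit 1))))) (nat_lit 0) (@Fin.instOfNat (@HAdd.hAdd.{0, 0, 0} @Nat @Nat @Nat (@instHAdd.{0} @Nat @instAddNat) @x0 (@OfNat.ofNat.{0} @Nat (nat_lit 1) (@instOfNatNat (nat_lit 1)))) (@Fin.succRec._proof_1 @x0) (nat_lit 0)))) @(fun (x7 : Sort ku0) (x8 : @Eq.{(ku0+1)} (Sort ku0) (@x1 (@OfNat.ofNat.{0} (@Fin (@HAdd.hAdd.{0, 0, 0} @Nat @Nat @Nat (@instHAdd.{0} @Nat @instAddNat) @x0 (@OfNat.ofNat.{0} @Nat (nat_lit 1) (@instOfNatNat (nat_lit 1))))) (nat_lit 0) (@Fin.instOfNat (@HAdd.hAdd.{0, 0, 0} @Nat @Nat @Nat (@instHAdd.{0} @Nat @instAddNat)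 @x0 (@OfNat.ofNat.{0} @Nat (nat_lit 1) (@instOfNatNat (nat_lit 1)))) (@Fin.succRec._proof_1 @x0) (nat_lit 0)))) @x7) => x7) @x2 (@x1 (@Fin.mk (@HAdd.hAdd.{0, 0, 0} @Nat @Nat @Nat (@instHAdd.{0} @Nat @instAddNat) @x0 (@OfNat.ofNat.{0} @Nat (nat_lit 1) (@instOfNatNat (nat_lit 1)))) (@OfNat.ofNat.{0} @Nat (nat_lit 0) (@instOfNatNat (nat_lit 0))) @x6)) (@Eq.symm.{(ku0+1)} (Sort ku0) (@x1 (@Fin.mk (@HAdd.hAdd.{0, 0, 0} @Nat @Nat @Nat (@instHAdd.{0} @Nat @instAddNat) @x0 (@OfNat.ofNat.{0} @Nat (nat_lit 1) (@instOfNatNat (nat_lit 1)))) (@OfNat.ofNat.{0} @Nat (nat_lit 0) (@instOfNatNat (nat_lit 0))) @x6)) (@x1 (@OfNat.ofNat.{0} (@Fin (@HAdd.hAdd.{0, 0, 0} @Nat @Nat @Nat (@instHAdd.{0} @Nat @instAddNat) @x0 (@OfNat.ofNat.{0} @Nat (nat_lit 1) (@instOfNatNat (nat_lit 1))))) (nat_lit 0) (@Fin.instOfNat (@HAdd.hAdd.{0, 0, 0} @Nat @Nat @Nat (@instHAdd.{0} @Nat @instAddNat) @x0 (@OfNat.ofNat.{0} @Nat (nat_lit 1) (@instOfNatNat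 (nat_lit 1)))) (@Fin.succRec._proof_1 @x0) (nat_lit 0)))) (@Fin.induction.go._proof_1.{ku0} @x0 @x1 @x6))) @(fun (x6 : @Nat) (x7 : ((x7 : @LT.lt.{0} @Nat @instLTNat @x6 (@HAdd.hAdd.{0, 0, 0} @Nat @Nat @Nat (@instHAdd.{0} @Nat @instAddNat) @x0 (@OfNat.ofNat.{0} @Nat (nat_lit 1) (@instOfNatNat (nat_lit 1))))) → @x1 (@Fin.mk (@HAdd.hAdd.{0, 0, 0} @Nat @Nat @Nat (@instHAdd.{0} @Nat @instAddNat) @x0 (@OfNat.ofNat.{0} @Nat (nat_lit 1) (@instOfNatNat (nat_lit 1)))) @x6 @x7))) (x8 : @LT.lt.{0} @Nat @instLTNat (@Nat.succ @x6) (@HAdd.hAdd.{0, 0, 0} @Nat @Nat @Nat (@instHAdd.{0} @Nat @instAddNat) @x0 (@OfNat.ofNat.{0} @Nat (nat_lit 1) (@instOfNatNat (nat_lit 1))))) => @x3 (@Fin.mk @x0 @x6 (@Nat.lt_of_succ_lt_succ @x6 @x0 @x8)) (@x7 (@Fin.induction.go._proof_2 @x0 @x6 @x8))) @x4 @x5)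
private theorem _root_.Cfsg.Agent.KOb51a057.e40.{ku0} : @Fin.induction.go.{ku0} = @_root_.Cfsg.Agent.KOb51a057.k40.{ku0} := by delta _root_.Cfsg.Agent.KOb51a057.k40; funext a0 a1 a2 a3 a4 a5; refine (congrFun (_root_.Cfsg.Agent.KOb51a057.e21 (fun a4 a5 => @Fin.induction.go.{ku0} a0 a1 a2 a3 a4 a5) ?_ (fun c0 => ?_) a4) a5 :) <;> (rfl')
private noncomputable def _root_.Cfsg.Agent.KOb51a057.k41.{ku0} : ((x0 : @Nat) → ((x1 : ((@Fin (@HAdd.hAdd.{0, 0, 0} @Nat @Nat @Nat (@instHAdd.{0} @Nat @instAddNat) @x0 (@OfNat.ofNat.{0} @Nat (nat_lit 1) (@instOfNatNat (nat_lit 1))))) → Sort ku0)) → ((@x1 (@OfNat.ofNat.{0} (@Fin (@HAdd.hAdd.{0, 0, 0} @Nat @Nat @Nat (@instHAdd.{0} @Nat @instAddNat) @x0 (@OfNat.ofNat.{0} @Nat (nat_lit 1) (@instOfNatNat (nat_lit 1))))) (nat_lit 0) (@Fin.instOfNat (@HAdd.hAdd.{0, 0, 0} @Nat @Nat @Nat (@instHAdd.{0} @Nat @instAddNat) @x0 (@OfNat.ofNat.{0} @Nat (nat_lit 1) (@instOfNatNat (nat_lit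 1)))) (@instNeZeroNatHAdd_1 @x0 (@OfNat.ofNat.{0} @Nat (nat_lit 1) (@instOfNatNat (nat_lit 1))) (@Nat.instNeZeroSucc (@OfNat.ofNat.{0} @Nat (nat_lit 0) (@instOfNatNat (nat_lit 0))))) (nat_lit 0)))) → (((x3 : @Fin @x0) → ((@x1 (@Fin.castSucc @x0 @x3)) → @x1 (@Fin.succ @x0 @x3))) → ((x4 : @Fin (@HAdd.hAdd.{0, 0, 0} @Nat @Nat @Nat (@instHAdd.{0} @Nat @instAddNat) @x0 (@OfNat.ofNat.{0} @Nat (nat_lit 1) (@instOfNatNat (nat_lit 1))))) → @x1 @x4))))) := @(fun (x0 : @Nat) (x1 : ((@Fin (@HAdd.hAdd.{0, 0, 0} @Nat @Nat @Nat (@instHAdd.{0} @Nat @instAddNat) @x0 (@OfNat.ofNat.{0} @Nat (nat_lit 1) (@instOfNatNat (nat_lit 1))))) → Sort ku0)) (x2 : @x1 (@OfNat.ofNat.{0} (@Fin (@HAdd.hAdd.{0, 0, 0} @Nat @Nat @Nat (@instHAdd.{0} @Nat @instAddNat) @x0 (@OfNat.ofNat.{0} @Nat (nat_lit 1) (@instOfNatNat (nat_lit 1))))) (nat_lit 0) (@Fin.instOfNat (@HAdd.hAdd.{0, 0, 0} @Nat @Nat @Nat (@instHAdd.{0} @Nat @instAddNat) @x0 (@OfNat.ofNat.{0}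 @Nat (nat_lit 1) (@instOfNatNat (nat_lit 1)))) (@Fin.succRec._proof_1 @x0) (nat_lit 0)))) (x3 : ((x3 : @Fin @x0) → ((@x1 (@Fin.castSucc @x0 @x3)) → @x1 (@Fin.succ @x0 @x3)))) (x4 : @Fin (@HAdd.hAdd.{0, 0, 0} @Nat @Nat @Nat (@instHAdd.{0} @Nat @instAddNat) @x0 (@OfNat.ofNat.{0} @Nat (nat_lit 1) (@instOfNatNat (nat_lit 1))))) => @Fin.rec.{ku0} (@Nat.add @x0 (nat_lit 1)) @(fun (x5 : @Fin (@HAdd.hAdd.{0, 0, 0} @Nat @Nat @Nat (@instHAdd.{0} @Nat @instAddNat) @x0 (@OfNat.ofNat.{0} @Nat (nat_lit 1) (@instOfNatNat (nat_lit 1))))) => @x1 @x5) @(fun (x5 : @Nat) (x6 : @LT.lt.{0} @Nat @instLTNat @x5 (@HAdd.hAdd.{0, 0, 0} @Nat @Nat @Nat (@instHAdd.{0} @Nat @instAddNat) @x0 (@OfNat.ofNat.{0} @Nat (nat_lit 1) (@instOfNatNat (nat_lit 1))))) => @Cfsg.Agent.KOb51a057.k40.{ku0} @x0 @x1 @x2 @x3 @x5 @x6) @x4)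
private theorem _root_.Cfsg.Agent.KOb51a057.e41.{ku0} : @Fin.induction.{ku0} = @_root_.Cfsg.Agent.KOb51a057.k41.{ku0} := by delta _root_.Cfsg.Agent.KOb51a057.k41; rewrite [← Cfsg.Agent.KOb51a057.e40.{ku0}]; rfl'
private noncomputable def _root_.Cfsg.Agent.KOb51a057.k42.{ku0} : ((x0 : @Nat) → ((x1 : ((@Fin (@HAdd.hAdd.{0, 0, 0} @Nat @Nat @Nat (@instHAdd.{0} @Nat @instAddNat) @x0 (@OfNat.ofNat.{0} @Nat (nat_lit 1) (@instOfNatNat (nat_lit 1))))) → Sort ku0)) → ((@x1 (@OfNat.ofNat.{0} (@Fin (@HAdd.hAdd.{0, 0, 0} @Nat @Nat @Nat (@instHAdd.{0} @Nat @instAddNat) @x0 (@OfNat.ofNat.{0} @Nat (nat_lit 1) (@instOfNatNat (nat_lit 1))))) (nat_lit 0) (@Fin.instOfNat (@HAdd.hAdd.{0, 0, 0} @Nat @Nat @Nat (@instHAdd.{0} @Nat @instAddNat) @x0 (@OfNat.ofNat.{0} @Nat (nat_lit 1) (@instOfNatNat (nat_lit 1)))) (@instNeZeroNatHAdd_1 @x0 (@OfNat.ofNat.{0} @Nat (nat_lit 1) (@instOfNatNat (nat_lit 1))) (@Nat.instNeZeroSucc (@OfNat.ofNat.{0}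 @Nat (nat_lit 0) (@instOfNatNat (nat_lit 0))))) (nat_lit 0)))) → (((x3 : @Fin @x0) → @x1 (@Fin.succ @x0 @x3)) → ((x4 : @Fin (@HAdd.hAdd.{0, 0, 0} @Nat @Nat @Nat (@instHAdd.{0} @Nat @instAddNat) @x0 (@OfNat.ofNat.{0} @Nat (nat_lit 1) (@instOfNatNat (nat_lit 1))))) → @x1 @x4))))) := @(fun (x0 : @Nat) (x1 : ((@Fin (@HAdd.hAdd.{0, 0, 0} @Nat @Nat @Nat (@instHAdd.{0} @Nat @instAddNat) @x0 (@OfNat.ofNat.{0} @Nat (nat_lit 1) (@instOfNatNat (nat_lit 1))))) → Sort ku0)) (x2 : @x1 (@OfNat.ofNat.{0} (@Fin (@HAdd.hAdd.{0, 0, 0} @Nat @Nat @Nat (@instHAdd.{0} @Nat @instAddNat) @x0 (@OfNat.ofNat.{0} @Nat (nat_lit 1) (@instOfNatNat (nat_lit 1))))) (nat_lit 0) (@Fin.instOfNat (@HAdd.hAdd.{0, 0, 0} @Nat @Nat @Nat (@instHAdd.{0} @Nat @instAddNat) @x0 (@OfNat.ofNat.{0} @Nat (nat_lit 1) (@instOfNatNat (nat_lit 1)))) (@Fin.succRec._proof_1 @x0) (nat_lit 0)))) (x3 : ((x3 : @Fin @x0) → @x1 (@Fin.succ @x0 @x3))) (x4 : @Fin (@HAdd.hAdd.{0,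 0, 0} @Nat @Nat @Nat (@instHAdd.{0} @Nat @instAddNat) @x0 (@OfNat.ofNat.{0} @Nat (nat_lit 1) (@instOfNatNat (nat_lit 1))))) => @Cfsg.Agent.KOb51a057.k41.{ku0} @x0 @(fun (x5 : @Fin (@HAdd.hAdd.{0, 0, 0} @Nat @Nat @Nat (@instHAdd.{0} @Nat @instAddNat) @x0 (@OfNat.ofNat.{0} @Nat (nat_lit 1) (@instOfNatNat (nat_lit 1))))) => @x1 @x5) @x2 @(fun (x5 : @Fin @x0) (x6 : @x1 (@Fin.castSucc @x0 @x5)) => @x3 @x5) @x4)
private theorem _root_.Cfsg.Agent.KOb51a057.e42.{ku0} : @Fin.cases.{ku0} = @_root_.Cfsg.Agent.KOb51a057.k42.{ku0} := by delta _root_.Cfsg.Agent.KOb51a057.k42; rewrite [← Cfsg.Agent.KOb51a057.e41.{ku0}]; rfl'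
private noncomputable def _root_.Cfsg.Agent.KOb51a057.k43.{ku0} : ((x0 : @Nat) → ((x1 : ((@Fin (@HAdd.hAdd.{0, 0, 0} @Nat @Nat @Nat (@instHAdd.{0} @Nat @instAddNat) @x0 (@OfNat.ofNat.{0} @Nat (nat_lit 1) (@instOfNatNat (nat_lit 1))))) → Sort ku0)) → ((@x1 (@OfNat.ofNat.{0} (@Fin (@HAdd.hAdd.{0, 0, 0} @Nat @Nat @Nat (@instHAdd.{0} @Nat @instAddNat) @x0 (@OfNat.ofNat.{0} @Nat (nat_lit 1) (@instOfNatNat (nat_lit 1))))) (nat_lit 0) (@Fin.instOfNat (@HAdd.hAdd.{0, 0, 0} @Nat @Nat @Nat (@instHAdd.{0} @Nat @instAddNat) @x0 (@OfNat.ofNat.{0} @Nat (nat_lit 1) (@instOfNatNat (nat_lit 1)))) (@instNeZeroNatHAdd_1 @x0 (@OfNat.ofNat.{0} @Nat (nat_lit 1) (@instOfNatNat (nat_lit 1))) (@Nat.instNeZeroSucc (@OfNat.ofNat.{0} @Nat (nat_lit 0) (@instOfNatNat (nat_lit 0))))) (nat_lit 0)))) → (((x3 : @Fin @x0) → @x1 (@Fin.succ @x0 @x3)) → ((x4 : @Fin (@HAdd.hAdd.{0, 0, 0} @Nat @Nat @Nat (@instHAdd.{0} @Nat @instAddNat) @x0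 (@OfNat.ofNat.{0} @Nat (nat_lit 1) (@instOfNatNat (nat_lit 1))))) → @x1 @x4))))) := @(fun (x0 : @Nat) (x1 : ((@Fin (@HAdd.hAdd.{0, 0, 0} @Nat @Nat @Nat (@instHAdd.{0} @Nat @instAddNat) @x0 (@OfNat.ofNat.{0} @Nat (nat_lit 1) (@instOfNatNat (nat_lit 1))))) → Sort ku0)) (x2 : @x1 (@OfNat.ofNat.{0} (@Fin (@HAdd.hAdd.{0, 0, 0} @Nat @Nat @Nat (@instHAdd.{0} @Nat @instAddNat) @x0 (@OfNat.ofNat.{0} @Nat (nat_lit 1) (@instOfNatNat (nat_lit 1))))) (nat_lit 0) (@Fin.instOfNat (@HAdd.hAdd.{0, 0, 0} @Nat @Nat @Nat (@instHAdd.{0} @Nat @instAddNat) @x0 (@OfNat.ofNat.{0} @Nat (nat_lit 1) (@instOfNatNat (nat_lit 1)))) (@Fin.cons._proof_1 @x0) (nat_lit 0)))) (x3 : ((x3 : @Fin @x0) → @x1 (@Fin.succ @x0 @x3))) (x4 : @Fin (@HAdd.hAdd.{0, 0, 0} @Nat @Nat @Nat (@instHAdd.{0} @Nat @instAddNat) @x0 (@OfNat.ofNat.{0} @Nat (nat_lit 1) (@instOfNatNat (nat_lit 1))))) => @Cfsg.Agent.KOb51a057.k42.{ku0} @x0 @(fun (x5 : @Fin (@HAdd.hAdd.{0,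 0, 0} @Nat @Nat @Nat (@instHAdd.{0} @Nat @instAddNat) @x0 (@OfNat.ofNat.{0} @Nat (nat_lit 1) (@instOfNatNat (nat_lit 1))))) => @x1 @x5) @x2 @x3 @x4)
private theorem _root_.Cfsg.Agent.KOb51a057.e43.{ku0} : @Fin.cons.{ku0} = @_root_.Cfsg.Agent.KOb51a057.k43.{ku0} := by delta _root_.Cfsg.Agent.KOb51a057.k43; rewrite [← Cfsg.Agent.KOb51a057.e42.{ku0}]; rfl'
private noncomputable def _root_.Cfsg.Agent.KOb51a057.k44.{ku0} : ((x0 : Sort ku0) → ((@Fin (@OfNat.ofNat.{0} @Nat (nat_lit 0) (@instOfNatNat (nat_lit 0)))) → x0)) := @(fun (x0 : Sort ku0) (x1 : @Fin (@OfNat.ofNat.{0} @Nat (nat_lit 0) (@instOfNatNat (nat_lit 0)))) => @Fin.rec.{ku0} (nat_lit 0) @(fun (x2 : @Fin (@OfNat.ofNat.{0} @Nat (nat_lit 0) (@instOfNatNat (nat_lit 0)))) => x0) @(fun (x2 : @Nat) (x3 : @LT.lt.{0} @Nat @instLTNat @x2 (@OfNat.ofNat.{0} @Nat (nat_lit 0) (@instOfNatNat (nat_lit 0)))) => @False.rec.{ku0} @(fun (x4 : @False) => x0) (@Nat.not_lt_zero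 @x2 @x3)) @x1)
private theorem _root_.Cfsg.Agent.KOb51a057.e44.{ku0} : @Fin.elim0.{ku0} = @_root_.Cfsg.Agent.KOb51a057.k44.{ku0} := by delta _root_.Cfsg.Agent.KOb51a057.k44; rfl'
private noncomputable def _root_.Cfsg.Agent.KOb51a057.k45 : (by first | exact type_of% @Cfsg.Agent.H492.ThOrb.bb | exact Unit : Sort _) := by first | (refine @Subtype.val _ (fun g => @Cfsg.Agent.H492.ThOrb.bb = @g) (@Subtype.mk _ _ (@Cfsg.Agent.KOb51a057.k43.{1} (nat_lit 10) @(fun (x0 : @Fin (@Nat.succ (@OfNat.ofNat.{0} @Nat (nat_lit 10) (@instOfNatNat (nat_lit 10))))) => @Nat) (nat_lit 1) (@Cfsg.Agent.KOb51a057.k43.{1} (nat_lit 9) @(fun (x0 : @Fin (@Nat.succ (@OfNat.ofNat.{0} @Nat (nat_lit 9) (@instOfNatNat (nat_lit 9))))) => @Nat) (nat_lit 45864) (@Cfsg.Agent.KOb51a057.k43.{1} (nat_lit 8) @(fun (x0 : @Fin (@Nat.succ (@OfNat.ofNat.{0} @Nat (nat_lit 8) (@instOfNatNat (nat_lit 8))))) => @Nat) (nat_lit 17199) (@Cfsg.Agent.KOb51a057.k43.{1}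 (nat_lit 7) @(fun (x0 : @Fin (@Nat.succ (@OfNat.ofNat.{0} @Nat (nat_lit 7) (@instOfNatNat (nat_lit 7))))) => @Nat) (nat_lit 2201472) (@Cfsg.Agent.KOb51a057.k43.{1} (nat_lit 6) @(fun (x0 : @Fin (@Nat.succ (@OfNat.ofNat.{0} @Nat (nat_lit 6) (@instOfNatNat (nat_lit 6))))) => @Nat) (nat_lit 1304576) (@Cfsg.Agent.KOb51a057.k43.{1} (nat_lit 5) @(fun (x0 : @Fin (@Nat.succ (@OfNat.ofNat.{0} @Nat (nat_lit 5) (@instOfNatNat (nat_lit 5))))) => @Nat) (nat_lit 179712) (@Cfsg.Agent.KOb51a057.k43.{1} (nat_lit 4) @(fun (x0 : @Fin (@Nat.succ (@OfNat.ofNat.{0} @Nat (nat_lit 4) (@instOfNatNat (nat_lit 4))))) => @Nat) (nat_lit 8805888) (@Cfsg.Agent.KOb51a057.k43.{1} (nat_lit 3) @(fun (x0 : @Fin (@Nat.succ (@OfNat.ofNat.{0} @Nat (nat_lit 3) (@instOfNatNat (nat_lit 3))))) => @Nat) (nat_lit 5031936) (@Cfsg.Agent.KOb51a057.k43.{1} (nat_lit 2) @(fun (x0 : @Fin (@Nat.succ (@OfNat.ofNat.{0} @Nat (nat_lit 2) (@instOfNatNat (nat_lit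 2))))) => @Nat) (nat_lit 11741184) (@Cfsg.Agent.KOb51a057.k43.{1} (nat_lit 1) @(fun (x0 : @Fin (@Nat.succ (@OfNat.ofNat.{0} @Nat (nat_lit 1) (@instOfNatNat (nat_lit 1))))) => @Nat) (nat_lit 105670656) (@Cfsg.Agent.KOb51a057.k43.{1} (nat_lit 0) @(fun (x0 : @Fin (@Nat.succ (@OfNat.ofNat.{0} @Nat (nat_lit 0) (@instOfNatNat (nat_lit 0))))) => @Nat) (nat_lit 8128512) (@Cfsg.Agent.KOb51a057.k44.{1} @Nat)))))))))))) ?_); rewrite [← Cfsg.Agent.KOb51a057.e44.{1}, ← Cfsg.Agent.KOb51a057.e43.{1}]; rfl') | exact @Cfsg.Agent.H492.ThOrb.bb | exact ()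
private theorem _root_.Cfsg.Agent.KOb51a057.e45 : (by first | exact @Cfsg.Agent.H492.ThOrb.bb = @_root_.Cfsg.Agent.KOb51a057.k45 | exact True : Prop) := by first | (delta _root_.Cfsg.Agent.KOb51a057.k45; exact @Subtype.property _ (fun g => @Cfsg.Agent.H492.ThOrb.bb = @g) _) | rfl | trivial

theorem MM_eq : ∀ i i' : Fin 11, 819 * MM i i' = bb i * TT i i' := by (first | (refine of_decide_eq_true ?_; rewrite [Cfsg.Agent.KOb51a057.e0, Cfsg.Agent.KOb51a057.e34, Cfsg.Agent.KOb51a057.e5, Cfsg.Agent.KOb51a057.e39, Cfsg.Agent.KOb51a057.e45]; decide +kernel) | decide +kernel)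

theorem flag_unique : ((tN.map fun t => Nat.beq t.1 1 && Nat.beq t.2.1 0).zipIdx.filter fun p => p.1) =
    [(true, 1)] := by decide +kernel

end Cfsg.Agent.H492.ThLineData
end

-- part: H492/ThRat
section
prune_inst 0x400000000000000000000000000000000000000000000000000000000000000000000000000000000000000000000000000000000000000000000000000000000000000000000000000000000000000
set_option linter.all false
open scoped Cfsg.Agent.FastGrp

-- part: H492/ThLine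
section
/-!
# The Hecke operator of the orbital of length 45864 of the Thompson group (helper492)

* `part3` : the labels of the orbits of `K = 3D4(2):3`, `C = 2^(1+8).A9` and `B = K ∩ C`;
* `lab_line` : the labels of the points of the lines;
* `op` : the operator of an element `t` of `C` on the `K`-biinvariant functions.
-/

set_option autoImplicit false
set_option maxRecDepth 100000
set_option linter.style.longLine false

namespace Cfsg.Agent.H492.ThLine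

open Cfsg.Agent.Th.Word Cfsg.Agent.Th.KOracle Cfsg.Agent.Th.COracleDef Cfsg.Agent.Th.FactData
open Cfsg.Agent.Th.FlagData Cfsg.Agent.Th.FlagCover Cfsg.Agent.Th.FlagCheck Cfsg.Agent.Th.FlagBound
open Cfsg.Agent.Th.IndexBound Cfsg.Agent.Th.IndexUpper Cfsg.Agent.Th.OrbitSum Cfsg.Agent.Th.CoverData
open Cfsg.Agent.Th.PathCover (unl ev_unl forest roots forest_spec roots_spec)
open Cfsg.Agent.Lib.PathCheck (Holds Rel)
open Cfsg.Agent.H492.ThOrb Cfsg.Agent.H492.ThLineData Cfsg.Agent.H492.TwoSub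

universe u

variable {G : Type u} [Group G]

theorem tN_get (k : Fin AL.length) :
    tN[(k : ℕ)]? = some ((tab AL[k].2.f).n1, AL[k].1, AL[k].2.N) := by
  rw [← AL_map, List.getElem?_map, List.getElem?_eq_getElem k.2]
  rfl

theorem idx_one (k : Fin AL.length) (hX : (tab AL[k].2.f).n1 = 1) (hY : AL[k].1 = 0) :
    (k : ℕ) = 1 := by
  have e3 := tN_get k
  rw [hX, hY] at e3
  have h4 : (true, (k : ℕ)) ∈ ((tN.map fun t => Nat.beq t.1 1 && Nat.beq t.2.1 0).zipIdx.filter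
      fun p => p.1) := by
    rw [List.mem_filter]
    refine ⟨?_, rfl⟩
    rw [List.mk_mem_zipIdx_iff_getElem?, List.getElem?_map, e3]
    rfl
  rw [flag_unique, List.mem_singleton] at h4
  exact congrArg Prod.snd h4

theorem tN_one : tN[1]? = some (1, 0, 56) := by decide +kernel

theorem N_one (k : Fin AL.length) (h : (k : ℕ) = 1) : AL[k].2.N = 56 := by
  have e3 := tN_get k
  have e4 : tN[(k : ℕ)]? = some (1, 0, 56) := by rw [h]; exact tN_one
  rw [e4] at e3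
  have e6 := congrArg (fun p : ℕ × ℕ × ℕ => p.2.2) (Option.some.inj e3)
  exact e6.symm

theorem cnt_nil (i : ℕ) : cnt [] i = 0 := rfl

theorem cnt_cons (x : ℕ) (l : List ℕ) (i : ℕ) :
    cnt (x :: l) i = bif Nat.beq x i then cnt l i + 1 else cnt l i := rfl

/-- summation over a list by labels -/
theorem sum_cnt (F : ℕ → ℂ) (l : List ℕ) (hl : ∀ x ∈ l, x < 11) :
    (l.map F).sum = ∑ i : Fin 11, (cnt l i : ℂ) * F i := by
  induction l with
  | nil =>
    rw [List.map_nil, List.sum_nil]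
    exact (Finset.sum_eq_zero fun i _ => by rw [cnt_nil]; simp).symm
  | cons x l ih =>
    rw [List.map_cons, List.sum_cons, ih fun y hy => hl y (List.mem_cons_of_mem _ hy)]
    have hx := hl x List.mem_cons_self
    have h1 : ∀ i : Fin 11, (cnt (x :: l) i : ℂ) * F i =
        (if i = ⟨x, hx⟩ then F x else 0) + (cnt l i : ℂ) * F i := by
      intro i
      rw [cnt_cons]
      by_cases hi : i = ⟨x, hx⟩
      · rw [if_pos hi]
        have h2 : Nat.beq x i = true := by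
          rw [hi]
          exact Nat.beq_refl x
        rw [h2, cond_true, hi]
        push_cast
        ring
      · rw [if_neg hi]
        have h2 : Nat.beq x i = false := by
          cases h3 : Nat.beq x i with
          | false => rfl
          | true => exact absurd (Fin.ext (Nat.eq_of_beq_eq_true h3).symm) hi
        rw [h2, cond_false]
        ring
    rw [Finset.sum_congr rfl fun i _ => h1 i, Finset.sum_add_distrib, Finset.sum_ite_eq' Finset.univ,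
      if_pos (Finset.mem_univ _)]

theorem sum_list {α : Type*} (l : List α) (F : α → ℕ) : (l.map F).sum = ∑ k : Fin l.length, F l[k] := by
  rw [← Fin.sum_univ_getElem]
  have hl : l.length = (List.map F l).length := by rw [List.length_map]
  rw [← (finCongr hl).sum_comp]
  exact Finset.sum_congr rfl fun k _ => by simp

theorem sum_listC {α : Type*} (l : List α) (F : α → ℂ) : (l.map F).sum = ∑ k : Fin l.length, F l[k] := by
  rw [← Fin.sum_univ_getElem]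
  have hl : l.length = (List.map F l).length := by rw [List.length_map]
  rw [← (finCongr hl).sum_comp]
  exact Finset.sum_congr rfl fun k _ => by simp

/-- the labels of the neighbours -/
def LL (p : ℕ × FE) : List ℕ := OT.map (fun q => KP p.1 (tri act120 (unl (tab p.2.f).w2) q))

theorem LL_lt (k : Fin AL.length) : ∀ x ∈ LL AL[k], x < 11 := by
  have h1 : ∀ l ∈ LQ, ∀ x ∈ l, x < 11 := by decide +kernel
  apply h1
  rw [← LQ_eq]
  exact List.mem_map.2 ⟨AL[k], List.getElem_mem _, rfl⟩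

theorem MM_sum (i i' : ℕ) : MM i i' = ∑ k : Fin AL.length,
    if (tab AL[k].2.f).n1 = i then AL[k].2.N * cnt (LL AL[k]) i' else 0 := by
  unfold MM
  rw [← AL_map, ← LQ_eq, List.zip_map', List.map_map, sum_list]
  refine Finset.sum_congr rfl fun k _ => ?_
  show (bif Nat.beq (tab AL[k].2.f).n1 i then AL[k].2.N * cnt (LL AL[k]) i' else 0) = _
  by_cases hi : (tab AL[k].2.f).n1 = i
  · rw [if_pos hi, hi, Nat.beq_refl, cond_true]
  · rw [if_neg hi]
    cases h3 : Nat.beq (tab AL[k].2.f).n1 i with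
    | false => rfl
    | true => exact absurd (Nat.eq_of_beq_eq_true h3) hi

/-- the labels -/
structure Labs (γ g : ℕ → G) (lX : G ⧸ sub γ isK → Fin 11) (lY : G ⧸ sub γ isK → Fin 13)
    (lB : G ⧸ sub γ isK → Fin AL.length) : Prop where
  X : ∀ x y, lX x = lX y ↔ ∃ k ∈ sub γ isK, k • x = y
  Y : ∀ x y, lY x = lY y ↔ ∃ k ∈ sub γ isC, k • x = y
  B : ∀ x y, lB x = lB y ↔ ∃ k ∈ sub γ isB, k • x = y
  cX : ∀ i, Nat.card {x // lX x = i} = bb i
  cB : ∀ k : Fin AL.length, Nat.card {x // lB x = k} = AL[k].2.N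
  XB : ∀ x, (lX x : ℕ) = (tab AL[lB x].2.f).n1
  YB : ∀ x, (lY x : ℕ) = AL[lB x].1
  gX : ∀ i : Fin 11, lX (pt (sub γ isK) (g i)) = i
  gB : ∀ k : Fin AL.length, lB (pt (sub γ isK) (g (tab AL[k].2.f).n1 *
      ev γ (unl (tab AL[k].2.f).w1))) = k
  Y11 : lY (pt (sub γ isK) (g 11)) = 0

section

variable {γ g : ℕ → G} (h : Cx γ g)
  (hind : (sub γ isK).index = 143127000)

include h hind

/-- **The partition.** -/
theorem part3 : ∃ (lX : G ⧸ sub γ isK → Fin 11) (lY : G ⧸ sub γ isK → Fin 13)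
    (lB : G ⧸ sub γ isK → Fin AL.length),
    (∀ x y, lX x = lX y ↔ ∃ k ∈ sub γ isK, k • x = y) ∧
    (∀ x y, lY x = lY y ↔ ∃ k ∈ sub γ isC, k • x = y) ∧
    (∀ x y, lB x = lB y ↔ ∃ k ∈ sub γ isB, k • x = y) ∧
    (∀ i, Nat.card {x // lX x = i} = bb i) ∧
    (∀ k : Fin AL.length, Nat.card {x // lB x = k} = AL[k].2.N) ∧
    (∀ x, (lX x : ℕ) = (tab AL[lB x].2.f).n1) ∧
    (∀ x, (lY x : ℕ) = AL[lB x].1) ∧
    (∀ i : Fin 11, lX (pt (sub γ isK) (g i)) = i) ∧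
    (∀ k : Fin AL.length, lB (pt (sub γ isK) (g (tab AL[k].2.f).n1 *
      ev γ (unl (tab AL[k].2.f).w1))) = k) ∧
    lY (pt (sub γ isK) (g 11)) = 0 := by
  classical
  obtain ⟨hfin, hcovC, hcardC, hsumC⟩ := Cfsg.Agent.Th.CentTh.hyps h hind
  -- the orbits of `C`
  obtain ⟨-, huC⟩ := exact_of_cover (fun i : Fin 13 => orbC γ g (i + 11)) (fun i => mN (i + 11))
    hcovC hcardC hsumC
  -- the orbits of `K`
  have hcovK : ∀ x, ∃ i : Fin 11, x ∈ orb (sub γ isK) γ (g i) := by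
    intro x
    have h1 := h.N.univ h.inv h.gen
    have h2 : x ∈ (Set.univ : Set (G ⧸ sub γ isK)) := Set.mem_univ x
    rw [h1] at h2
    obtain ⟨i, hi, hx⟩ := Set.mem_iUnion₂.1 h2
    exact ⟨⟨i, Finset.mem_range.1 hi⟩, hx⟩
  obtain ⟨-, huK⟩ := exact_of_cover (fun i : Fin 11 => orb (sub γ isK) γ (g i)) (fun i => bN i)
    hcovK (fun i => by
      rw [Nat.card_coe_set_eq]
      exact (h.N.orbits h.inv h.K i i.2).2) (by
      have e1 : ∑ i : Fin 11, bN i = 143127000 := by decide +kernel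
      rw [e1]; exact hind.ge)
  -- the flags
  let O : Fin AL.length → Set (G ⧸ sub γ isK) := fun k => fl γ g AL[k].2
  have hALm : ∀ k : Fin AL.length, AL[k].1 < 13 ∧ AL[k].2 ∈ FL (AL[k].1 + 11) := fun k =>
    (mem_AL _).1 (List.getElem_mem _)
  have hcovF : ∀ x (j : Fin 13), x ∈ orbC γ g (j + 11) →
      ∃ k : Fin AL.length, AL[k].1 = j ∧ x ∈ O k := by
    intro x j hx
    have h1 := h.coverC (j + 11) (by omega) (by omega) hx
    obtain ⟨e, he, hxe⟩ := Set.mem_iUnion₂.1 h1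
    have h2 : ((j : ℕ), e) ∈ AL := (mem_AL _).2 ⟨j.2, he⟩
    obtain ⟨k, hk, hke⟩ := List.mem_iff_getElem.1 h2
    refine ⟨⟨k, hk⟩, ?_, ?_⟩
    · show (AL[k]).1 = j
      rw [hke]
    · show x ∈ fl γ g (AL[k]).2
      rw [hke]
      exact hxe
  have hmapget : ∀ k : Fin AL.length, ∃ hk : (k : ℕ) < tN.length,
      tN[(k : ℕ)] = ((tab AL[k].2.f).n1, AL[k].1, AL[k].2.N) := by
    intro k
    have hl : tN.length = AL.length := by rw [← AL_map, List.length_map]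
    refine ⟨by rw [hl]; exact k.2, ?_⟩
    have h1 : tN[(k : ℕ)]'(by rw [hl]; exact k.2) =
        (AL.map (fun p => ((tab p.2.f).n1, p.1, p.2.N)))[(k : ℕ)]'(by
          rw [List.length_map]; exact k.2) := List.getElem_of_eq AL_map.symm _
    rw [h1, List.getElem_map]
    rfl
  have hsumL : ∀ f : ℕ × ℕ × ℕ → ℕ,
      ∑ k : Fin AL.length, f ((tab AL[k].2.f).n1, AL[k].1, AL[k].2.N) = (tN.map f).sum := by
    intro f
    rw [← AL_map, List.map_map]
    rw [← Fin.sum_univ_getElem]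
    have hl : AL.length = (List.map (f ∘ fun p => ((tab p.2.f).n1, p.1, p.2.N)) AL).length := by
      rw [List.length_map]
    rw [← (finCongr hl).sum_comp]
    refine Finset.sum_congr rfl fun k _ => ?_
    simp
  obtain ⟨hcF, huF⟩ := exact_of_cover O (fun k => AL[k].2.N) (fun x => by
      obtain ⟨j, hj⟩ := hcovC x
      obtain ⟨k, -, hk⟩ := hcovF x j hj
      exact ⟨k, hk⟩) (fun k => by
      rw [Nat.card_coe_set_eq]
      exact (h.flag_le (AL[k].1 + 11) (by omega) (by have := (hALm k).1; omega) _ (hALm k).2).2) (by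
      have := hsumL (fun t => t.2.2)
      rw [sum_tN] at this
      rw [this]; exact hind.ge)
  -- labels
  choose lX hlX using hcovK
  choose lY hlY using hcovC
  have hcovF' : ∀ x, ∃ k : Fin AL.length, AL[k].1 = lY x ∧ x ∈ O k := fun x => hcovF x _ (hlY x)
  choose lab hlab1 hlab using hcovF'
  have hn1 : ∀ k : Fin AL.length, (tab AL[k].2.f).n1 < 11 := by
    intro k
    obtain ⟨hk, e⟩ := hmapget k
    have := tN_lt _ (List.getElem_mem hk)
    rw [e] at this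
    exact this
  -- flags in the orbits of `K`
  have hlabK : ∀ x, (lX x : ℕ) = (tab AL[lab x].2.f).n1 := by
    intro x
    have h1 := huK (lX x) ⟨_, hn1 (lab x)⟩ x (hlX x) (by
      obtain ⟨b, hb, hx⟩ := hlab x
      show x ∈ orb (sub γ isK) γ (g (tab AL[lab x].2.f).n1)
      refine ⟨ev γ (unl (tab AL[lab x].2.f).w1) * b, ?_, ?_⟩
      · have h4 := (allG_iff _ _).mp (Cfsg.Agent.Th.FlagChk.chkE_all (AL[lab x].1 + 11)
          (by have := (hALm (lab x)).1; omega) (by omega)) _ (hALm (lab x)).2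
        unfold chkE at h4
        rw [Bool.and_eq_true] at h4
        exact Subgroup.mul_mem _ (ev_mem_sub ((allL_iff _ _).mp h4.1)) (B_le_K hb)
      · exact hx.trans (by rw [mul_assoc]))
    rw [h1]
  -- stability
  have hsK : ∀ k ∈ sub γ isK, ∀ x, lX (k • x) = lX x := by
    intro k hk x
    refine huK _ _ _ (hlX _) ?_
    obtain ⟨a, ha, hx⟩ := hlX x
    refine ⟨a * k⁻¹, Subgroup.mul_mem _ ha (Subgroup.inv_mem _ hk), ?_⟩
    nth_rewrite 1 [hx]
    rw [smul_pt, mul_assoc]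
  have hsC : ∀ k ∈ sub γ isC, ∀ x, lY (k • x) = lY x := by
    intro k hk x
    refine huC _ _ _ (hlY _) ?_
    obtain ⟨a, ha, hx⟩ := hlY x
    refine ⟨a * k⁻¹, Subgroup.mul_mem _ ha (Subgroup.inv_mem _ hk), ?_⟩
    nth_rewrite 1 [hx]
    rw [smul_pt, mul_assoc]
  have hsB : ∀ k ∈ sub γ isB, ∀ x, lab (k • x) = lab x := by
    intro k hk x
    refine huF _ _ _ (hlab _) ?_
    obtain ⟨a, ha, hx⟩ := hlab x
    refine ⟨a * k⁻¹, Subgroup.mul_mem _ ha (Subgroup.inv_mem _ hk), ?_⟩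
    nth_rewrite 1 [hx]
    rw [smul_pt, mul_assoc]
  refine ⟨lX, lY, lab, ?_, ?_, ?_, ?_, ?_, hlabK, fun x => (hlab1 x).symm, ?_, ?_, ?_⟩
  · intro x y
    constructor
    · intro e
      obtain ⟨a, ha, hx⟩ := hlX x
      obtain ⟨b, hb, hy⟩ := hlX y
      rw [← e] at hy
      refine ⟨b⁻¹ * a, Subgroup.mul_mem _ (Subgroup.inv_mem _ hb) ha, ?_⟩
      nth_rewrite 1 [hx]
      rw [smul_pt, hy]
      congr 1
      group
    · rintro ⟨k, hk, rfl⟩
      exact (hsK k hk x).symm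
  · intro x y
    constructor
    · intro e
      obtain ⟨a, ha, hx⟩ := hlY x
      obtain ⟨b, hb, hy⟩ := hlY y
      rw [← e] at hy
      refine ⟨b⁻¹ * a, Subgroup.mul_mem _ (Subgroup.inv_mem _ hb) ha, ?_⟩
      nth_rewrite 1 [hx]
      rw [smul_pt, hy]
      congr 1
      group
    · rintro ⟨k, hk, rfl⟩
      exact (hsC k hk x).symm
  · intro x y
    constructor
    · intro e
      obtain ⟨a, ha, hx⟩ := hlab x
      obtain ⟨b, hb, hy⟩ := hlab y
      rw [← e] at hy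
      refine ⟨b⁻¹ * a, Subgroup.mul_mem _ (Subgroup.inv_mem _ hb) ha, ?_⟩
      nth_rewrite 1 [hx]
      rw [smul_pt, hy]
      congr 1
      group
    · rintro ⟨k, hk, rfl⟩
      exact (hsB k hk x).symm
  · intro i
    rw [← bb_eq i, ← hsumL]
    rw [← card_lab O (fun k => AL[k].2.N) lab hlab huF hcF
      (fun k => (tab AL[k].2.f).n1 = (i : ℕ))]
    refine Nat.card_congr (Equiv.subtypeEquivRight fun x => ?_)
    rw [← hlabK x, Fin.ext_iff]
  · intro k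
    have h5 := card_lab O (fun k => AL[k].2.N) lab hlab huF hcF (fun k' => k' = k)
    rw [h5, Finset.sum_ite_eq' Finset.univ k, if_pos (Finset.mem_univ _)]
  · intro i
    refine huK _ _ _ (hlX _) ⟨1, Subgroup.one_mem _, ?_⟩
    rw [mul_one]
  · intro k
    refine huF _ _ _ (hlab _) ⟨1, Subgroup.one_mem _, ?_⟩
    rw [mul_one]
  · refine huC _ 0 _ (hlY _) ⟨1, Subgroup.one_mem _, ?_⟩
    show pt (sub γ isK) (g 11) = pt (sub γ isK) (g (0 + 11) * 1)
    rw [mul_one]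

omit hind in
/-- **The labels of the points of the lines.** -/
theorem lab_line {lX : G ⧸ sub γ isK → Fin 11}
    (hX : ∀ x y, lX x = lX y ↔ ∃ k ∈ sub γ isK, k • x = y)
    (hg : ∀ i : Fin 11, lX (pt (sub γ isK) (g i)) = i) (j : ℕ) (hj : j < 13) (w : List ℕ)
    (hw : ∀ x ∈ w, isC x = true) :
    (lX (pt (sub γ isK) (g (j + 11) * ev γ w)) : ℕ) = KP j (tr act120 (iw w) 0) := by
  have hT := Cfsg.Agent.Th.TabFacts.isTab120
  have hj' : j + 11 < 11 + 13 := by omega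
  have hKm : ∀ x, ∀ k ∈ sub γ isK, lX (pt (sub γ isK) (x * k)) = lX (pt (sub γ isK) x) := by
    intro x k hk
    rw [hX]
    exact ⟨k, hk, by rw [smul_pt, mul_inv_cancel_right]⟩
  let C : ℕ → Prop := fun p => p < 120 ∧ ∀ w : List ℕ, (∀ x ∈ w, isC x = true) →
    tr act120 (iw w) 0 = p → (lX (pt (sub γ isK) (g (j + 11) * ev γ w)) : ℕ) = KP j p
  have hroots : ∀ q, Nat.testBit (roots act120 ((gl (j + 11)).map fun i => (tab i).w2) 0) q = true →
      C q := by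
    apply roots_spec
    · intro z hz
      obtain ⟨i, hi, rfl⟩ := List.mem_map.mp hz
      obtain ⟨a1, a2, a3, a4⟩ := hglM (j + 11) hj' (by omega) i hi
      have lw2 : ∀ x ∈ unl (tab i).w2, isC x = true :=
        (allL_iff _ _).mp ((hletM (j + 11) hj' (by omega)).2 i hi)
      refine ⟨hT.tr_lt (mem_iw hT.finv lw2) (by norm_num), fun w hw hwt => ?_⟩
      -- the element of `B`
      have hb : ev γ (iw (unl (tab i).w2) ++ w) ∈ sub γ isB := by
        apply h.hB120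
        · intro x hx
          rcases List.mem_append.mp hx with hx | hx
          · exact mem_iw hT.finv lw2 x hx
          · exact hw x hx
        · rw [tr_append, ← hwt]
          exact hT.tr_iw' hw (by norm_num)
      have e1 : g (j + 11) * ev γ w = g (j + 11) * ev γ (unl (tab i).w2) *
          ev γ (iw (unl (tab i).w2) ++ w) := by
        rw [ev_append, ev_iw h.inv]
        group
      rw [e1, hKm _ _ (B_le_K hb)]
      -- the fact
      have hF := h.F i a1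
      unfold Holds at hF
      rw [← ev_unl, ← ev_unl, a2] at hF
      rw [← (pt_eq_iff _ _ _).mpr hF, hKm _ _ (ev_mem_sub ((allL_iff _ _).mp a4))]
      have e2 := hg ⟨(tab i).n1, a3⟩
      rw [show g (tab i).n1 = g ((⟨(tab i).n1, a3⟩ : Fin 11) : ℕ) from rfl, e2]
      have e3 := KP_gl j hj i hi
      rw [tri_eq] at e3
      exact e3.symm
    · intro q hq
      simp at hq
  have hz : ∀ z ∈ ((st (j + 11)).map fun i => (tab i).w1), ∀ q, C q →
      C (tr act120 (unl z) q) ∧ C (tr act120 (iw (unl z)) q) := by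
    rintro z hz q ⟨hq, hC⟩
    obtain ⟨i, hi, rfl⟩ := List.mem_map.mp hz
    have lz : ∀ x ∈ unl (tab i).w1, isC x = true :=
      (allL_iff _ _).mp ((hletM (j + 11) hj' (by omega)).1 i hi)
    have lz' : ∀ x ∈ iw (unl (tab i).w1), isC x = true := mem_iw hT.finv lz
    have hst1 := h.stab (j + 11) (by omega) i hi
    refine ⟨⟨hT.tr_lt lz hq, fun w hw hwt => ?_⟩, ⟨hT.tr_lt lz' hq, fun w hw hwt => ?_⟩⟩
    · have e1 := hC (unl (tab i).w1 ++ w) (by
        intro x hx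
        rcases List.mem_append.mp hx with hx | hx
        · exact lz x hx
        · exact hw x hx) (by
        rw [iw_append, tr_append, hwt]
        exact hT.tr_iw lz hq)
      rw [ev_append, ← mul_assoc] at e1
      have e2 := (pt_eq_iff (sub γ isK) _ _).mpr (Rel.mul_right hst1 (ev γ w))
      rw [e2] at e1
      rw [e1, KP_st j hj i hi q hq]
    · have e1 := hC (iw (unl (tab i).w1) ++ w) (by
        intro x hx
        rcases List.mem_append.mp hx with hx | hx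
        · exact lz' x hx
        · exact hw x hx) (by
        rw [iw_append, tr_append, hwt, iw_iw]
        exact hT.tr_iw' lz hq)
      rw [ev_append, ← mul_assoc, ev_iw h.inv] at e1
      have e3 := Rel.mul_right hst1 ((ev γ (unl (tab i).w1))⁻¹ * ev γ w)
      have e4 : g (j + 11) * ev γ (unl (tab i).w1) * ((ev γ (unl (tab i).w1))⁻¹ * ev γ w) =
          g (j + 11) * ev γ w := by group
      rw [e4, ← mul_assoc] at e3
      have e2 := (pt_eq_iff (sub γ isK) _ _).mpr e3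
      rw [← e2] at e1
      have e5 := KP_st j hj i hi _ (hT.tr_lt lz' hq)
      rw [hT.tr_iw' lz hq] at e5
      rw [e1, e5]
  have hp : tr act120 (iw w) 0 < 120 := hT.tr_lt (mem_iw hT.finv hw) (by norm_num)
  have key := forest_spec act120 _ C hz (fo (j + 11)) _ hroots (tr act120 (iw w) 0) (by
    rw [hfoM (j + 11) hj' (by omega), Nat.testBit_two_pow_sub_one]
    simpa using hp)
  exact key.2 w hw rfl

theorem exists_labs : ∃ (lX : G ⧸ sub γ isK → Fin 11) (lY : G ⧸ sub γ isK → Fin 13)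
    (lB : G ⧸ sub γ isK → Fin AL.length), Labs γ g lX lY lB := by
  obtain ⟨lX, lY, lB, h1, h2, h3, h4, h5, h6, h7, h8, h9, h10⟩ := part3 h hind
  exact ⟨lX, lY, lB, ⟨h1, h2, h3, h4, h5, h6, h7, h8, h9, h10⟩⟩

omit hind in
theorem g11_mem : g 11 ∈ sub γ isK := by
  have hF := h.F 7 (by norm_num)
  unfold Holds at hF
  rw [← ev_unl, ← ev_unl] at hF
  have e1 : (tab 7).n1 = 0 := by decide +kernel
  have e2 : (tab 7).n2 = 11 := by decide +kernel
  have e3 : unl (tab 7).w2 = [] := by decide +kernel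
  have e4 : allL isK (unl (tab 7).w1) = true := by decide +kernel
  rw [e1, e2, e3, h.N.g0, one_mul, ev_nil, mul_one] at hF
  have h1 : ev γ (unl (tab 7).w1) ∈ sub γ isK := ev_mem_sub ((allL_iff _ _).mp e4)
  have h2 : ev γ (unl (tab 7).w1) * (g 11)⁻¹ ∈ sub γ isK := hF
  have h3 := Subgroup.mul_mem _ (Subgroup.inv_mem _ h2) h1
  have e5 : (ev γ (unl (tab 7).w1) * (g 11)⁻¹)⁻¹ * ev γ (unl (tab 7).w1) = g 11 := by group
  rwa [e5] at h3

end

section

variable {γ g : ℕ → G} {lX : G ⧸ sub γ isK → Fin 11} {lY : G ⧸ sub γ isK → Fin 13}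
  {lB : G ⧸ sub γ isK → Fin AL.length} (L : Labs γ g lX lY lB)

include L

theorem fval {f : G → ℂ} (hl : ∀ k ∈ sub γ isK, ∀ x, f (k * x) = f x)
    (hr : ∀ k ∈ sub γ isK, ∀ x, f (x * k) = f x) (x : G) :
    f x = f (g (lX (pt (sub γ isK) x))) := by
  obtain ⟨k, hk, e2⟩ := (L.X _ _).1 (L.gX (lX (pt (sub γ isK) x))).symm
  rw [smul_pt, pt_eq_iff] at e2
  have e3 : (x * k⁻¹) * (g (lX (pt (sub γ isK) x)))⁻¹ ∈ sub γ isK := e2
  have e4 : x = (x * k⁻¹) * (g (lX (pt (sub γ isK) x)))⁻¹ * g (lX (pt (sub γ isK) x)) * k := by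
    group
  nth_rewrite 1 [e4]
  rw [hr k hk, hl _ e3]

/-- the points of the base line -/
theorem base_line (h : Cx γ g) (w : List ℕ) (hw : ∀ x ∈ w, isC x = true) (h1 : KP 0 (tr act120 w 0) = 1) :
    ((lB ((ev γ w : G) : G ⧸ sub γ isK) : Fin AL.length) : ℕ) = 1 := by
  have hT := Cfsg.Agent.Th.TabFacts.isTab120
  have e1 : ((ev γ w : G) : G ⧸ sub γ isK) = pt (sub γ isK) (g 11 * ev γ (iw w)) := by
    have e2 : ((ev γ w : G) : G ⧸ sub γ isK) = pt (sub γ isK) (ev γ (iw w)) := by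
      unfold pt
      rw [ev_iw h.inv, inv_inv]
    rw [e2, pt_eq_iff]
    show ev γ (iw w) * (g 11 * ev γ (iw w))⁻¹ ∈ sub γ isK
    have e3 : ev γ (iw w) * (g 11 * ev γ (iw w))⁻¹ = (g 11)⁻¹ := by group
    rw [e3]
    exact Subgroup.inv_mem _ (g11_mem h)
  have hX : (lX ((ev γ w : G) : G ⧸ sub γ isK) : ℕ) = 1 := by
    rw [e1]
    have e2 := lab_line h L.X L.gX 0 (by norm_num) (iw w) (mem_iw hT.finv hw)
    rw [iw_iw, h1] at e2
    exact e2
  have hY : (lY ((ev γ w : G) : G ⧸ sub γ isK) : ℕ) = 0 := by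
    have e2 : lY (pt (sub γ isK) (g 11)) = lY ((ev γ w : G) : G ⧸ sub γ isK) := by
      rw [L.Y]
      refine ⟨ev γ w, ev_mem_sub hw, ?_⟩
      rw [e1, smul_pt, ev_iw h.inv]
    rw [← e2, L.Y11]
    rfl
  rw [L.XB] at hX
  rw [L.YB] at hY
  exact idx_one _ hX hY

omit L in
theorem word_mul_mem_B (h : Cx γ g) {v w : List ℕ} (hv : ∀ x ∈ v, isC x = true)
    (hw : ∀ x ∈ w, isC x = true) (e : tr act120 (iw v) 0 = tr act120 (iw w) 0) :
    (ev γ v)⁻¹ * ev γ w ∈ sub γ isB := by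
  have hT := Cfsg.Agent.Th.TabFacts.isTab120
  have h1 : ev γ (iw v ++ w) ∈ sub γ isB := by
    apply h.hB120
    · intro x hx
      rcases List.mem_append.mp hx with hx | hx
      · exact mem_iw hT.finv hv x hx
      · exact hw x hx
    · rw [tr_append, e]
      exact hT.tr_iw' hw (by norm_num)
  rwa [ev_append, ev_iw h.inv] at h1

omit [Group G] L in
/-- the set of the 56 points is stable under `B` -/
theorem OT_word (v : List ℕ) (hv : ∀ x ∈ v, isB x = true) {q : ℕ} (hq : q ∈ OT) :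
    tr act120 v q ∈ OT := by
  induction v generalizing q with
  | nil => exact hq
  | cons x v ih =>
    rw [tr_cons]
    exact ih (fun z hz => hv z (List.mem_cons_of_mem _ hz))
      (OT_B q hq x (isB_lt x (hv x List.mem_cons_self)) (hv x List.mem_cons_self))

open Classical in
/-- **The sum over `B`.** -/
theorem sum_B (h : Cx γ g) [Fintype (sub γ isB)] [Finite G] {f : G → ℂ}
    (hr : ∀ k ∈ sub γ isK, ∀ x, f (x * k) = f x) (y : G) :
    (56 : ℂ) * ∑ b : sub γ isB, f (y * b * ev γ tw) =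
      (Nat.card (sub γ isB) : ℂ) * ∑ a : Fin OW.length, f (y * ev γ OW[a]) := by
  have hT := Cfsg.Agent.Th.TabFacts.isTab120
  have := Fintype.ofFinite (G ⧸ sub γ isK)
  -- the function on the cosets
  let Ψ : G ⧸ sub γ isK → ℂ := fun P => f (y * P.out)
  have hΨ : ∀ z : G, Ψ (z : G ⧸ sub γ isK) = f (y * z) := by
    intro z
    have h1 : z⁻¹ * ((z : G ⧸ sub γ isK)).out ∈ sub γ isK := by
      rw [← QuotientGroup.eq, QuotientGroup.out_eq']
    show f (y * ((z : G ⧸ sub γ isK)).out) = f (y * z)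
    rw [← hr _ h1 (y * z)]
    congr 1
    group
  have h1 := sum_label (sub γ isB) lB L.B Ψ ((ev γ tw : G) : G ⧸ sub γ isK)
  have h2 : ∀ b : sub γ isB, Ψ ((b : G) • ((ev γ tw : G) : G ⧸ sub γ isK)) =
      f (y * b * ev γ tw) := by
    intro b
    show Ψ (((b : G) * ev γ tw : G) : G ⧸ sub γ isK) = _
    rw [hΨ, mul_assoc]
  rw [Finset.sum_congr rfl fun b _ => h2 b] at h1
  have hk1 := base_line L h tw tw_C tw_K
  set kt := lB ((ev γ tw : G) : G ⧸ sub γ isK) with hkt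
  have hcard : Nat.card {P // lB P = kt} = 56 := by
    rw [L.cB, N_one _ hk1]
  have hcard2 : (Finset.univ.filter (fun P => lB P = kt)).card = 56 := by
    rw [← hcard, Nat.card_eq_fintype_card, Fintype.card_subtype]
  rw [hcard2] at h1
  have h3 : (56 : ℂ) * ∑ b : sub γ isB, f (y * b * ev γ tw) = (Nat.card (sub γ isB) : ℂ) *
      ∑ P ∈ Finset.univ.filter (fun P => lB P = kt), Ψ P := by
    rw [← h1]
    norm_num
  rw [h3]
  congr 1
  -- the bijection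
  have hmem : ∀ a : Fin OW.length, lB ((ev γ OW[a] : G) : G ⧸ sub γ isK) = kt := by
    intro a
    have h4 := base_line L h OW[a] (OW_C _ (List.getElem_mem _)) (OW_K _ (List.getElem_mem _))
    exact Fin.ext (h4.trans hk1.symm)
  let ρ : Fin OW.length → {P // lB P = kt} := fun a => ⟨_, hmem a⟩
  have hsurj : Function.Surjective ρ := by
    rintro ⟨P, hP⟩
    obtain ⟨b, hb, hbP⟩ := (L.B _ _).1 hP.symm
    obtain ⟨v, hv, rfl⟩ := exists_word h.inv (fun x hx => isB_invL hx) hb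
    have hvC : ∀ x ∈ v, isC x = true := fun x hx => isC_of_isB (hv x hx)
    have h5 : tr act120 (iw v) (tri act120 tw 0) ∈ OT :=
      OT_word (iw v) (mem_iw (fun x hx => isB_invL hx) hv) tw_mem
    rw [← OW_eq, List.mem_map] at h5
    obtain ⟨w, hw, hwe⟩ := h5
    obtain ⟨a, ha, rfl⟩ := List.mem_iff_getElem.1 hw
    refine ⟨⟨a, ha⟩, Subtype.ext ?_⟩
    show ((ev γ OW[a] : G) : G ⧸ sub γ isK) = P
    rw [← hbP]
    show ((ev γ OW[a] : G) : G ⧸ sub γ isK) = ((ev γ v * ev γ tw : G) : G ⧸ sub γ isK)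
    rw [QuotientGroup.eq, ← ev_append]
    refine B_le_K (word_mul_mem_B h (OW_C _ hw) ?_ ?_)
    · intro x hx
      rcases List.mem_append.mp hx with hx | hx
      · exact hvC x hx
      · exact tw_C x hx
    · rw [← tri_eq, hwe, iw_append, tr_append, tri_eq]
  have hbij : Function.Bijective ρ := by
    refine hsurj.bijective_of_nat_card_le ?_
    rw [hcard, Nat.card_fin, OW_len]
  have h6 : ∑ P ∈ Finset.univ.filter (fun P => lB P = kt), Ψ P = ∑ P : {P // lB P = kt}, Ψ P := by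
    exact Finset.sum_subtype _ (fun x => by rw [Finset.mem_filter]; simp) _
  rw [h6, ← hbij.sum_comp (fun P : {P // lB P = kt} => Ψ P)]
  exact Finset.sum_congr rfl fun a _ => hΨ _

/-- the labels of the neighbours of the representative of a flag -/
theorem lab_nb (h : Cx γ g) (k : Fin AL.length) (a : Fin OW.length) :
    (lX (pt (sub γ isK) (g (tab AL[k].2.f).n1 * ev γ (unl (tab AL[k].2.f).w1) * ev γ OW[a])) : ℕ) =
      KP AL[k].1 (tri act120 (unl (tab AL[k].2.f).w2) (tri act120 OW[a] 0)) := by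
  have hT := Cfsg.Agent.Th.TabFacts.isTab120
  have hm := (mem_AL AL[k]).1 (List.getElem_mem _)
  have hf := f_mem AL[k] (List.getElem_mem _)
  obtain ⟨a1, a2, a3, a4⟩ := hglM (AL[k].1 + 11) (by omega) (by omega) _ hf
  have lw2 : ∀ x ∈ unl (tab AL[k].2.f).w2, isC x = true :=
    (allL_iff _ _).mp ((hletM (AL[k].1 + 11) (by omega) (by omega)).2 _ hf)
  have hF := h.F _ a1
  unfold Holds at hF
  rw [← ev_unl, ← ev_unl, a2] at hF
  have e1 := Rel.mul_right hF (ev γ OW[a])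
  rw [(pt_eq_iff _ _ _).mpr e1]
  have e2 := lab_line h L.X L.gX AL[k].1 hm.1 (unl (tab AL[k].2.f).w2 ++ OW[a]) (by
    intro x hx
    rcases List.mem_append.mp hx with hx | hx
    · exact lw2 x hx
    · exact OW_C _ (List.getElem_mem _) x hx)
  rw [ev_append, ← mul_assoc] at e2
  rw [e2, iw_append, tr_append, tri_eq, tri_eq]

/-- the representative of a flag -/
def yk (γ g : ℕ → G) (k : Fin AL.length) : G :=
  g (tab AL[k].2.f).n1 * ev γ (unl (tab AL[k].2.f).w1)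

theorem sum_nb (h : Cx γ g) {f : G → ℂ} (hl : ∀ k ∈ sub γ isK, ∀ x, f (k * x) = f x)
    (hr : ∀ k ∈ sub γ isK, ∀ x, f (x * k) = f x) (k : Fin AL.length) :
    ∑ a : Fin OW.length, f (yk γ g k * ev γ OW[a]) =
      ∑ i : Fin 11, (cnt (LL AL[k]) i : ℂ) * f (g i) := by
  rw [← sum_cnt (fun i => f (g i)) (LL AL[k]) (LL_lt k)]
  unfold LL
  rw [← OW_eq, List.map_map, List.map_map, sum_listC]
  refine Finset.sum_congr rfl fun a _ => ?_
  rw [fval L hl hr]
  show f (g (lX (pt (sub γ isK) (yk γ g k * ev γ OW[a])))) =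
    f (g (KP AL[k].1 (tri act120 (unl (tab AL[k].2.f).w2) (tri act120 OW[a] 0))))
  rw [← lab_nb L h k a]
  rfl

open Classical in
/-- **The operator.** -/
theorem op (h : Cx γ g) [Fintype G] [Fintype (sub γ isK)] {f : G → ℂ}
    (hl : ∀ k ∈ sub γ isK, ∀ x, f (k * x) = f x)
    (hr : ∀ k ∈ sub γ isK, ∀ x, f (x * k) = f x) (x : G) :
    ∑ k : sub γ isK, f (x * k * ev γ tw) = ((Nat.card (sub γ isK) : ℂ) / 45864) *
      ∑ i : Fin 11, (TT (lX (pt (sub γ isK) x)) i : ℂ) * f (g i) := by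
  have := Fintype.ofFinite (G ⧸ sub γ isK)
  have := Fintype.ofFinite (sub γ isB)
  set t := ev γ tw with ht
  -- the function on the cosets
  let F : G ⧸ sub γ isK → ℂ := fun P => f (P.out⁻¹ * t)
  have hF : ∀ y : G, F (pt (sub γ isK) y) = f (y * t) := by
    intro y
    have h1 : y * (pt (sub γ isK) y).out ∈ sub γ isK := by
      have h2 : ((y⁻¹ : G) : G ⧸ sub γ isK) = (((pt (sub γ isK) y).out : G) : G ⧸ sub γ isK) := by
        rw [QuotientGroup.out_eq']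
        rfl
      rw [QuotientGroup.eq, inv_inv] at h2
      exact h2
    show f ((pt (sub γ isK) y).out⁻¹ * t) = f (y * t)
    rw [← hl _ h1 ((pt (sub γ isK) y).out⁻¹ * t)]
    congr 1
    group
  have hBc : ((Nat.card (sub γ isB) : ℕ) : ℂ) ≠ 0 := by
    exact_mod_cast (Nat.card_pos (α := sub γ isB)).ne'
  -- the flags
  have hS : ∀ k : Fin AL.length, (56 : ℂ) * ∑ P ∈ Finset.univ.filter (fun P => lB P = k), F P =
      (AL[k].2.N : ℂ) * ∑ i : Fin 11, (cnt (LL AL[k]) i : ℂ) * f (g i) := by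
    intro k
    have h1 := sum_label (sub γ isB) lB L.B F (pt (sub γ isK) (yk γ g k))
    have h2 : lB (pt (sub γ isK) (yk γ g k)) = k := L.gB k
    rw [h2] at h1
    have h3 : (Finset.univ.filter (fun P => lB P = k)).card = AL[k].2.N := by
      rw [← L.cB k, Nat.card_eq_fintype_card, Fintype.card_subtype]
    rw [h3] at h1
    have h4 : ∑ b : sub γ isB, F ((b : G) • pt (sub γ isK) (yk γ g k)) =
        ∑ b : sub γ isB, f (yk γ g k * b * t) := by
      rw [← Equiv.sum_comp (Equiv.inv (sub γ isB)) (fun b : sub γ isB => f (yk γ g k * b * t))]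
      refine Finset.sum_congr rfl fun b _ => ?_
      rw [smul_pt, hF]
      rfl
    rw [h4] at h1
    have h5 := sum_B L h hr (yk γ g k)
    rw [← ht, sum_nb L h hl hr k] at h5
    apply mul_left_cancel₀ hBc
    linear_combination (AL[k].2.N : ℂ) * h5 - 56 * h1
  -- the orbit of `K`
  have h6 := sum_label (sub γ isK) lX L.X F (pt (sub γ isK) x)
  set i0 := lX (pt (sub γ isK) x) with hi0
  have h7 : (Finset.univ.filter (fun P => lX P = i0)).card = bb i0 := by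
    rw [← L.cX i0, Nat.card_eq_fintype_card, Fintype.card_subtype]
  have h8 : ∑ b : sub γ isK, F ((b : G) • pt (sub γ isK) x) = ∑ b : sub γ isK, f (x * b * t) := by
    rw [← Equiv.sum_comp (Equiv.inv (sub γ isK)) (fun b : sub γ isK => f (x * b * t))]
    refine Finset.sum_congr rfl fun b _ => ?_
    rw [smul_pt, hF]
    rfl
  rw [h7, h8] at h6
  have h9 : ∑ P ∈ Finset.univ.filter (fun P => lX P = i0), F P = ∑ k : Fin AL.length,
      if (tab AL[k].2.f).n1 = i0 then ∑ P ∈ Finset.univ.filter (fun P => lB P = k), F P else 0 := by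
    rw [← Finset.sum_fiberwise (s := Finset.univ.filter (fun P => lX P = i0)) (g := fun P => lB P)]
    refine Finset.sum_congr rfl fun k _ => ?_
    rw [Finset.filter_filter]
    split_ifs with hk
    · congr 1
      ext P
      simp only [Finset.mem_filter, Finset.mem_univ, true_and]
      constructor
      · exact fun h => h.2
      · rintro rfl
        exact ⟨Fin.ext ((L.XB P).trans hk), rfl⟩
    · refine Finset.sum_eq_zero fun P hP => ?_
      obtain ⟨-, h10, rfl⟩ := Finset.mem_filter.1 hP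
      exact absurd ((L.XB P).symm.trans (congrArg Fin.val h10)) hk
  have h10 : (56 : ℂ) * ∑ P ∈ Finset.univ.filter (fun P => lX P = i0), F P =
      ∑ i : Fin 11, (MM i0 i : ℂ) * f (g i) := by
    rw [h9, Finset.mul_sum]
    have e1 : ∀ k : Fin AL.length, (56 : ℂ) * (if (tab AL[k].2.f).n1 = i0 then
        ∑ P ∈ Finset.univ.filter (fun P => lB P = k), F P else 0) =
        ∑ i : Fin 11, ((if (tab AL[k].2.f).n1 = i0 then AL[k].2.N * cnt (LL AL[k]) i else 0 : ℕ) : ℂ) *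
          f (g i) := by
      intro k
      split_ifs with hk
      · rw [hS k, Finset.mul_sum]
        refine Finset.sum_congr rfl fun i _ => ?_
        push_cast
        ring
      · simp
    rw [Finset.sum_congr rfl fun k _ => e1 k, Finset.sum_comm]
    refine Finset.sum_congr rfl fun i _ => ?_
    rw [← Finset.sum_mul, MM_sum]
    push_cast
    rfl
  have h11 : ∀ i : Fin 11, (819 : ℂ) * (MM i0 i : ℂ) = (bb i0 : ℂ) * (TT i0 i : ℂ) := by
    intro i
    exact_mod_cast MM_eq i0 i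
  have hb0 : ((bb i0 : ℕ) : ℂ) ≠ 0 := by exact_mod_cast bb_ne i0
  have h12 : (819 : ℂ) * ∑ i : Fin 11, (MM i0 i : ℂ) * f (g i) =
      (bb i0 : ℂ) * ∑ i : Fin 11, (TT i0 i : ℂ) * f (g i) := by
    rw [Finset.mul_sum, Finset.mul_sum]
    refine Finset.sum_congr rfl fun i _ => ?_
    linear_combination f (g i) * h11 i
  apply mul_left_cancel₀ hb0
  rw [h6]
  linear_combination ((Nat.card (sub γ isK) : ℂ) / 56) * h10 +
    ((Nat.card (sub γ isK) : ℂ) / 45864) * h12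

end

end Cfsg.Agent.H492.ThLine
end

-- part: H492/ThIrr
section
/-!
# Irreducible characters of the Thompson group from the orbital of length 45864 (helper492)
-/

set_option autoImplicit false
set_option linter.style.longLine false

open Cfsg

noncomputable section

namespace Cfsg.Agent.H492.ThIrr

open Cfsg.Agent.Th.Word Cfsg.Agent.Th.KOracle Cfsg.Agent.Th.COracleDef Cfsg.Agent.Th.FlagCover
open Cfsg.Agent.Th.IndexBound Cfsg.Agent.Th.IndexUpper
open Cfsg.Agent.H492.ThOrb Cfsg.Agent.H492.ThLineData Cfsg.Agent.H492.TwoSub Cfsg.Agent.H492.ThLine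

universe u

section generic

variable {G : Type u} [Group G] [Fintype G] (H : Subgroup G) {m : ℕ} (lX : G ⧸ H → Fin m)
  (hX : ∀ x y, lX x = lX y ↔ ∃ k ∈ H, k • x = y) (b : Fin m → ℕ)
  (hb : ∀ i, Nat.card {x // lX x = i} = b i)

include hX

omit [Fintype G] in
theorem lab_left {k : G} (hk : k ∈ H) (x : G) : lX (pt H (k * x)) = lX (pt H x) := by
  congr 1
  rw [pt_eq_iff]
  show k * x * x⁻¹ ∈ H
  rwa [mul_inv_cancel_right]

omit [Fintype G] in
theorem lab_right {k : G} (hk : k ∈ H) (x : G) : lX (pt H (x * k)) = lX (pt H x) := by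
  rw [hX]
  exact ⟨k, hk, by rw [smul_pt, mul_inv_cancel_right]⟩

omit [Fintype G] in
theorem lab_dec (x y : G) (e : lX (pt H x) = lX (pt H y)) : ∃ a ∈ H, ∃ c ∈ H, x = a * y * c := by
  obtain ⟨k, hk, e2⟩ := (hX _ _).1 e
  rw [smul_pt, pt_eq_iff] at e2
  exact ⟨_, e2, k, hk, by group⟩

include hb

omit hX in
theorem card_lab (i : Fin m) :
    (Finset.univ.filter (fun g : G => lX (pt H g) = i)).card = Nat.card H * b i := by
  classical
  have := Fintype.ofFinite H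
  have := Fintype.ofFinite (G ⧸ H)
  have hbF : (Finset.univ.filter (fun x => lX x = i)).card = b i := by
    rw [← hb i, Nat.card_eq_fintype_card, Fintype.card_subtype]
  have h1 : ∀ g ∈ Finset.univ.filter (fun g : G => lX (pt H g) = i),
      pt H g ∈ Finset.univ.filter (fun x => lX x = i) := by
    intro g hg
    rw [Finset.mem_filter] at hg ⊢
    exact ⟨Finset.mem_univ _, hg.2⟩
  rw [Finset.card_eq_sum_card_fiberwise h1, ← hbF, mul_comm, ← smul_eq_mul, ← Finset.sum_const]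
  refine Finset.sum_congr rfl fun x hx => ?_
  obtain ⟨y, rfl⟩ := QuotientGroup.mk_surjective x
  have hy : ((y : G) : G ⧸ H) = pt H y⁻¹ := by
    unfold pt
    rw [inv_inv]
  rw [hy] at hx ⊢
  rw [Nat.card_eq_fintype_card, ← Finset.card_univ]
  symm
  refine Finset.card_bij (fun (k : H) _ => (k : G) * y⁻¹) ?_ ?_ ?_
  · intro k _
    rw [Finset.mem_filter, Finset.mem_filter]
    have e1 : pt H ((k : G) * y⁻¹) = pt H y⁻¹ := by
      rw [pt_eq_iff]
      show (k : G) * y⁻¹ * (y⁻¹)⁻¹ ∈ H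
      rw [mul_inv_cancel_right]
      exact k.2
    refine ⟨⟨Finset.mem_univ _, ?_⟩, e1⟩
    rw [e1]
    exact (Finset.mem_filter.1 hx).2
  · intro k _ k' _ e
    exact Subtype.ext (mul_right_cancel e)
  · intro g hg
    rw [Finset.mem_filter, pt_eq_iff] at hg
    exact ⟨⟨g * (y⁻¹)⁻¹, hg.2⟩, Finset.mem_univ _, inv_mul_cancel_right _ _⟩

theorem lab_inv (hbi : Function.Injective b) (x : G) : lX (pt H x⁻¹) = lX (pt H x) := by
  classical
  have h1 : ∀ g g', lX (pt H g) = lX (pt H g') → lX (pt H g⁻¹) = lX (pt H g'⁻¹) := by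
    intro g g' e
    obtain ⟨x, hx, y, hy, e2⟩ := lab_dec H lX hX g g' e
    rw [e2, mul_inv_rev, mul_inv_rev, lab_left H lX hX (H.inv_mem hy),
      lab_right H lX hX (H.inv_mem hx)]
  have h2 : (Finset.univ.filter (fun y : G => lX (pt H y) = lX (pt H x⁻¹))).card =
      (Finset.univ.filter (fun y : G => lX (pt H y⁻¹) = lX (pt H x⁻¹))).card := by
    refine Finset.card_bij (fun x _ => x⁻¹) ?_ ?_ ?_
    · intro x hx
      rw [Finset.mem_filter] at hx ⊢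
      exact ⟨Finset.mem_univ _, by rw [inv_inv]; exact hx.2⟩
    · intro x _ x' _ e
      exact inv_injective e
    · intro x hx
      rw [Finset.mem_filter] at hx
      exact ⟨x⁻¹, by rw [Finset.mem_filter]; exact ⟨Finset.mem_univ _, hx.2⟩, inv_inv x⟩
  have h3 : Finset.univ.filter (fun y : G => lX (pt H y) = lX (pt H x)) =
      Finset.univ.filter (fun y : G => lX (pt H y⁻¹) = lX (pt H x⁻¹)) := by
    ext y
    rw [Finset.mem_filter, Finset.mem_filter]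
    constructor
    · rintro ⟨-, hx⟩
      exact ⟨Finset.mem_univ _, h1 _ _ hx⟩
    · rintro ⟨-, hx⟩
      refine ⟨Finset.mem_univ _, ?_⟩
      have := h1 _ _ hx
      rwa [inv_inv, inv_inv] at this
  rw [← h3, card_lab H lX b hb, card_lab H lX b hb] at h2
  exact hbi (Nat.eq_of_mul_eq_mul_left Nat.card_pos h2)

end generic

/-- **Irreducible characters of the Thompson group.** -/
theorem irr {G : Type u} [Group G] {γ g : ℕ → G} (h : Cx γ g)
    (hind : (sub γ isK).index = 143127000) [Finite G] (v : Fin 11 → ℂ) (μ κ : ℂ) (hv0 : v 0 = 1)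
    (hv : ∀ i, ∑ j, (TT i j : ℂ) * v j = μ * v i)
    (hu : ∀ x : Fin 11 → ℂ, (∀ i, ∑ j, (TT i j : ℂ) * x j = μ * x i) → ∀ i, x i = x 0 * v i)
    (hκ : ∑ i, (bb i : ℂ) * v i ^ 2 = κ) (hκ0 : κ ≠ 0) :
    ∃ χ : IrrCharacter G, (χ : G → ℂ) 1 * κ = 143127000 ∧
      (∀ σ : ℂ →+* ℂ, (∀ i, σ (v i) = v i) → ∀ x, σ ((χ : G → ℂ) x) = (χ : G → ℂ) x) := by
  classical
  have := Fintype.ofFinite G
  have := Fintype.ofFinite (sub γ isK)
  obtain ⟨lX, lY, lB, L⟩ := exists_labs h hind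
  have hg0 : g ((0 : Fin 11) : ℕ) = 1 := h.N.g0
  have hNc : ((Nat.card (sub γ isK) : ℂ) / 45864) ≠ 0 := by
    have : ((Nat.card (sub γ isK) : ℕ) : ℂ) ≠ 0 := by exact_mod_cast Nat.card_pos.ne'
    exact div_ne_zero this (by norm_num)
  obtain ⟨χ, h1, h2, -⟩ := SphVal.exists_irr_of_lab_val (sub γ isK) (ev γ tw)
    (fun x => lX (pt (sub γ isK) x)) (fun i : Fin 11 => g i)
    (fun k hk x => lab_left _ lX L.X hk x) (fun k hk x => lab_right _ lX L.X hk x)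
    (fun x => lab_dec _ lX L.X x _ (L.gX _).symm)
    (lab_inv _ lX L.X bb L.cX bb_inj) _ hNc (fun i j => (TT i j : ℂ))
    (fun f hl hr x => op L h hl hr x) L.gX bb (card_lab _ lX bb L.cX) 0 hg0 v μ hv0 hv hu hκ hκ0
  refine ⟨χ, ?_, h2⟩
  rw [h1, hind]
  norm_num

end Cfsg.Agent.H492.ThIrr
end
end

-- part: H492/ThRat
section
/-!
# Rational irreducible characters of the Thompson group (helper492)

The constituents of degrees 4123, 30875, 2450240 and 3376737 of the permutation character on the 143127000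
cosets of `3D4(2):3`, with rational values.
-/

set_option autoImplicit false
set_option linter.style.longLine false
set_option linter.unusedSimpArgs false

open Cfsg

noncomputable section

namespace Cfsg.Agent.H492.ThRat

open Cfsg.Agent.H492.ThOrb Cfsg.Agent.H492.ThLineData Cfsg.Agent.Th.Word Cfsg.Agent.Th.KOracle
  Cfsg.Agent.Th.COracleDef Cfsg.Agent.Th.IndexUpper


universe u

theorem main (v : Fin 11 → ℂ) (μ κ : ℂ) (hv0 : v 0 = 1)
    (hv : ∀ i, ∑ j, (TT i j : ℂ) * v j = μ * v i)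
    (hu : ∀ x : Fin 11 → ℂ, (∀ i, ∑ j, (TT i j : ℂ) * x j = μ * x i) → ∀ i, x i = x 0 * v i)
    (hκ : ∑ i, (bb i : ℂ) * v i ^ 2 = κ) (hκ0 : κ ≠ 0) :
    ∃ χ : IrrCharacter Cfsg.Spor.Th, (χ : Cfsg.Spor.Th → ℂ) 1 * κ = 143127000 ∧
      (∀ σ : ℂ →+* ℂ, (∀ i, σ (v i) = v i) → ∀ x,
        σ ((χ : Cfsg.Spor.Th → ℂ) x) = (χ : Cfsg.Spor.Th → ℂ) x) := by
  obtain ⟨hf, -, -, hind⟩ := Cfsg.Agent.Th.Main1700.final
  obtain ⟨g, hcx⟩ := Cfsg.Agent.Th.Main475.exists_cx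
  exact ThIrr.irr hcx hind v μ κ hv0 hv hu hκ hκ0

private theorem mainQ (v : Fin 11 → ℚ) (μ κ : ℚ) (C : Fin 11 → Fin 11 → ℚ) (d : ℕ)
    (h : v 0 = 1 ∧ (∀ i, ∑ j, (TT i j : ℚ) * v j = μ * v i) ∧
      (∀ i k, ∑ j, C i j * ((TT j k : ℚ) - if j = k then μ else 0) =
        (if i = k then 1 else 0) - if k = 0 then v i else 0) ∧
      ∑ i, (bb i : ℚ) * v i ^ 2 = κ ∧ κ ≠ 0 ∧ d * κ = 143127000) :
    ∃ χ : IrrCharacter Cfsg.Spor.Th, (χ : Cfsg.Spor.Th → ℂ) 1 = (d : ℕ) ∧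
      ∀ σ : ℂ →+* ℂ, ∀ x, σ ((χ : Cfsg.Spor.Th → ℂ) x) = (χ : Cfsg.Spor.Th → ℂ) x := by
  obtain ⟨h0, h1, h2, h3, h4, h5⟩ := h
  have hκ : (κ : ℂ) ≠ 0 := by exact_mod_cast h4
  obtain ⟨χ, hχ, hσ⟩ := main (fun i => (v i : ℂ)) μ κ (by exact_mod_cast h0) (fun i => by exact_mod_cast h1 i)
    (fun x hx i => by
      have e : ∀ k, ∑ j, (C i j : ℂ) * ((TT j k : ℂ) - if j = k then (μ : ℂ) else 0) =
          (if i = k then 1 else 0) - if k = 0 then (v i : ℂ) else 0 := fun k => by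
        have := congrArg (Rat.cast : ℚ → ℂ) (h2 i k)
        simpa only [Rat.cast_sum, Rat.cast_mul, Rat.cast_sub, Rat.cast_natCast, apply_ite (Rat.cast : ℚ → ℂ),
          Rat.cast_zero, Rat.cast_one] using this
      have z : ∑ k, (∑ j, (C i j : ℂ) * ((TT j k : ℂ) - if j = k then (μ : ℂ) else 0)) * x k = 0 := by
        simp only [Finset.sum_mul]
        rw [Finset.sum_comm]
        refine Finset.sum_eq_zero fun j _ => ?_
        simp only [mul_assoc, ← Finset.mul_sum, sub_mul, Finset.sum_sub_distrib, ite_mul, zero_mul, Finset.sum_ite_eq,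
          Finset.mem_univ, if_true, hx j, sub_self, mul_zero]
      simp only [e, sub_mul, Finset.sum_sub_distrib, ite_mul, one_mul, zero_mul, Finset.sum_ite_eq, Finset.sum_ite_eq',
        Finset.mem_univ, if_true] at z
      exact (sub_eq_zero.1 z).trans (mul_comm _ _))
    (by exact_mod_cast h3) hκ
  exact ⟨χ, mul_right_cancel₀ hκ (hχ.trans (by exact_mod_cast h5.symm)), fun σ => hσ σ fun i => map_ratCast σ _⟩

/-! ### degree 4123 -/

theorem val_4123 :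
    ∃ χ : IrrCharacter Cfsg.Spor.Th, (χ : Cfsg.Spor.Th → ℂ) 1 = (4123 : ℕ) ∧
      ∀ σ : ℂ →+* ℂ, ∀ x, σ ((χ : Cfsg.Spor.Th → ℂ) x) = (χ : Cfsg.Spor.Th → ℂ) x :=
  mainQ (fun i => mkRat (([28, 4, -4, 0, 1, 0, 0, -1, 1, 0, -1] : List ℤ).getD i 0) 28) (mkRat 6552 1) (mkRat 243000 7)
    (fun i j => mkRat ((([[0, 0, 0, 0, 0, 0, 0, 0, 0, 0, 0],
      [1, 0, 0, 0, 0, 0, 0, 0, 0, 0, 0],
      [-297715383895, -2592880833816, -2241575331849, -823924579968, -2223833980928, 241698221568, 4200588467712, 2712025276416, -16347515756544, 17769560094720, 0],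
      [-22306571, -146152653192, -151173900045, -75038622970752, -4380726246400, 142329512448, 24219179712000, 14271697317888, 6514168163328, 45669256786944, 0],
      [19599215399, 148162046760, 739335681, -46408590144, -540554739200, 911122560, 113126884416, 58630868928, 302896109376, 30992455872, 0],
      [88875731, 582313789512, -6881727195, 498153293568, 4370500943872, -21152335659264, 1828763419392, -11174899968, 39142116921600, -22080135409920, 0],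
      [412919269, 2705447050488, 35604472995, 24219179712000, 27383870259200, 522503834112, -345463271951616, -50720587257600, 128273112205056, 257443462418688, 0],
      [-38104000625507, -308507849205192, -4021792337493, 71840571812352, -116091501998080, 31921720939008, 164401722890496, -1183038309584640, -921146496125184, 2486687687979264, 0],
      [4233555290915, 32820460617672, 158732069013, 5289312655872, 13082544971776, 178479465984, -14958499675392, -3868069655808, -39138232234752, 21230173778688, 0],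
      [614327945, 4025076695640, -28607086305, 15223085595648, 29366586554368, -2102870039040, 85814487472896, 8011595775744, 278835082299648, -241546116946176, 0],
      [-2381783555003, -21139336809864, 148608802251, -1753831838304, -22312164469504, 1996504421184, 32465364605856, 50951211004512, -171380973595104, 144902761043040, 0]] : List (List ℤ)).getD i []).getD j 0)
      (([1, 45864, 13636268201123568, 436360582435954176, 3591445122929664, 124674452124558336, 1745442329743816704, 6981769318975266816, 775752146552807424, 6981769318975266816, 436360582435954176] : List ℕ).getD i 0)) 4123 (by decide +kernel)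

/-! ### degree 30875 -/

theorem val_30875 :
    ∃ χ : IrrCharacter Cfsg.Spor.Th, (χ : Cfsg.Spor.Th → ℂ) 1 = (30875 : ℕ) ∧
      ∀ σ : ℂ →+* ℂ, ∀ x, σ ((χ : Cfsg.Spor.Th → ℂ) x) = (χ : Cfsg.Spor.Th → ℂ) x :=
  mainQ (fun i => mkRat (([40768, 2080, 1088, -648, -245, -1764, 468, 623, 313, -90, 65] : List ℤ).getD i 0) 40768) (mkRat 2340 1) (mkRat 60264 13)
    (fun i j => mkRat ((([[0, 0, 0, 0, 0, 0, 0, 0, 0, 0, 0],
      [1, 0, 0, 0, 0, 0, 0, 0, 0, 0, 0],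
      [34145063, -1444486680, -1774250163, 41010205824, 11298004480, 7870770432, -127130605056, -80861421312, -97869881088, 248935680000, 0],
      [-680291741, -41562988740, -3300346539, 530145024192, 168148729280, 103277232576, -1764070334208, -1169816328576, -1155560301504, 3335696199360, 0],
      [-14617, -1385280, -119178, 23445324, 4673440, 4238712, -72152496, -48244032, -45929088, 135613440, 0],
      [-74744017, -2643256980, -134656263, 22106970144, 6926153920, 1516521312, -65519659296, -44782258752, -38436064128, 121136420160, 0],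
      [15162463, 1028614860, 77288337, -15139819296, -4448392480, -2669411808, 44677773504, 30592543968, 30582058752, -84647656800, 0],
      [370120591, 14363343540, 730339659, -165785373432, -55324692640, -26690879376, 516193449408, 314476598016, 286011530784, -883083448800, 0],
      [72427189, 3070136160, 162387666, -27344764188, -7006921600, -4919771304, 83645066232, 56337954624, 53725625856, -157247969760, 0],
      [-74968241, -3167941140, -184189383, 33909336720, 10175016992, 5781446496, -98077503888, -67514658624, -62510444640, 183460642848, 0],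
      [19937233, -1196247780, -67977063, 37071423144, 10774927520, 6415152912, -113394795696, -65827484352, -80090807328, 206984302560, 0]] : List (List ℤ)).getD i []).getD j 0)
      (([1, 45864, 3048005060100, 97536161923200, 5460998400, 3981067833600, 3001112674560, 55734949670400, 21674702649600, 78028929538560, 30011126745600] : List ℕ).getD i 0)) 30875 (by decide +kernel)

/-! ### degree 2450240 -/

theorem val_2450240 :
    ∃ χ : IrrCharacter Cfsg.Spor.Th, (χ : Cfsg.Spor.Th → ℂ) 1 = (2450240 : ℕ) ∧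
      ∀ σ : ℂ →+* ℂ, ∀ x, σ ((χ : Cfsg.Spor.Th → ℂ) x) = (χ : Cfsg.Spor.Th → ℂ) x :=
  mainQ (fun i => mkRat (([34944, 384, -896, 64, 114, -56, 4, 49, -21, -1, -26] : List ℤ).getD i 0) 34944) (mkRat 504 1) (mkRat 6075 104)
    (fun i j => mkRat ((([[0, 0, 0, 0, 0, 0, 0, 0, 0, 0, 0],
      [1, 0, 0, 0, 0, 0, 0, 0, 0, 0, 0],
      [-4914391, -1764800856, -1618045065, -10298171520, 8200192, -3418661376, -23855150592, 6746747904, 7448103936, 26757319680, 0],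
      [140916479, 14057728776, 21126546441, 302422813056, 63309116416, -2758758912, 552948125184, -172145046528, -211388276736, -567028740096, 0],
      [179057579, 50159117736, 43091389341, 364339213056, 2049488896, 80004008448, 742957173504, -208742946048, -242230899456, -831535600896, 0],
      [-138421351, -58371525576, -57389330817, -452204363520, -36516386816, -115987023360, -955038180096, 229605352704, 273979060992, 1172217795840, 0],
      [-807698461, -464044200984, -305355534939, -1613022937344, -62761846784, -932396355072, -4078002329856, 932839794432, 1652708139264, 4881812592384, 0],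
      [2126243861, 672877669464, 512120635299, 3907208358144, 216254531584, 1110936632832, 8775213947136, -2235877592832, -3203559201024, -9751040941824, 0],
      [-7697081, -1769544504, -1647779679, -14464929024, -339748864, -3094820352, -29168246016, 8119118592, 9751682304, 32699407104, 0],
      [26226041, 24610759992, 16192118943, 68170781952, -4408162304, 64221341184, 189058012416, -36367688448, -66315674880, -246410760960, 0],
      [-263381171, -75779933544, -57228618069, -493777638144, -38010025984, -123472968192, -1079648269056, 284836269312, 392031247104, 1193002401024, 0]] : List (List ℤ)).getD i []).getD j 0)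
      (([1, 45864, 27770036112, 31102440445440, 12287383879680, 7109129244672, 497639047127040, 284365169786880, 3510681108480, 398111237701632, 76559853404160] : List ℕ).getD i 0)) 2450240 (by decide +kernel)

/-! ### degree 3376737 -/

theorem val_3376737 :
    ∃ χ : IrrCharacter Cfsg.Spor.Th, (χ : Cfsg.Spor.Th → ℂ) 1 = (3376737 : ℕ) ∧
      ∀ σ : ℂ →+* ℂ, ∀ x, σ ((χ : Cfsg.Spor.Th → ℂ) x) = (χ : Cfsg.Spor.Th → ℂ) x :=
  mainQ (fun i => mkRat (([122304, 1632, -832, -280, -87, 980, -100, 77, 3, 10, -13] : List ℤ).getD i 0) 122304) (mkRat 612 1) (mkRat 27000 637)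
    (fun i j => mkRat ((([[0, 0, 0, 0, 0, 0, 0, 0, 0, 0, 0],
      [1, 0, 0, 0, 0, 0, 0, 0, 0, 0, 0],
      [-128665, -38423448, -26789427, 169174656, 102785536, -107364096, 51480576, 44368128, -12079872, -182891520, 0],
      [-322247, 609175476, -184827825, -9194762304, -1976228800, 1924243776, -12774827520, 3752251776, 2565291456, 15287807808, 0],
      [152563, 136674720, -20099898, -1432539108, -449569120, 367599960, -2006183088, 580821696, 409473792, 2415014784, 0],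
      [600707, -438757956, 56326725, 5331414816, 1217454784, -1479917088, 7194960864, -2587830336, -1845567360, -7446479040, 0],
      [-7211557, -381519684, -577972395, -16486273440, -4200428960, 1135409184, -25021930752, 6981418080, 10616965632, 28050605856, 0],
      [4192879, 1679012244, -123334029, -12779132184, -3305979040, 3792310704, -15274913472, 5167169280, 904988448, 19966800672, 0],
      [-81635, -54440568, 10678668, 669866652, 197602496, -173625816, 940380168, -275428608, -179542272, -1131373152, 0],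
      [959975, -218885940, 139225905, 5703738768, 1302884128, -723733920, 8147923056, -2378690496, -2279807712, -9475685856, 0],
      [-922211, -483754068, 77791077, 4485530952, 1119440672, -1241482032, 5601454992, -1714015296, -688792608, -7138484640, 0]] : List (List ℤ)).getD i []).getD j 0)
      (([1, 45864, 5926971204, 352231431552, 60879506688, 100637551872, 4931240041728, 1408925726208, 182638520064, 9862480083456, 758652314112] : List ℕ).getD i 0)) 3376737 (by decide +kernel)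

end Cfsg.Agent.H492.ThRat
end
end
end
end
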